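import Cfsg.Agent.Lib.C7S.Form

/-!
# Unipotent elements of an overgroup

`InM M X` says `1 + X ∈ M`; `HasRoots M` that `M` contains all `1 ⊗ (transvection) ⊗ 1`, hence all
products `1 ⊗ B ⊗ 1` of transvections `B ∈ SpGen`.
-/

set_option autoImplicit false
set_option linter.unusedSectionVars false

namespace Cfsg.Agent.C7S

open Matrix Module Cfsg.Agent.Transvect
open Cfsg.Agent.C7 (J T ct ins T_apply ct_T lin_ext kr app_kr gl_ext_T kr_mul kr_one kr_inv)
open scoped MatrixGroups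

variable {F : Type*} [Field F] {k n : ℕ}

section

variable {ι : Type} [Fintype ι] [DecidableEq ι]

/-- The operator of an invertible matrix. -/
def eo : GL ι F →* Module.End F (ι → F) where
  toFun g := (app g).toLinearMap
  map_one' := by ext x; simp
  map_mul' g h := LinearMap.ext fun x => by
    simp only [map_mul, LinearEquiv.coe_coe, Module.End.mul_apply, LinearEquiv.mul_apply]

lemma eo_apply (g : GL ι F) (x : ι → F) : eo g x = app g x := rfl

lemma eo_inj {g h : GL ι F} (e : eo g = eo h) : g = h := gl_ext fun x => LinearMap.congr_fun e x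

lemma eo_mul_inv (g : GL ι F) : eo g * eo g⁻¹ = 1 := by rw [← map_mul, mul_inv_cancel, map_one]

lemma eo_inv_mul (g : GL ι F) : eo g⁻¹ * eo g = 1 := by rw [← map_mul, inv_mul_cancel, map_one]

lemma eo_inv_of_sq {g : GL ι F} {X : Module.End F (ι → F)} (h : eo g = 1 + X) (hX : X * X = 0) :
    eo g⁻¹ = 1 - X := by
  calc eo g⁻¹ = eo g⁻¹ * ((1 + X) * (1 - X)) := by
        rw [show (1 + X) * (1 - X) = 1 by simp [add_mul, mul_sub, hX]]; rw [mul_one]
    _ = 1 - X := by rw [← mul_assoc, ← h, eo_inv_mul, one_mul]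

/-- Conjugation of an operator. -/
def cj (g : GL ι F) (X : Module.End F (ι → F)) : Module.End F (ι → F) := eo g * X * eo g⁻¹

lemma cj_apply (g : GL ι F) (X : Module.End F (ι → F)) (x : ι → F) :
    cj g X x = app g (X (app g⁻¹ x)) := rfl

lemma cj_mul (g : GL ι F) (X Y : Module.End F (ι → F)) : cj g (X * Y) = cj g X * cj g Y := by
  simp only [cj]
  rw [show eo g * X * eo g⁻¹ * (eo g * Y * eo g⁻¹) = eo g * X * (eo g⁻¹ * eo g) * Y * eo g⁻¹ by
    noncomm_ring, eo_inv_mul]
  noncomm_ring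

lemma cj_add (g : GL ι F) (X Y : Module.End F (ι → F)) : cj g (X + Y) = cj g X + cj g Y := by
  simp [cj, mul_add, add_mul]

lemma cj_smul (g : GL ι F) (r : F) (X : Module.End F (ι → F)) : cj g (r • X) = r • cj g X := by
  simp [cj, mul_smul_comm, smul_mul_assoc]

lemma cj_one (g : GL ι F) : cj g 1 = 1 := by rw [cj, mul_one, eo_mul_inv]

lemma cj_cj (g h : GL ι F) (X : Module.End F (ι → F)) : cj g (cj h X) = cj (g * h) X := by
  simp only [cj, _root_.mul_inv_rev, map_mul, mul_assoc]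

lemma cj_one_left (X : Module.End F (ι → F)) : cj 1 X = X := by simp [cj]

lemma eo_conj {g h : GL ι F} {X : Module.End F (ι → F)} (e : eo h = 1 + X) :
    eo (g * h * g⁻¹) = 1 + cj g X := by
  rw [map_mul, map_mul, e, mul_add, add_mul, mul_one, eo_mul_inv]; rfl

lemma range_cj (g : GL ι F) (X : Module.End F (ι → F)) :
    LinearMap.range (cj g X) = (LinearMap.range X).map (app g).toLinearMap := by
  refine le_antisymm ?_ ?_
  · rintro _ ⟨x, rfl⟩
    exact ⟨_, ⟨_, rfl⟩, rfl⟩
  · rintro _ ⟨_, ⟨x, rfl⟩, rfl⟩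
    exact ⟨app g x, by rw [cj_apply, app_inv_app]; rfl⟩

/-- `1 + X ∈ M`. -/
def InM (M : Subgroup (GL ι F)) (X : Module.End F (ι → F)) : Prop := ∃ g ∈ M, eo g = 1 + X

variable {M : Subgroup (GL ι F)} {X Y : Module.End F (ι → F)}

lemma InM.zero (M : Subgroup (GL ι F)) : InM M 0 := ⟨1, one_mem M, by simp⟩

lemma InM.add (hX : InM M X) (hY : InM M Y) (h : X * Y = 0) : InM M (X + Y) := by
  obtain ⟨g, hg, eg⟩ := hX
  obtain ⟨g', hg', eg'⟩ := hY
  exact ⟨g * g', mul_mem hg hg', by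
    rw [map_mul, eg, eg']
    simp only [mul_add, add_mul, one_mul, mul_one, h]
    abel⟩

lemma InM.neg (hX : InM M X) (h : X * X = 0) : InM M (-X) := by
  obtain ⟨g, hg, eg⟩ := hX
  exact ⟨g⁻¹, inv_mem hg, by rw [eo_inv_of_sq eg h, sub_eq_add_neg]⟩

lemma InM.sub (hX : InM M X) (hY : InM M Y) (hYY : Y * Y = 0) (h : X * Y = 0) : InM M (X - Y) := by
  rw [sub_eq_add_neg]
  exact hX.add (hY.neg hYY) (LinearMap.ext fun x => by
    show X (-(Y x)) = 0
    rw [map_neg, show X (Y x) = 0 from LinearMap.congr_fun h x, neg_zero])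

lemma InM.conj (hX : InM M X) {g : GL ι F} (hg : g ∈ M) : InM M (cj g X) := by
  obtain ⟨h, hh, e⟩ := hX
  exact ⟨g * h * g⁻¹, mul_mem (mul_mem hg hh) (inv_mem hg), eo_conj e⟩

/-- The commutator of two unipotent elements. -/
lemma InM.comm (hX : InM M X) (hY : InM M Y) (hXX : X * X = 0) (hYY : Y * Y = 0)
    (hXYX : X * Y * X = 0) (hYXY : Y * X * Y = 0) : InM M (X * Y - Y * X) := by
  obtain ⟨g, hg, eg⟩ := hX
  obtain ⟨h, hh, eh⟩ := hY
  refine ⟨g * h * g⁻¹ * h⁻¹, mul_mem (mul_mem (mul_mem hg hh) (inv_mem hg)) (inv_mem hh), ?_⟩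
  rw [map_mul, map_mul, map_mul, eg, eh, eo_inv_of_sq eg hXX, eo_inv_of_sq eh hYY]
  simp only [mul_add, add_mul, mul_sub, sub_mul, one_mul, mul_one, ← mul_assoc, hXX, hYY, hXYX, hYXY,
    zero_mul, sub_zero, zero_sub, add_zero, zero_add, show X * Y * Y = 0 by rw [mul_assoc, hYY, mul_zero],
    show Y * X * X = 0 by rw [mul_assoc, hXX, mul_zero]]
  abel

end

namespace Sf

variable (S : Sf F k)

/-- `g` preserves the power form. -/
def Iso (n : ℕ) (g : GL (J k n) F) : Prop := ∀ x y, S.pw n (app g x) (app g y) = S.pw n x y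

lemma Iso.symm_left {g : GL (J k n) F} (h : S.Iso n g) (x y : J k n → F) :
    S.pw n (app g⁻¹ x) y = S.pw n x (app g y) := by rw [← h, app_app_inv]

/-- `X` is skew. -/
def Skew (n : ℕ) (X : Module.End F (J k n → F)) : Prop := ∀ x y, S.pw n (X x) y = -S.pw n x (X y)

lemma skew_of_iso {g : GL (J k n) F} (h : S.Iso n g) {X : Module.End F (J k n → F)}
    (e : eo g = 1 + X) (hX : X * X = 0) : S.Skew n X := fun x y => by
  have h1 := h (app g⁻¹ x) y
  have e1 : app g⁻¹ x = x - X x := LinearMap.congr_fun (eo_inv_of_sq e hX) x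
  have e2 : app g y = y + X y := LinearMap.congr_fun e y
  rw [app_app_inv, e1, e2, map_sub, LinearMap.sub_apply, map_add] at h1
  linear_combination h1

lemma Skew.eq_zero {X : Module.End F (J k n → F)} (h : S.Skew n X) {z : J k n → F}
    (hz : ∀ w ∈ LinearMap.range X, S.pw n w z = 0) : X z = 0 :=
  S.pw_nd fun y => by rw [h, S.pw_comm (X y) z, hz _ ⟨y, rfl⟩, mul_zero, neg_zero]

lemma Skew.perp {X : Module.End F (J k n → F)} (h : S.Skew n X) {z w : J k n → F} (hz : X z = 0)
    (hw : w ∈ LinearMap.range X) : S.pw n w z = 0 := by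
  obtain ⟨v, rfl⟩ := hw
  rw [h, hz, map_zero, neg_zero]

/-! ### Transvections -/

/-- The transvection `x ↦ x + c f(u,x) u`. -/
noncomputable def tr (u : Fin k → F) (c : F) : GL (Fin k) F := tv u (c • S.f u)

lemma tr_apply (u : Fin k → F) (c : F) (x : Fin k → F) :
    app (S.tr u c) x = x + (c * S.f u x) • u := by
  rw [tr, tv_apply (by simp [S.alt]), LinearMap.smul_apply, smul_eq_mul]

lemma tr_iso (u : Fin k → F) (c : F) (x y : Fin k → F) :
    S.f (app (S.tr u c) x) (app (S.tr u c) y) = S.f x y := by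
  simp only [tr_apply, map_add, map_smul, LinearMap.add_apply, LinearMap.smul_apply, smul_eq_mul,
    S.alt, S.skew x u]
  ring

lemma tr_inv (u : Fin k → F) (c : F) : (S.tr u c)⁻¹ = S.tr u (-c) := by
  rw [tr, tr, tv_inv (by simp [S.alt])]; congr 1; ext x; simp

/-- The group generated by the transvections. -/
noncomputable def spGen : Subgroup (GL (Fin k) F) :=
  Subgroup.closure (Set.range fun p : (Fin k → F) × F => S.tr p.1 p.2)

lemma tr_mem (u : Fin k → F) (c : F) : S.tr u c ∈ S.spGen := Subgroup.subset_closure ⟨(u, c), rfl⟩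

lemma spGen_iso {B : GL (Fin k) F} (hB : B ∈ S.spGen) (x y : Fin k → F) :
    S.f (app B x) (app B y) = S.f x y := by
  induction hB using Subgroup.closure_induction generalizing x y with
  | mem B hB => obtain ⟨⟨u, c⟩, rfl⟩ := hB; exact S.tr_iso u c x y
  | one => simp
  | mul A B _ _ hA hB => simp only [map_mul, LinearEquiv.mul_apply]; rw [hA, hB]
  | inv A _ hA => rw [← hA, app_app_inv, app_app_inv]

/-- The Eichler element of `b ⊥ z`. -/
noncomputable def eA (b z : Fin k → F) : GL (Fin k) F := S.tr (b + z) 1 * S.tr b (-1) * S.tr z (-1)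

lemma eA_mem (b z : Fin k → F) : S.eA b z ∈ S.spGen :=
  mul_mem (mul_mem (S.tr_mem _ _) (S.tr_mem _ _)) (S.tr_mem _ _)

lemma eA_apply {b z : Fin k → F} (h : S.f b z = 0) (x : Fin k → F) :
    app (S.eA b z) x = x + S.f z x • b + S.f b x • z := by
  simp only [eA, map_mul, LinearEquiv.mul_apply, tr_apply, map_add, map_smul, LinearMap.add_apply,
    smul_eq_mul, S.alt, h, S.zero_comm h]
  module

lemma exists_move {u v : Fin k → F} (hu : u ≠ 0) (hv : v ≠ 0) :
    ∃ B ∈ S.spGen, app B u = v := by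
  have one : ∀ u v : Fin k → F, S.f u v ≠ 0 → ∃ B ∈ S.spGen, app B u = v := fun u v h =>
    ⟨S.tr (v - u) (-(S.f u v)⁻¹), S.tr_mem _ _, by
      rw [tr_apply, map_sub, LinearMap.sub_apply, S.alt, S.skew v u, sub_zero, neg_mul_neg,
        inv_mul_cancel₀ h, one_smul, add_sub_cancel]⟩
  obtain ⟨w, hw, hw'⟩ : ∃ w, S.f u w ≠ 0 ∧ S.f v w ≠ 0 := by
    obtain ⟨a, ha⟩ := S.exists_dual hu
    obtain ⟨b, hb⟩ := S.exists_dual hv
    by_cases h1 : S.f v a = 0
    · by_cases h2 : S.f u b = 0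
      · exact ⟨a + b, by simp [ha, h2], by simp [hb, h1]⟩
      · exact ⟨b, h2, by simp [hb]⟩
    · exact ⟨a, by simp [ha], h1⟩
  obtain ⟨A, hA, ea⟩ := one u w hw
  obtain ⟨B, hB, eb⟩ := one w v (by rw [S.skew, neg_ne_zero]; exact hw')
  exact ⟨B * A, mul_mem hB hA, by rw [map_mul, LinearEquiv.mul_apply, ea, eb]⟩

/-! ### Position elements -/

lemma bk_one_sq (i : Fin (n + 1)) (u : Fin k → F) (c : F) :
    (c • S.bk i u u 1) * (c • S.bk i u u 1) = 0 := by
  rw [smul_mul_smul_comm, S.bk_mul, S.alt, zero_smul, smul_zero]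

lemma eo_kr_tr (i : Fin (n + 1)) (u : Fin k → F) (c : F) :
    eo (kr i 1 (S.tr u c)) = 1 + c • S.bk i u u 1 :=
  lin_ext i fun a q => by
    rw [eo_apply, app_kr, tr_apply, LinearMap.add_apply, LinearMap.smul_apply, S.bk_T]
    simp [mul_smul, map_add, map_smul]

/-- `M` contains all position transvections. -/
def HasRoots (M : Subgroup (GL (J k (n + 1)) F)) : Prop :=
  ∀ (i : Fin (n + 1)) (u : Fin k → F) (c : F), kr i 1 (S.tr u c) ∈ M

variable {S} {M : Subgroup (GL (J k (n + 1)) F)}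

lemma HasRoots.inM (h : S.HasRoots M) (i : Fin (n + 1)) (u : Fin k → F) (c : F) :
    InM M (c • S.bk i u u 1) :=
  ⟨_, h i u c, S.eo_kr_tr i u c⟩

lemma HasRoots.kr_mem (h : S.HasRoots M) (i : Fin (n + 1)) {B : GL (Fin k) F} (hB : B ∈ S.spGen) :
    kr i 1 B ∈ M := by
  induction hB using Subgroup.closure_induction with
  | mem B hB => obtain ⟨⟨u, c⟩, rfl⟩ := hB; exact h i u c
  | one => rw [kr_one]; exact one_mem M
  | mul A B _ _ hA hB =>
    rw [show kr i (1 : GL (J k n) F) (A * B) = kr i 1 A * kr i 1 B by rw [kr_mul, one_mul]]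
    exact mul_mem hA hB
  | inv A _ hA =>
    rw [show kr i (1 : GL (J k n) F) A⁻¹ = (kr i 1 A)⁻¹ by rw [kr_inv, inv_one]]
    exact inv_mem hA

variable (S)

/-- Conjugation of a position operator by an element carrying one splitting to another. -/
lemma cj_bk {i l : Fin (n + 1)} {g : GL (J k (n + 1)) F} {A : GL (J k n) F} {B : GL (Fin k) F}
    (hg : ∀ a q, app g (T i a q) = T l (app A a) (app B q))
    (hB : ∀ x y, S.f (app B x) (app B y) = S.f x y) (b c : Fin k → F)
    (U : Module.End F (J k n → F)) :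
    cj g (S.bk i b c U) = S.bk l (app B b) (app B c) (cj A U) := by
  have h : eo g * S.bk i b c U = S.bk l (app B b) (app B c) (cj A U) * eo g :=
    lin_ext i fun a q => by
      simp only [Module.End.mul_apply, eo_apply, hg, S.bk_T, map_smul, hB, cj_apply, app_inv_app]
  rw [cj, h, mul_assoc, eo_mul_inv, mul_one]

lemma cj_bk_kr (i : Fin (n + 1)) {B : GL (Fin k) F} (hB : B ∈ S.spGen) (b c : Fin k → F)
    (U : Module.End F (J k n → F)) :
    cj (kr i 1 B) (S.bk i b c U) = S.bk i (app B b) (app B c) U := by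
  rw [S.cj_bk (A := 1) (fun a q => app_kr i 1 B a q) (S.spGen_iso hB), cj_one_left]

/-- The adjoint of a position operator. -/
lemma adj_bk {i : Fin (n + 1)} {U U' : Module.End F (J k n → F)}
    (h : ∀ a a', S.pw n (U a) a' = S.pw n a (U' a')) (b c : Fin k → F) (x y : J k (n + 1) → F) :
    S.pw (n + 1) (S.bk i b c U x) y = -S.pw (n + 1) x (S.bk i c b U' y) := by
  have h1 : (S.pw (n + 1)).comp (S.bk i b c U) = -((S.pw (n + 1)).compl₂ (S.bk i c b U')) :=
    lin_ext i fun a u => lin_ext i fun a' u' => by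
      simp only [LinearMap.comp_apply, LinearMap.neg_apply, LinearMap.compl₂_apply, S.bk_T, map_smul,
        LinearMap.smul_apply, S.pw_T, smul_eq_mul, h, S.skew u c]
      ring
  exact LinearMap.congr_fun (LinearMap.congr_fun h1 x) y

lemma pw_pur : ∀ {n : ℕ} {A : Fin n → Matrix (Fin k) (Fin k) F} {ε : Fin n → F},
    (∀ i u v, S.f (A i *ᵥ u) v = ε i * S.f u (A i *ᵥ v)) →
      ∀ x y, S.pw n (pur A x) y = (∏ i, ε i) * S.pw n x (pur A y) := by
  intro n
  induction n with
  | zero =>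
    intro A ε _ x y
    simp [Sf.pw, dotProduct, Matrix.mulVec, pur_apply, Aschbacher.pureMat_apply]
  | succ n ih =>
    intro A ε h x y
    have h1 : (S.pw (n + 1)).comp (pur A) = (∏ i, ε i) • (S.pw (n + 1)).compl₂ (pur A) :=
      lin_ext 0 fun a u => lin_ext 0 fun a' u' => by
        simp only [LinearMap.comp_apply, LinearMap.smul_apply, LinearMap.compl₂_apply, pur_T,
          S.pw_T, smul_eq_mul, h 0, Fin.prod_univ_succAbove ε 0]
        rw [ih (ε := fun j => ε (Fin.succAbove 0 j)) fun j => h _]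
        ring
    exact LinearMap.congr_fun (LinearMap.congr_fun h1 x) y

lemma sgn_mx (b : Fin k → F) (u v : Fin k → F) :
    S.f (S.mx b b *ᵥ u) v = -1 * S.f u (S.mx b b *ᵥ v) := by
  simp only [mx_mulVec, map_smul, LinearMap.smul_apply, smul_eq_mul, S.skew u b]; ring

lemma sgn_lam (b c : Fin k → F) (u v : Fin k → F) :
    S.f ((S.mx b c - S.mx c b) *ᵥ u) v = 1 * S.f u ((S.mx b c - S.mx c b) *ᵥ v) := by
  simp only [Matrix.sub_mulVec, mx_mulVec, map_sub, map_smul, LinearMap.sub_apply,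
    LinearMap.smul_apply, smul_eq_mul, S.skew u b, S.skew u c]
  ring

end Sf

end Cfsg.Agent.C7S
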