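import Cfsg.Agent.Lib.C7.Wreath

/-!
# Tensor powers of an alternating form

`Sf F k` is a non-degenerate alternating form on `F^k`, `pw n` its `n`-th tensor power on `J k n → F`,
`bk i b c U` the operator `b c^ ⊗ U` (`c^ = f(c,·)` in position `i`) and `Kb i b c K` the contraction
`f(b, K c)` of an operator in position `i`.
-/

set_option autoImplicit false
set_option linter.unusedSectionVars false

namespace Cfsg.Agent.C7S

open Matrix Module Cfsg.Agent.Transvect
open Cfsg.Agent.C7 (J T ct ins T_apply ct_T sum_T_single lin_ext T_inj_left T_inj_right T_eq_zero)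
open scoped MatrixGroups

/-- A non-degenerate alternating form on `F^k`. -/
structure Sf (F : Type*) [Field F] (k : ℕ) where
  f : (Fin k → F) →ₗ[F] (Fin k → F) →ₗ[F] F
  alt : ∀ u, f u u = 0
  nd : ∀ u, (∀ v, f u v = 0) → u = 0

variable {F : Type*} [Field F] {k n : ℕ}

/-- The permitted fields and dimensions. -/
def Reg (F : Type*) [Field F] [Fintype F] (k : ℕ) : Prop :=
  ((2 : F) ≠ 0 ∧ (4 ≤ k ∨ (k = 2 ∧ 3 < Fintype.card F))) ∨ ((2 : F) = 0 ∧ 6 ≤ k)

lemma Reg.two_le [Fintype F] (h : Reg F k) : 2 ≤ k := by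
  rcases h with ⟨-, h | ⟨h, -⟩⟩ | ⟨-, h⟩ <;> omega

namespace Sf

variable (S : Sf F k)

lemma skew (u v : Fin k → F) : S.f u v = -S.f v u := by
  have h := S.alt (u + v)
  simp only [map_add, LinearMap.add_apply, S.alt, zero_add, add_zero] at h
  linear_combination h

lemma zero_comm {u v : Fin k → F} (h : S.f u v = 0) : S.f v u = 0 := by rw [S.skew, h, neg_zero]

/-- Functionals are given by vectors. -/
lemma exists_rep (φ : (Fin k → F) →ₗ[F] F) : ∃ w, S.f w = φ :=
  (LinearMap.linearEquivOfInjective S.f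
    (LinearMap.ker_eq_bot.1 (LinearMap.ker_eq_bot'.2 fun a ha => S.nd a fun v => by rw [ha]; rfl))
    Subspace.dual_finrank_eq.symm).surjective φ

lemma exists_pair {W : Submodule F (Fin k → F)} {u : Fin k → F} (hu : u ∉ W) :
    ∃ x, (∀ w ∈ W, S.f w x = 0) ∧ S.f u x = 1 := by
  obtain ⟨φ, hφ, hφu⟩ := exists_dual_eq_one hu
  obtain ⟨x, hx⟩ := S.exists_rep φ
  refine ⟨-x, fun w hw => ?_, ?_⟩
  · rw [map_neg, S.skew, neg_neg, hx, hφ w hw]
  · rw [map_neg, S.skew, neg_neg, hx, hφu]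

lemma exists_dual {u : Fin k → F} (hu : u ≠ 0) : ∃ x, S.f u x = 1 := by
  obtain ⟨x, -, hx⟩ := S.exists_pair (W := ⊥) (u := u) (by simpa using hu)
  exact ⟨x, hx⟩

/-- The Gram matrix. -/
def gram : Matrix (Fin k) (Fin k) F := Matrix.of fun a b => S.f (Pi.single a 1) (Pi.single b 1)

lemma dot_gram (u v : Fin k → F) : u ⬝ᵥ (S.gram *ᵥ v) = S.f u v := by
  conv_rhs => rw [pi_eq_sum_univ' u, pi_eq_sum_univ' v]
  simp [dotProduct, Matrix.mulVec, gram, map_sum, Finset.mul_sum, mul_comm, mul_left_comm]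
  rw [Finset.sum_comm]

end Sf

/-! ### Pure operators -/

lemma dot_T (i : Fin (n + 1)) (a b : J k n → F) (u v : Fin k → F) :
    T i a u ⬝ᵥ T i b v = (a ⬝ᵥ b) * (u ⬝ᵥ v) := by
  rw [dotProduct, ← (Fin.insertNthEquiv (fun _ => Fin k) i).sum_comp, Fintype.sum_prod_type,
    Finset.sum_comm, dotProduct, dotProduct, Finset.sum_mul_sum]
  exact Finset.sum_congr rfl fun g _ => Finset.sum_congr rfl fun c _ => by
    simp [T_apply, Fin.insertNthEquiv]; ring

lemma pureMat_mulVec_T (i : Fin (n + 1)) (A : Fin (n + 1) → Matrix (Fin k) (Fin k) F) (a : J k n → F)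
    (u : Fin k → F) : Aschbacher.pureMat A *ᵥ T i a u =
      T i (Aschbacher.pureMat (fun j => A (i.succAbove j)) *ᵥ a) (A i *ᵥ u) := by
  funext f
  simp only [Matrix.mulVec, dotProduct, T_apply, Aschbacher.pureMat_apply]
  rw [← (Fin.insertNthEquiv (fun _ => Fin k) i).sum_comp, Fintype.sum_prod_type, Finset.sum_mul_sum,
    Finset.sum_comm]
  refine Finset.sum_congr rfl fun g _ => Finset.sum_congr rfl fun c _ => ?_
  rw [Fin.prod_univ_succAbove _ i]
  simp [Fin.insertNthEquiv]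
  ring

/-- The tensor product of matrices as an operator. -/
def pur (A : Fin n → Matrix (Fin k) (Fin k) F) : Module.End F (J k n → F) :=
  Matrix.mulVecLin (Aschbacher.pureMat A)

lemma pur_apply (A : Fin n → Matrix (Fin k) (Fin k) F) (x : J k n → F) :
    pur A x = Aschbacher.pureMat A *ᵥ x := rfl

lemma pur_T (i : Fin (n + 1)) (A : Fin (n + 1) → Matrix (Fin k) (Fin k) F) (a : J k n → F)
    (u : Fin k → F) : pur A (T i a u) = T i (pur (fun j => A (i.succAbove j)) a) (A i *ᵥ u) :=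
  pureMat_mulVec_T i A a u

lemma pur_mul (A B : Fin n → Matrix (Fin k) (Fin k) F) : pur A * pur B = pur (A * B) := by
  refine LinearMap.ext fun x => ?_
  rw [Module.End.mul_apply, pur_apply, pur_apply, pur_apply, Matrix.mulVec_mulVec,
    Aschbacher.pureMat_mul]

lemma pur_one : pur (fun _ : Fin n => (1 : Matrix (Fin k) (Fin k) F)) = 1 :=
  LinearMap.ext fun x => by
    rw [pur_apply, show (fun _ : Fin n => (1 : Matrix (Fin k) (Fin k) F)) = 1 from rfl,
      Aschbacher.pureMat_one, Matrix.one_mulVec]; rfl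

/-- The tensor power of the form. -/
def Sf.pw (S : Sf F k) (n : ℕ) : (J k n → F) →ₗ[F] (J k n → F) →ₗ[F] F :=
  LinearMap.mk₂ F (fun x y => x ⬝ᵥ (Aschbacher.pureMat (fun _ : Fin n => S.gram) *ᵥ y))
    (fun x x' y => add_dotProduct _ _ _) (fun c x y => smul_dotProduct _ _ _)
    (fun x y y' => by rw [Matrix.mulVec_add, dotProduct_add])
    (fun c x y => by rw [Matrix.mulVec_smul, dotProduct_smul])

variable (S : Sf F k)

lemma Sf.pw_T (i : Fin (n + 1)) (a b : J k n → F) (u v : Fin k → F) :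
    S.pw (n + 1) (T i a u) (T i b v) = S.pw n a b * S.f u v := by
  show T i a u ⬝ᵥ (Aschbacher.pureMat (fun _ => S.gram) *ᵥ T i b v) = _
  rw [pureMat_mulVec_T, dot_T, S.dot_gram]
  rfl

lemma Sf.pw_comm (x y : J k n → F) : S.pw n y x = (-1) ^ n * S.pw n x y := by
  show y ⬝ᵥ (Aschbacher.pureMat (fun _ : Fin n => S.gram) *ᵥ x) = _ *
    (x ⬝ᵥ (Aschbacher.pureMat (fun _ : Fin n => S.gram) *ᵥ y))
  have h : ∀ a b, Aschbacher.pureMat (fun _ : Fin n => S.gram) b a =
      (-1) ^ n * Aschbacher.pureMat (fun _ : Fin n => S.gram) a b := fun a b => by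
    rw [Aschbacher.pureMat_apply, Aschbacher.pureMat_apply,
      show ((-1 : F)) ^ n = ∏ _i : Fin n, (-1 : F) by simp, ← Finset.prod_mul_distrib]
    exact Finset.prod_congr rfl fun i _ => by
      simp only [Sf.gram, Matrix.of_apply, neg_one_mul]; exact S.skew _ _
  simp only [dotProduct, Matrix.mulVec, Finset.mul_sum]
  rw [Finset.sum_comm]
  refine Finset.sum_congr rfl fun a _ => Finset.sum_congr rfl fun b _ => ?_
  rw [h a b]; ring

lemma Sf.pw_T_right (i : Fin (n + 1)) (x : J k (n + 1) → F) (b : J k n → F) (v : Fin k → F) :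
    S.pw (n + 1) x (T i b v) = S.pw n (ct i (S.f.flip v) x) b := by
  have h : (S.pw (n + 1)).flip (T i b v) = (S.pw n).flip b ∘ₗ ct i (S.f.flip v) :=
    lin_ext i fun a u => by simp [S.pw_T, mul_comm]
  exact LinearMap.congr_fun h x

lemma Sf.pw_T_left (i : Fin (n + 1)) (x : J k (n + 1) → F) (b : J k n → F) (v : Fin k → F) :
    S.pw (n + 1) (T i b v) x = S.pw n b (ct i (S.f v) x) := by
  have h : S.pw (n + 1) (T i b v) = S.pw n b ∘ₗ ct i (S.f v) :=
    lin_ext i fun a u => by simp [S.pw_T, mul_comm]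
  exact LinearMap.congr_fun h x

lemma eq_zero_of_ct {i : Fin (n + 1)} {x : J k (n + 1) → F} (h : ∀ α, ct i α x = 0) : x = 0 := by
  rw [← sum_T_single i x]
  refine Finset.sum_eq_zero fun c _ => ?_
  rw [show (fun g => x (ins i c g)) = 0 from h (LinearMap.proj c)]
  simp

lemma Sf.eq_zero_of_ct {i : Fin (n + 1)} {x : J k (n + 1) → F} (h : ∀ w, ct i (S.f w) x = 0) : x = 0 :=
  C7S.eq_zero_of_ct fun α => by
    obtain ⟨w, rfl⟩ := S.exists_rep α
    exact h w

lemma Sf.pw_nd : ∀ {n : ℕ} {x : J k n → F}, (∀ y, S.pw n x y = 0) → x = 0 := by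
  intro n
  induction n with
  | zero =>
    intro x h
    funext a
    have := h (Pi.single a 1)
    simpa [Sf.pw, dotProduct, Matrix.mulVec, Aschbacher.pureMat_apply, Subsingleton.elim _ a] using this
  | succ n ih =>
    intro x h
    refine S.eq_zero_of_ct (i := 0) fun w => ih fun b => ?_
    have h1 := h (T 0 b w)
    rw [S.pw_T_right, show S.f.flip w = -S.f w from LinearMap.ext fun z => S.skew z w,
      C7.ct_neg, map_neg, LinearMap.neg_apply, neg_eq_zero] at h1
    exact h1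

lemma Sf.pw_ext {x x' : J k n → F} (h : ∀ y, S.pw n x y = S.pw n x' y) : x = x' :=
  sub_eq_zero.1 (S.pw_nd fun y => by rw [map_sub, LinearMap.sub_apply, h, sub_self])

/-! ### Operators in one position -/

/-- `b c^ ⊗ U` in position `i`. -/
def Sf.bk (i : Fin (n + 1)) (b c : Fin k → F) (U : Module.End F (J k n → F)) :
    Module.End F (J k (n + 1) → F) :=
  (T i).flip b ∘ₗ U ∘ₗ ct i (S.f c)

/-- `f(b, K c)` in position `i`. -/
def Sf.Kb (i : Fin (n + 1)) (b c : Fin k → F) (K : Module.End F (J k (n + 1) → F)) :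
    Module.End F (J k n → F) :=
  ct i (S.f b) ∘ₗ K ∘ₗ (T i).flip c

lemma Sf.bk_apply (i : Fin (n + 1)) (b c : Fin k → F) (U : Module.End F (J k n → F))
    (x : J k (n + 1) → F) : S.bk i b c U x = T i (U (ct i (S.f c) x)) b := rfl

lemma Sf.bk_T (i : Fin (n + 1)) (b c : Fin k → F) (U : Module.End F (J k n → F)) (a : J k n → F)
    (u : Fin k → F) : S.bk i b c U (T i a u) = S.f c u • T i (U a) b := by
  rw [S.bk_apply, ct_T, map_smul, map_smul, LinearMap.smul_apply]

lemma Sf.bk_mul (i : Fin (n + 1)) (b c b' c' : Fin k → F) (U U' : Module.End F (J k n → F)) :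
    S.bk i b c U * S.bk i b' c' U' = S.f c b' • S.bk i b c' (U * U') :=
  LinearMap.ext fun x => by
    rw [Module.End.mul_apply, S.bk_apply i b' c', S.bk_T]; rfl

lemma Sf.bk_mul_mul (i : Fin (n + 1)) (b b' c c' : Fin k → F) (K : Module.End F (J k (n + 1) → F)) :
    S.bk i b b' 1 * K * S.bk i c c' 1 = S.bk i b c' (S.Kb i b' c K) := rfl

lemma Sf.bk_add (i : Fin (n + 1)) (b c : Fin k → F) (U U' : Module.End F (J k n → F)) :
    S.bk i b c (U + U') = S.bk i b c U + S.bk i b c U' :=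
  LinearMap.ext fun x => by simp [S.bk_apply]

lemma Sf.bk_smul (i : Fin (n + 1)) (b c : Fin k → F) (r : F) (U : Module.End F (J k n → F)) :
    S.bk i b c (r • U) = r • S.bk i b c U :=
  LinearMap.ext fun x => by simp [S.bk_apply]

lemma Sf.bk_neg (i : Fin (n + 1)) (b c : Fin k → F) (U : Module.End F (J k n → F)) :
    S.bk i b c (-U) = -S.bk i b c U :=
  LinearMap.ext fun x => by simp [S.bk_apply]

lemma Sf.bk_sub (i : Fin (n + 1)) (b c : Fin k → F) (U U' : Module.End F (J k n → F)) :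
    S.bk i b c (U - U') = S.bk i b c U - S.bk i b c U' :=
  LinearMap.ext fun x => by simp [S.bk_apply]

lemma Sf.bk_zero (i : Fin (n + 1)) (b c : Fin k → F) :
    S.bk i b c (0 : Module.End F (J k n → F)) = 0 :=
  LinearMap.ext fun x => by simp [S.bk_apply]

lemma Sf.bk_add_left (i : Fin (n + 1)) (b b' c : Fin k → F) (U : Module.End F (J k n → F)) :
    S.bk i (b + b') c U = S.bk i b c U + S.bk i b' c U :=
  LinearMap.ext fun x => by simp [S.bk_apply]

lemma Sf.bk_add_right (i : Fin (n + 1)) (b c c' : Fin k → F) (U : Module.End F (J k n → F)) :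
    S.bk i b (c + c') U = S.bk i b c U + S.bk i b c' U :=
  LinearMap.ext fun x => by simp [S.bk_apply, C7.ct_add]

lemma Sf.bk_smul_left (i : Fin (n + 1)) (r : F) (b c : Fin k → F) (U : Module.End F (J k n → F)) :
    S.bk i (r • b) c U = r • S.bk i b c U :=
  LinearMap.ext fun x => by simp [S.bk_apply]

lemma Sf.bk_smul_right (i : Fin (n + 1)) (r : F) (b c : Fin k → F) (U : Module.End F (J k n → F)) :
    S.bk i b (r • c) U = r • S.bk i b c U :=
  LinearMap.ext fun x => by simp [S.bk_apply, C7.ct_smul]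

lemma Sf.bk_sub_left (i : Fin (n + 1)) (b b' c : Fin k → F) (U : Module.End F (J k n → F)) :
    S.bk i (b - b') c U = S.bk i b c U - S.bk i b' c U :=
  LinearMap.ext fun x => by simp [S.bk_apply]

lemma Sf.bk_sub_right (i : Fin (n + 1)) (b c c' : Fin k → F) (U : Module.End F (J k n → F)) :
    S.bk i b (c - c') U = S.bk i b c U - S.bk i b c' U := by
  rw [eq_sub_iff_add_eq, ← S.bk_add_right, sub_add_cancel]

lemma Sf.bk_neg_neg (i : Fin (n + 1)) (b c : Fin k → F) (U : Module.End F (J k n → F)) :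
    S.bk i (-b) (-c) U = S.bk i b c U :=
  LinearMap.ext fun x => by simp [S.bk_apply, C7.ct_neg]

/-- The matrix of `b c^`. -/
def Sf.mx (b c : Fin k → F) : Matrix (Fin k) (Fin k) F :=
  Matrix.vecMulVec b fun j => S.f c (Pi.single j 1)

lemma Sf.mx_mulVec (b c u : Fin k → F) : S.mx b c *ᵥ u = S.f c u • b := by
  rw [Sf.mx, Matrix.vecMulVec_mulVec]
  have h : (fun j => S.f c (Pi.single j 1)) ⬝ᵥ u = S.f c u := by
    conv_rhs => rw [pi_eq_sum_univ' u, map_sum]
    simp [dotProduct, mul_comm]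
  rw [h]; ext j; simp [mul_comm]

lemma Sf.Kb_pur (i : Fin (n + 1)) (b c : Fin k → F) (A : Fin (n + 1) → Matrix (Fin k) (Fin k) F) :
    S.Kb i b c (pur A) = S.f b (A i *ᵥ c) • pur (fun j => A (i.succAbove j)) :=
  LinearMap.ext fun a => by
    show ct i (S.f b) (pur A (T i a c)) = _
    rw [pur_T, ct_T]; rfl

lemma Sf.Kb_add (i : Fin (n + 1)) (b c : Fin k → F) (K K' : Module.End F (J k (n + 1) → F)) :
    S.Kb i b c (K + K') = S.Kb i b c K + S.Kb i b c K' :=
  LinearMap.ext fun a => by simp [Sf.Kb]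

lemma Sf.Kb_smul (i : Fin (n + 1)) (b c : Fin k → F) (r : F) (K : Module.End F (J k (n + 1) → F)) :
    S.Kb i b c (r • K) = r • S.Kb i b c K :=
  LinearMap.ext fun a => by simp [Sf.Kb]

lemma Sf.bk_pur (i : Fin (n + 1)) (b c : Fin k → F) (A : Fin (n + 1) → Matrix (Fin k) (Fin k) F) :
    S.bk i b c (pur fun j => A (i.succAbove j)) = pur (Function.update A i (S.mx b c)) :=
  lin_ext i fun a u => by
    rw [S.bk_T, pur_T, Function.update_self, S.mx_mulVec, map_smul]
    rw [show (fun j => Function.update A i (S.mx b c) (i.succAbove j)) = fun j => A (i.succAbove j) from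
      funext fun j => Function.update_of_ne (i.succAbove_ne j) _ _]

end Cfsg.Agent.C7S
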