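import Cfsg.Agent.Lib.C7S.Target
import Cfsg.Agent.Lib.C7F.GenOrth

/-!
# All isometries of the commutator subgroup from one pattern element, characteristic two

`Qd Q` : `Q` has the tensor power as polar form and vanishes on pure tensors.  The pattern
`b b^ ⊗ ⋯ ⊗ (b c^ - c b^)` is `eich (pr p) (pr q)` with `q` differing from `p` in one position.
-/

set_option autoImplicit false
set_option linter.unusedSectionVars false

namespace Cfsg.Agent.C7S

open Matrix Module
open Cfsg.Agent.Transvect hiding pr
open Cfsg.Agent.C7 (J T ct kr app_kr lin_ext)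
open Cfsg.Agent.C7F (pr T_pr T_pr' span_pr)
open Cfsg.Agent.C7F.Fm (pr_update_smul pr_update_add)
open Cfsg.Agent.Orth (IsoGrp eich ap)
open QuadraticMap (polar)
open scoped MatrixGroups

variable {F : Type*} [Field F] [Fintype F] {k n : ℕ}

lemma pr_smul_fun (r : Fin n → F) (p : Fin n → Fin k → F) :
    pr (fun i => r i • p i) = (∏ i, r i) • pr p := by
  funext g
  simp [pr, Finset.prod_mul_distrib]

lemma pr_update_smul' (p : Fin n → Fin k → F) (j : Fin n) (c : F) (u : Fin k → F) :
    pr (Function.update p j (c • u)) = c • pr (Function.update p j u) := by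
  have h := pr_update_smul (Function.update p j u) j c
  rwa [Function.update_self, Function.update_idem] at h

lemma app_kr_pr (i : Fin (n + 1)) (B : GL (Fin k) F) (p : Fin (n + 1) → Fin k → F) :
    app (kr i 1 B) (pr p) = pr (Function.update p i (app B (p i))) := by
  conv_lhs => rw [← T_pr i p]
  rw [app_kr, map_one, LinearEquiv.coe_one, id_eq, T_pr']
  congr 1
  funext l
  obtain rfl | ⟨j, rfl⟩ := i.eq_self_or_eq_succAbove l <;> simp

lemma pureMat_mulVec_pr (A : Fin n → Matrix (Fin k) (Fin k) F) (p : Fin n → Fin k → F) :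
    Aschbacher.pureMat A *ᵥ pr p = pr fun i => A i *ᵥ p i := by
  funext g
  simp only [Matrix.mulVec, dotProduct, Aschbacher.pureMat_apply, pr, ← Finset.prod_mul_distrib]
  exact (Fintype.prod_sum fun i c => A i (g i) c * p i c).symm

lemma pr_dot (p q : Fin n → Fin k → F) : pr p ⬝ᵥ pr q = ∏ i, p i ⬝ᵥ q i := by
  simp only [dotProduct, pr, ← Finset.prod_mul_distrib]
  exact (Fintype.prod_sum fun i c => p i c * q i c).symm

namespace Sf

variable (S : Sf F k)

lemma pw_pr (p q : Fin n → Fin k → F) : S.pw n (pr p) (pr q) = ∏ i, S.f (p i) (q i) := by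
  show pr p ⬝ᵥ (Aschbacher.pureMat (fun _ : Fin n => S.gram) *ᵥ pr q) = _
  rw [pureMat_mulVec_pr, pr_dot]
  exact Finset.prod_congr rfl fun i _ => S.dot_gram _ _

lemma pur_pr (A : Fin n → Matrix (Fin k) (Fin k) F) (p : Fin n → Fin k → F) :
    pur A (pr p) = pr fun i => A i *ᵥ p i := pureMat_mulVec_pr A p

lemma pw_pr_zero {p q : Fin n → Fin k → F} (i : Fin n) (h : S.f (p i) (q i) = 0) :
    S.pw n (pr p) (pr q) = 0 := by
  rw [S.pw_pr]; exact Finset.prod_eq_zero (Finset.mem_univ i) h

lemma pw_update {p : Fin n → Fin k → F} {j : Fin n} {u : Fin k → F} (h : S.f (p j) u = 0) :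
    S.pw n (pr p) (pr (Function.update p j u)) = 0 :=
  S.pw_pr_zero j (by rwa [Function.update_self])

/-- A quadratic form with the tensor power as polar form, zero on pure tensors. -/
structure Qd (Q : QuadraticForm F (J k (n + 1) → F)) : Prop where
  pol : ∀ x y, polar ⇑Q x y = S.pw (n + 1) x y
  pure : ∀ p, Q (pr p) = 0

/-- An overgroup among the isometries of `Q`. -/
structure QOvg (Q : QuadraticForm F (J k (n + 1) → F)) (M : Subgroup (GL (J k (n + 1)) F)) : Prop
    extends Qd S Q where
  isom : M ≤ Cfsg.isometryGroup F ⇑Q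
  roots : S.HasRoots M

/-- The root element `eich u w` is in `M`. -/
def El (Q : QuadraticForm F (J k (n + 1) → F)) (M : Subgroup (GL (J k (n + 1)) F))
    (u w : J k (n + 1) → F) : Prop :=
  ((eich Q u w : IsoGrp Q) : GL (J k (n + 1)) F) ∈ M

variable {S} {Q : QuadraticForm F (J k (n + 1) → F)} {M : Subgroup (GL (J k (n + 1)) F)}

lemma El.add (hS : S.Qd Q) {p : Fin (n + 1) → Fin k → F} {w w' : J k (n + 1) → F}
    (hw : S.pw _ (pr p) w = 0) (hw' : S.pw _ (pr p) w' = 0) (h : El Q M (pr p) w)
    (h' : El Q M (pr p) w') : El Q M (pr p) (w + w') := by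
  rw [El, ← Orth.eich_add (hS.pure p) (by rw [hS.pol, hw]) (by rw [hS.pol, hw'])]
  exact mul_mem h h'

lemma El.neg {u w : J k (n + 1) → F} (h : El Q M u w) : El Q M u (-w) := by
  rw [El, ← Orth.eich_inv]; exact inv_mem h

lemma El.sub (hS : S.Qd Q) {p : Fin (n + 1) → Fin k → F} {w w' : J k (n + 1) → F}
    (hw : S.pw _ (pr p) w = 0) (hw' : S.pw _ (pr p) w' = 0) (h : El Q M (pr p) w)
    (h' : El Q M (pr p) w') : El Q M (pr p) (w - w') := by
  rw [sub_eq_add_neg]; exact h.add hS hw (by rw [map_neg, hw', neg_zero]) h'.neg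

lemma el_zero (u : J k (n + 1) → F) : El Q M u 0 := by
  rw [El, Orth.eich_zero]; exact one_mem M

lemma el_zero_left (w : J k (n + 1) → F) : El Q M 0 w := by
  rw [El, C4.eich_zero_left]; exact one_mem M

lemma El.conj (hM : M ≤ Cfsg.isometryGroup F ⇑Q) {u w : J k (n + 1) → F} (h : El Q M u w)
    {g : GL (J k (n + 1)) F} (hg : g ∈ M) : El Q M (app g u) (app g w) := by
  let g' : IsoGrp Q := ⟨g, hM hg⟩
  have e := Orth.conj_eich g' u w
  show ((eich Q (ap g' u) (ap g' w) : IsoGrp Q) : GL _ F) ∈ M
  rw [← e]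
  exact mul_mem (mul_mem hg h) (inv_mem hg)

lemma El.conj_slot (hO : S.QOvg Q M) {p q : Fin (n + 1) → Fin k → F} (h : El Q M (pr p) (pr q))
    (i : Fin (n + 1)) {B : GL (Fin k) F} (hB : B ∈ S.spGen) :
    El Q M (pr (Function.update p i (app B (p i)))) (pr (Function.update q i (app B (q i)))) := by
  rw [← app_kr_pr, ← app_kr_pr]
  exact h.conj hO.isom (hO.roots.kr_mem i hB)

/-- Conjugating by `eich a b` and subtracting. -/
lemma El.image (hO : S.QOvg Q M) {p a b : Fin (n + 1) → Fin k → F}
    {w : J k (n + 1) → F} (hab : S.pw _ (pr a) (pr b) = 0) (hpa : S.pw _ (pr p) (pr a) = 0)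
    (hpb : S.pw _ (pr p) (pr b) = 0) (hw : S.pw _ (pr p) w = 0) (h : El Q M (pr p) w)
    (h' : El Q M (pr a) (pr b)) :
    El Q M (pr p) (S.pw _ (pr a) w • pr b - S.pw _ (pr b) w • pr a) := by
  set g : IsoGrp Q := eich Q (pr a) (pr b)
  have hS := hO.toQd
  have hz : ∀ {x y : J k (n + 1) → F}, S.pw _ x y = 0 → S.pw _ y x = 0 := fun {x y} e => by
    rw [S.pw_comm x y, e, mul_zero]
  have e : ∀ x, app (g : GL (J k (n + 1)) F) x =
      x + S.pw _ (pr a) x • pr b - S.pw _ (pr b) x • pr a := fun x => by
    show ap g x = _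
    rw [Orth.eich_ap (hS.pure a) (by rw [hS.pol, hab]), hS.pol, hS.pol, hS.pure b, zero_mul, add_zero]
  have h1 := h.conj hO.isom h'
  rw [e, e, hz hpa, hz hpb, zero_smul, zero_smul, add_zero, sub_zero] at h1
  have h2 := h1.sub hS (by simp [hw, hpa, hpb]) hw h
  rwa [show w + S.pw _ (pr a) w • pr b - S.pw _ (pr b) w • pr a - w =
    S.pw _ (pr a) w • pr b - S.pw _ (pr b) w • pr a by abel] at h2

variable (S Q M) in
/-- All root elements whose ends differ orthogonally in position `l`. -/
def Pos (l : Fin (n + 1)) : Prop :=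
  ∀ p u, S.f (p l) u = 0 → El Q M (pr p) (pr (Function.update p l u))

/-- One root element gives all those differing in the same position from the same pure tensor. -/
lemma el_line_all (hO : S.QOvg Q M) {p : Fin (n + 1) → Fin k → F} {j : Fin (n + 1)}
    {c : Fin k → F} (hpj : p j ≠ 0) (hc : S.f (p j) c = 0) (hc' : c ∉ F ∙ p j)
    (h : El Q M (pr p) (pr (Function.update p j c))) {u : Fin k → F} (hu : S.f (p j) u = 0) :
    El Q M (pr p) (pr (Function.update p j u)) := by
  have hS := hO.toQd
  let W : (Fin k → F) → Prop := fun u => El Q M (pr p) (pr (Function.update p j u))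
  have key : ∀ y, S.f (p j) y = 0 → S.f y c ≠ 0 → W y := by
    intro y hy hyc
    have h1 := h.conj_slot hO j (S.tr_mem y (S.f y c)⁻¹)
    rw [Function.update_self, Function.update_idem, S.tr_apply y _ (p j), S.zero_comm hy, mul_zero,
      zero_smul, add_zero, Function.update_eq_self, S.tr_apply, inv_mul_cancel₀ hyc, one_smul] at h1
    have h2 := h1.sub hS (S.pw_update (by rw [map_add, hc, hy, add_zero])) (S.pw_update hc) h
    rwa [pr_update_add, add_sub_cancel_left] at h2
  by_cases huc : S.f u c = 0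
  swap
  · exact key u hu huc
  obtain ⟨x, hx, hxc⟩ := S.exists_pair hc'
  have hy : S.f (p j) x = 0 := hx _ (Submodule.mem_span_singleton_self _)
  have hxc' : S.f x c ≠ 0 := by rw [S.skew, hxc]; exact neg_ne_zero.2 one_ne_zero
  have h1 := (key (u + x) (by rw [map_add, hu, hy, add_zero])
    (by rw [map_add, LinearMap.add_apply, huc, zero_add]; exact hxc')).sub hS
      (S.pw_update (by rw [map_add, hu, hy, add_zero])) (S.pw_update hy) (key x hy hxc')
  rwa [pr_update_add, add_sub_cancel_right] at h1

/-- The same for every pure tensor. -/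
lemma pos_of_one (hO : S.QOvg Q M) {p : Fin (n + 1) → Fin k → F} (hp : ∀ l, p l ≠ 0)
    {j : Fin (n + 1)} {c : Fin k → F} (hc : S.f (p j) c = 0) (hc' : c ∉ F ∙ p j)
    (h : El Q M (pr p) (pr (Function.update p j c))) : Pos S Q M j := by
  classical
  intro p' u
  by_cases hp' : ∃ i, p' i = 0
  · obtain ⟨i, hi⟩ := hp'
    intro _
    rw [show pr p' = 0 by rw [← T_pr i p', hi, map_zero]]
    exact el_zero_left _
  push Not at hp'
  suffices hh : ∀ s : Finset (Fin (n + 1)), ∀ u, S.f (s.piecewise p' p j) u = 0 →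
      El Q M (pr (s.piecewise p' p)) (pr (Function.update (s.piecewise p' p) j u)) by
    simpa using hh Finset.univ u
  intro s
  induction s using Finset.induction_on with
  | empty =>
    intro u hu
    rw [Finset.piecewise_empty] at hu ⊢
    exact el_line_all hO (hp j) hc hc' h hu
  | @insert i s his ih =>
    intro u
    obtain ⟨B, hB, e⟩ := S.exists_move (hp i) (hp' i)
    rw [Finset.piecewise_insert]
    intro hu
    by_cases hij : i = j
    · subst hij
      rw [Function.update_self] at hu
      have h1 := (ih (app B⁻¹ u) (by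
        rw [Finset.piecewise_eq_of_notMem _ _ _ his, ← S.spGen_iso hB, app_app_inv, e, hu])).conj_slot
          hO i hB
      rw [Finset.piecewise_eq_of_notMem _ _ _ his, e, Function.update_self, app_app_inv,
        Function.update_idem] at h1
      rwa [Function.update_idem]
    · rw [Function.update_of_ne (Ne.symm hij)] at hu
      have h1 := (ih u hu).conj_slot hO i hB
      rw [Function.update_of_ne hij, Finset.piecewise_eq_of_notMem _ _ _ his, e] at h1
      rwa [Function.update_comm hij]

lemma exists_orth_pair (hk : 6 ≤ k) {e β : Fin k → F} (he : S.f e β = 0) :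
    ∃ α η, S.f e α = 0 ∧ S.f β α = 0 ∧ S.f e η = 0 ∧ S.f β η = 0 ∧ S.f α η = 1 := by
  obtain ⟨α, hα, hαn⟩ := C4.SS.exists_ker_not_mem ![S.f e, S.f β]
    (Submodule.span F (Set.range ![e, β])) (by
      have h := finrank_range_le_card (R := F) ![e, β]
      simp only [Set.finrank, Fintype.card_fin] at h
      try simp only [Fintype.card_fin, Module.finrank_fin_fun]
      omega)
  obtain ⟨η, hη, hαη⟩ := S.exists_pair hαn
  exact ⟨α, η, hα 0, hα 1, hη _ (Submodule.subset_span ⟨0, rfl⟩),
    hη _ (Submodule.subset_span ⟨1, rfl⟩), hαη⟩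

/-- Orthogonal in one position. -/
lemma el_orth (hk : 6 ≤ k) (hO : S.QOvg Q M) {j : Fin (n + 1)} (hT : Pos S Q M j)
    {p : Fin (n + 1) → Fin k → F} (hp : ∀ l, p l ≠ 0) (q : Fin (n + 1) → Fin k → F)
    (hq : S.f (p j) (q j) = 0) : El Q M (pr p) (pr q) := by
  classical
  have hS := hO.toQd
  suffices hh : ∀ (s : Finset (Fin (n + 1))) (q : Fin (n + 1) → Fin k → F), j ∉ s →
      S.f (p j) (q j) = 0 → (∀ l, l ∉ s → l ≠ j → S.f (p l) (q l) ≠ 0) → El Q M (pr p) (pr q) from
    hh (Finset.univ.erase j) q (by simp) hq fun l hl hlj =>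
      absurd (Finset.mem_erase.2 ⟨hlj, Finset.mem_univ l⟩) hl
  intro s
  induction s using Finset.induction_on with
  | empty =>
    intro q _ hq hn
    obtain ⟨α, η, hpα, hqα, hpη, hqη, hαη⟩ := exists_orth_pair (S := S) hk hq
    have hab : S.pw _ (pr (Function.update q j α)) (pr q) = 0 :=
      S.pw_pr_zero j (by rw [Function.update_self]; exact S.zero_comm hqα)
    have h' : El Q M (pr (Function.update q j α)) (pr q) := by
      have := hT (Function.update q j α) (q j) (by rw [Function.update_self]; exact S.zero_comm hqα)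
      rwa [Function.update_idem, Function.update_eq_self] at this
    have hπ : S.pw _ (pr (Function.update q j α)) (pr (Function.update p j η)) ≠ 0 := by
      rw [S.pw_pr]
      refine Finset.prod_ne_zero_iff.2 fun i _ => ?_
      by_cases hij : i = j
      · subst hij; simp [hαη]
      · rw [Function.update_of_ne hij, Function.update_of_ne hij]
        exact fun e => hn i (Finset.notMem_empty i) hij (S.zero_comm e)
    set π := S.pw _ (pr (Function.update q j α)) (pr (Function.update p j η))
    have hηc : S.pw _ (pr p) (pr (Function.update p j (π⁻¹ • η))) = 0 :=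
      S.pw_update (by rw [map_smul, hpη, smul_zero])
    have h1 := (hT p (π⁻¹ • η) (by rw [map_smul, hpη, smul_zero])).image hO hab
      (S.pw_pr_zero j (by rw [Function.update_self]; exact hpα)) (S.pw_pr_zero j hq) hηc h'
    rw [pr_update_smul', map_smul, map_smul, smul_eq_mul, inv_mul_cancel₀ hπ, one_smul,
      S.pw_pr_zero (q := Function.update p j η) j (by rw [Function.update_self]; exact hqη),
      smul_zero, zero_smul, sub_zero] at h1
    exact h1
  | @insert l s hls ih =>
    intro q hjs hq hn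
    simp only [Finset.mem_insert, not_or] at hjs
    have go : ∀ v, S.f (p l) v ≠ 0 → El Q M (pr p) (pr (Function.update q l v)) := fun v hv =>
      ih _ hjs.2 (by rwa [Function.update_of_ne hjs.1]) fun x hx hxj => by
        by_cases hxl : x = l
        · subst hxl; rwa [Function.update_self]
        · rw [Function.update_of_ne hxl]; exact hn x (by simp [hxl, hx]) hxj
    by_cases hv : S.f (p l) (q l) = 0
    swap
    · simpa using go _ hv
    obtain ⟨z, hz⟩ := S.exists_dual (hp l)
    have ho : ∀ v, S.pw _ (pr p) (pr (Function.update q l v)) = 0 := fun v =>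
      S.pw_pr_zero j (by rw [Function.update_of_ne hjs.1]; exact hq)
    have h1 := (go (q l + z) (by rw [map_add, hv, hz, zero_add]; exact one_ne_zero)).sub hS
      (ho _) (ho _) (go z (by rw [hz]; exact one_ne_zero))
    rwa [pr_update_add, add_sub_cancel_right, Function.update_eq_self] at h1

/-- All positions. -/
lemma pos_all (hk : 6 ≤ k) (hO : S.QOvg Q M) {j : Fin (n + 1)} (hT : Pos S Q M j)
    (i : Fin (n + 1)) : Pos S Q M i := by
  rcases eq_or_ne i j with rfl | hij
  · exact hT
  intro p u _
  by_cases hp : ∃ x, p x = 0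
  · obtain ⟨x, hx⟩ := hp
    rw [show pr p = 0 by rw [← T_pr x p, hx, map_zero]]; exact el_zero_left _
  push Not at hp
  exact el_orth hk hO hT hp _ (by rw [Function.update_of_ne hij.symm, S.alt])

/-- All root elements along a pure tensor. -/
lemma el_perp (hk : 6 ≤ k) (hO : S.QOvg Q M) {j : Fin (n + 1)} (hT : Pos S Q M j)
    {p : Fin (n + 1) → Fin k → F} (hp : ∀ l, p l ≠ 0) {w : J k (n + 1) → F}
    (hw : S.pw _ (pr p) w = 0) : El Q M (pr p) w := by
  classical
  set P : Set (J k (n + 1) → F) := {x | ∃ q i, S.f (p i) (q i) = 0 ∧ pr q = x}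
  have hin : ∀ x ∈ Submodule.span F P, S.pw _ (pr p) x = 0 ∧ ∀ c : F, El Q M (pr p) (c • x) := by
    intro x hx
    induction hx using Submodule.span_induction with
    | mem y hy =>
      obtain ⟨q, i, hi, rfl⟩ := hy
      refine ⟨S.pw_pr_zero i hi, fun c => ?_⟩
      rw [← pr_update_smul q i c]
      exact el_orth hk hO (pos_all hk hO hT i) hp _
        (by rw [Function.update_self, map_smul, hi, smul_zero])
    | zero => exact ⟨map_zero _, fun c => by rw [smul_zero]; exact el_zero _⟩
    | add y z _ _ hy hz =>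
      exact ⟨by rw [map_add, hy.1, hz.1, add_zero], fun c => by
        rw [smul_add]; exact (hy.2 c).add hO.toQd (by simp [hy.1]) (by simp [hz.1]) (hz.2 c)⟩
    | smul a y _ hy =>
      exact ⟨by rw [map_smul, hy.1, smul_zero], fun c => by rw [smul_smul]; exact hy.2 _⟩
  choose d hd using fun i => S.exists_dual (hp i)
  have hB : ∀ q, pr q - S.pw _ (pr p) (pr q) • pr d ∈ Submodule.span F P := by
    intro q
    suffices hh : ∀ s : Finset (Fin (n + 1)), pr q -
        (∏ i ∈ s, S.f (p i) (q i)) • pr (s.piecewise d q) ∈ Submodule.span F P by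
      simpa [S.pw_pr] using hh Finset.univ
    intro s
    induction s using Finset.induction_on with
    | empty => simp
    | @insert i s his ih =>
      set r := s.piecewise d q
      have hri : r i = q i := Finset.piecewise_eq_of_notMem _ _ _ his
      have h1 : pr r - S.f (p i) (q i) • pr (Function.update r i (d i)) ∈ Submodule.span F P := by
        refine Submodule.subset_span
          ⟨Function.update r i (q i + (-S.f (p i) (q i)) • d i), i, ?_, ?_⟩
        · rw [Function.update_self, map_add, map_smul, hd, smul_eq_mul, mul_one, add_neg_cancel]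
        · rw [pr_update_add, pr_update_smul', ← hri, Function.update_eq_self, neg_smul, ← sub_eq_add_neg]
      rw [Finset.prod_insert his, Finset.piecewise_insert]
      have := Submodule.add_mem _ ih (Submodule.smul_mem _ (∏ x ∈ s, S.f (p x) (q x)) h1)
      convert this using 1
      match_scalars <;> ring
  let L : (J k (n + 1) → F) →ₗ[F] (J k (n + 1) → F) :=
    LinearMap.id - (S.pw _ (pr p)).smulRight (pr d)
  have hS : L w ∈ Submodule.span F P := by
    have h1 : Submodule.map L ⊤ ≤ Submodule.span F P := by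
      rw [← span_pr, Submodule.map_span_le]
      rintro _ ⟨q, rfl⟩
      exact hB q
    exact h1 ⟨w, Submodule.mem_top, rfl⟩
  rw [show L w = w by simp [L, hw]] at hS
  simpa using (hin w hS).2 1

lemma card_J_ge (hk : 6 ≤ k) (hn : 1 ≤ n) : 5 ≤ Fintype.card (J k (n + 1)) := by
  rw [Fintype.card_fun, Fintype.card_fin, Fintype.card_fin]
  calc 5 ≤ k ^ 1 := by rw [pow_one]; omega
    _ ≤ k ^ (n + 1) := Nat.pow_le_pow_right (by omega) (by omega)

lemma Qd.good (hS : S.Qd Q) (hk : 6 ≤ k) (hn : 1 ≤ n) : Orth.Good Q := by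
  refine ⟨⟨fun x hx => S.pw_nd fun y => ?_, fun y hy => S.pw_nd fun x => ?_⟩,
    .inr (by have := card_J_ge hk hn; omega)⟩
  · have h : S.pw _ x y = 0 := by rw [← hS.pol]; exact hx y
    first
      | exact h
      | rw [S.pw_comm x y, h, mul_zero]
  · have h : S.pw _ y x = 0 := by rw [← hS.pol, QuadraticMap.polar_comm]; exact hy x
    first
      | exact h
      | rw [S.pw_comm y x, h, mul_zero]

/-- The commutator subgroup from one root element with pure ends. -/
theorem omega_le_of_el (hk : 6 ≤ k) (hn : 1 ≤ n) (hO : S.QOvg Q M)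
    {p : Fin (n + 1) → Fin k → F} (hp : ∀ l, p l ≠ 0) {j : Fin (n + 1)} {c : Fin k → F}
    (hc : S.f (p j) c = 0) (hc' : c ∉ F ∙ p j)
    (h : El Q M (pr p) (pr (Function.update p j c))) :
    Cfsg.Geo.omegaGL ⇑Q ≤ M := by
  have hT := pos_of_one hO hp hc hc' h
  choose d hd using fun i => S.exists_dual (hp i)
  have hd0 : ∀ i, d i ≠ 0 := fun i e => by simpa [e] using hd i
  have hS := hO.toQd
  have hpair : Orth.HPair Q (pr p) (pr d) :=
    ⟨hS.pure p, hS.pure d, by rw [hS.pol, S.pw_pr]; simp [hd]⟩
  have hcard := card_J_ge hk hn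
  rintro _ ⟨g, hg, rfl⟩
  rw [SetLike.mem_coe, Orth.omega_eq_eichPair (hS.good hk hn) (by omega) (.inr hcard) hpair] at hg
  refine (Subgroup.closure_le (M.comap (Cfsg.isometryGroup F ⇑Q).subtype)).2 ?_ hg
  rintro _ ⟨w, hw, rfl | rfl⟩
  · exact el_perp hk hO hT hp (by rw [← hS.pol]; exact (Orth.mem_perp.1 hw).1)
  · exact el_perp hk hO hT hd0 (by rw [← hS.pol]; exact (Orth.mem_perp.1 hw).2)

/-- The pattern with one `Λ` factor is a root element with pure ends. -/
theorem el_of_pattern (h2 : (2 : F) = 0) (hO : S.QOvg Q M)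
    {A : Fin (n + 1) → Matrix (Fin k) (Fin k) F} (hA : PatM M A) {j : Fin (n + 1)}
    (hsm : ∀ i, i ≠ j → S.IsSm (A i)) (hlam : S.IsLam (A j)) :
    ∃ p c, (∀ l, p l ≠ 0) ∧ S.f (p j) c = 0 ∧ c ∉ F ∙ p j ∧
      El Q M (pr p) (pr (Function.update p j c)) := by
  classical
  obtain ⟨d, hd, g, hg, eg⟩ := hA
  obtain ⟨b, c, hb, hbc, hc, eA⟩ := hlam
  have key : ∀ i, ∃ v, v ≠ 0 ∧ (i ≠ j → A i = S.mx v v) ∧ (i = j → v = b) := fun i => by
    by_cases hij : i = j
    · exact ⟨b, hb, fun h => absurd hij h, fun _ => rfl⟩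
    · obtain ⟨v, hv, e⟩ := hsm i hij
      exact ⟨v, hv, fun _ => e, fun h => absurd h hij⟩
  choose p hp0 hpA hpj using key
  have epj : p j = b := hpj j rfl
  have hfc : S.f (p j) (d • c) = 0 := by rw [epj, map_smul, hbc, smul_zero]
  refine ⟨p, d • c, hp0, hfc, fun hm => hc ?_, ?_⟩
  · rw [epj] at hm
    simpa [hd] using Submodule.smul_mem _ d⁻¹ hm
  have hneg : ∀ x : Fin k → F, -x = x := fun x => by
    rw [← sub_zero (-x), ← smul_zero (0 : F)]
    linear_combination (norm := module) (-h2) • x
  have hS := hO.toQd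
  set w := pr (Function.update p j (d • c)) with hw
  suffices e : eo ((eich Q (pr p) w : IsoGrp Q) : GL (J k (n + 1)) F) = eo g by
    show _ ∈ M
    rw [eo_inj e]; exact hg
  rw [eg]
  refine LinearMap.ext_on_range (span_pr (F := F) (k := k) (n + 1)) fun a => ?_
  rw [eo_apply, LinearMap.add_apply, Module.End.one_apply, LinearMap.smul_apply, pur_pr]
  show ap (eich Q (pr p) w) (pr a) = _
  rw [Orth.eich_ap (hS.pure p) (by rw [hS.pol, hw, S.pw_update hfc]), hS.pol, hS.pol, hw, hS.pure,
    zero_mul, add_zero, S.pw_pr, S.pw_pr, pr_update_smul']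
  have e1 : (fun i => A i *ᵥ a i) = fun i =>
      (Function.update (fun i => S.f (p i) (a i)) j 1 i) •
        (Function.update p j (S.f c (a j) • b + (-S.f b (a j)) • c) i) := funext fun i => by
    by_cases hij : i = j
    · subst hij
      simp only [eA, Matrix.sub_mulVec, S.mx_mulVec, Function.update_self, one_smul, neg_smul]
      abel
    · simp only [hpA i hij, S.mx_mulVec, Function.update_of_ne hij]
  rw [e1, pr_smul_fun, pr_update_add, pr_update_smul', pr_update_smul', Finset.prod_update_of_mem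
    (Finset.mem_univ j), one_mul, show Function.update p j b = p by rw [← epj, Function.update_eq_self]]
  have e2 : ∏ i, S.f (p i) (a i) = S.f b (a j) * ∏ i ∈ Finset.univ \ {j}, S.f (p i) (a i) := by
    rw [← epj, ← Finset.mul_prod_erase _ _ (Finset.mem_univ j), Finset.sdiff_singleton_eq_erase]
  have e3 : ∏ i, S.f (Function.update p j (d • c) i) (a i) =
      d * S.f c (a j) * ∏ i ∈ Finset.univ \ {j}, S.f (p i) (a i) := by
    rw [← Finset.mul_prod_erase _ _ (Finset.mem_univ j), Finset.sdiff_singleton_eq_erase,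
      Function.update_self, map_smul, LinearMap.smul_apply, smul_eq_mul]
    refine congrArg _ (Finset.prod_congr rfl fun i hi => ?_)
    rw [Function.update_of_ne (Finset.ne_of_mem_erase hi)]
  rw [e2, e3]
  match_scalars
  · simp
  · linear_combination (d * S.f b (a j) * ∏ i ∈ Finset.univ \ {j}, S.f (p i) (a i)) * h2
  · linear_combination (-(d * S.f c (a j) * ∏ i ∈ Finset.univ \ {j}, S.f (p i) (a i))) * h2

end Sf

end Cfsg.Agent.C7S
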