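import Cfsg.Agent.Lib.C7S.Pattern
import Cfsg.Agent.Lib.C7.Main
import Mathlib.FieldTheory.Finite.Basic

/-!
# Square-zero elements of small rank in the wreath group

An isometry `y` in the wreath group with `(y - 1)² = 0` and `rank (y - 1) ≤ k^n` is a position
transvection.
-/

set_option autoImplicit false
set_option linter.unusedSectionVars false

namespace Cfsg.Agent.C7S

open Matrix Module Cfsg.Agent.Transvect
open Cfsg.Agent.C7 (J T ct lc ins Li T_apply ct_T lc_T T_mem_Li lin_ext kr app_kr)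
open scoped MatrixGroups

variable {F : Type*} [Field F] [Fintype F] {k n : ℕ}

namespace Sf

variable {S : Sf F k}

/-- An operator commuting with all position transvections is scalar. -/
theorem eq_smul_one_of_comm (hR : Reg F k) {K : Module.End F (J k (n + 1) → F)}
    (h : ∀ (j : Fin (n + 1)), ∀ B ∈ S.spGen, cj (kr j 1 B) K = K) : ∃ r : F, K = r • 1 := by
  by_contra! hns
  let 𝒮 : AddSubgroup (Module.End F (J k (n + 1) → F)) :=
    { carrier := {K | ∀ (j : Fin (n + 1)), ∀ B ∈ S.spGen, cj (kr j 1 B) K = K}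
      zero_mem' := fun j B _ => by simp [cj]
      add_mem' := fun {K K'} h h' j B hB => by rw [cj_add, h j B hB, h' j B hB]
      neg_mem' := fun {K} h j B hB => by
        rw [show -K = 0 - K by simp, cj_sub, h j B hB]; simp [cj] }
  obtain ⟨d, A, hd, hA, ⟨j, hj⟩, hAm⟩ := S.exists_pattern hR 𝒮 (fun m e j B hB K hK => by
    cases e
    rw [show cj (kr j 1 B) K = K from hK j B hB]; exact hK) K h hns
  have hk0 : 0 < k := by have := hR.two_le; omega
  have key : ∀ B ∈ S.spGen, (B : Matrix (Fin k) (Fin k) F) * A j *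
      ((B⁻¹ : GL (Fin k) F) : Matrix (Fin k) (Fin k) F) = A j := by
    intro B hB
    set G := (B : Matrix (Fin k) (Fin k) F) * A j * ((B⁻¹ : GL (Fin k) F) : Matrix (Fin k) (Fin k) F)
    have h1 := hAm j B hB
    rw [cj_smul, cj_kr_pur] at h1
    have h2 : pur (Function.update A j G) = pur A :=
      smul_right_injective (Module.End F (J k (n + 1) → F)) hd h1
    have : Nonempty (Fin k) := ⟨⟨0, hk0⟩⟩
    refine Matrix.ext_iff_mulVec.2 fun x => ?_
    obtain ⟨a, ha⟩ : ∃ a, pur (fun i => A (j.succAbove i)) a ≠ 0 := by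
      by_contra! hall
      exact pur_ne_zero (fun i => (hA (j.succAbove i)).ne_zero hk0) (LinearMap.ext hall)
    have h3 := LinearMap.congr_fun h2 (T j a x)
    rw [pur_T, pur_T, Function.update_self,
      show (fun i => Function.update A j G (j.succAbove i)) = fun i => A (j.succAbove i) from
        funext fun i => Function.update_of_ne (j.succAbove_ne i) _ _] at h3
    exact C7.T_inj_right ha h3
  rcases (hA j).resolve_left hj with ⟨b, hb, e⟩ | ⟨b, c, hb, hbc, hc, e⟩
  · obtain ⟨b', hb'⟩ := S.exists_dual hb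
    have hne : b' ≠ 0 := fun h => by simp [h] at hb'
    obtain ⟨B, hB, eB⟩ := S.exists_move hb hne
    have h1 := key B hB
    rw [e, S.mx_conj hB, eB] at h1
    have h2 := congrArg (fun G : Matrix (Fin k) (Fin k) F => G *ᵥ b') h1
    simp [S.mx_mulVec, S.alt, hb'] at h2
    exact hb h2.symm
  · have hb0' : b ∉ F ∙ c := fun hm => by
      obtain ⟨r, hr⟩ := Submodule.mem_span_singleton.1 hm
      by_cases hr0 : r = 0
      · exact hb (by rw [← hr, hr0, zero_smul])
      · exact hc (Submodule.mem_span_singleton.2 ⟨r⁻¹, by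
          rw [← hr, smul_smul, inv_mul_cancel₀ hr0, one_smul]⟩)
    obtain ⟨v, hv, hbv⟩ := S.exists_pair hb0'
    have hcv := hv c (Submodule.mem_span_singleton_self c)
    have h1 := key _ (S.tr_mem v (-1))
    rw [e, mul_sub, sub_mul, S.mx_conj (S.tr_mem _ _), S.mx_conj (S.tr_mem _ _)] at h1
    simp only [S.tr_apply, S.skew v b, hbv, S.zero_comm hcv, mul_zero, zero_smul, add_zero,
      neg_mul_neg, one_mul, one_smul] at h1
    have h2 := congrArg (fun G : Matrix (Fin k) (Fin k) F => G *ᵥ b) h1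
    simp [Matrix.sub_mulVec, S.mx_mulVec, S.alt, S.zero_comm hbc, S.skew v b, hbv, map_add] at h2
    exact hc (h2 ▸ zero_mem _)

/-- The wreath element fixes every position. -/
lemma fixes_pos (hR : Reg F k) {y : GL (J k (n + 2)) F}
    (hsq : (eo y - 1) * (eo y - 1) = 0)
    (hrk : finrank F (LinearMap.range (eo y - 1)) ≤ k ^ (n + 1))
    {i l : Fin (n + 2)} {X : GL (J k (n + 1)) F} {B : GL (Fin k) F}
    (hy : ∀ a q, app y (T i a q) = T l (app X a) (app B q))
    (hy' : ∃ (m : Fin (n + 2)) (X' : GL (J k (n + 1)) F) (B' : GL (Fin k) F),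
      ∀ a q, app y (T l a q) = T m (app X' a) (app B' q)) : l = i := by
  by_contra hli
  have hk0 : 0 < k := by have := hR.two_le; omega
  have h2sq : ∀ x, app y (app y x) - app y x - app y x + x = 0 := fun x => by
    have h1 : app y (app y x - x) - (app y x - x) = 0 := LinearMap.congr_fun hsq x
    rw [map_sub] at h1
    rw [← h1]; abel
  obtain ⟨j, rfl⟩ := Fin.exists_succAbove_eq hli
  obtain ⟨q₁, q₂, hq₁, hq₂, hq⟩ : ∃ q₁ q₂ : Fin k → F, q₁ ≠ 0 ∧ q₂ ≠ 0 ∧ q₂ ∉ F ∙ q₁ := by
    refine ⟨Pi.single ⟨0, hk0⟩ 1, Pi.single ⟨1, hR.two_le⟩ 1, by simp, by simp, fun hm => ?_⟩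
    obtain ⟨r, hr⟩ := Submodule.mem_span_singleton.1 hm
    simpa [Fin.ext_iff] using congrFun hr ⟨1, hR.two_le⟩
  by_cases h2 : (2 : F) = 0
  · have hk5 : 5 ≤ k := by rcases hR with ⟨h, -⟩ | ⟨-, h⟩ <;> [exact absurd h2 h; omega]
    set A : Submodule F (J k (n + 2) → F) := Li i q₁ ⊔ Li i q₂ with hAdef
    have hdisj : Li i q₁ ⊓ Li i q₂ = ⊥ := by
      rw [eq_bot_iff]
      rintro x ⟨⟨a, rfl⟩, ⟨b, hb⟩⟩
      simp only [LinearMap.flip_apply] at hb
      rw [Submodule.mem_bot]
      by_cases hb0 : b = 0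
      · simp [← hb, hb0]
      · exact absurd (C7.mem_span_of_T_eq hb0 hb) hq
    have hA : finrank F A = 2 * k ^ (n + 1) := by
      have := Submodule.finrank_sup_add_finrank_inf_eq (Li i q₁) (Li i q₂)
      rw [hdisj, finrank_bot, C7.finrank_Li i hq₁, C7.finrank_Li i hq₂, add_zero] at this
      rw [two_mul]; exact this
    have h4 := C7.finrank_le_map_add (eo y - 1) A
    have h5 : finrank F (A.map (eo y - 1)) ≤ k ^ (n + 1) :=
      (Submodule.finrank_mono LinearMap.map_le_range).trans hrk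
    obtain ⟨γ₁, hγ₁, hγ₁'⟩ := exists_dual_eq_one (show q₁ ∉ F ∙ q₂ from fun hm => by
      obtain ⟨r, hr⟩ := Submodule.mem_span_singleton.1 hm
      have hr0 : r ≠ 0 := fun e => hq₁ (by rw [← hr, e, zero_smul])
      exact hq (Submodule.mem_span_singleton.2 ⟨r⁻¹, by
        rw [← hr, smul_smul, inv_mul_cancel₀ hr0, one_smul]⟩))
    obtain ⟨γ₂, hγ₂, hγ₂'⟩ := exists_dual_eq_one hq
    set P := Li j (app B q₁) ⊔ Li j (app B q₂)
    have hP : ∀ x ∈ (A ⊓ LinearMap.ker (eo y - 1) : Submodule F (J k (n + 2) → F)),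
        ∀ γ : (Fin k → F) →ₗ[F] F, ct i γ x ∈ P := by
      rintro x ⟨hx1, hx2⟩ γ
      obtain ⟨_, ⟨a, rfl⟩, _, ⟨b, rfl⟩, rfl⟩ := Submodule.mem_sup.1 hx1
      have hfix := sub_eq_zero.1 (LinearMap.mem_ker.1 hx2)
      simp only [LinearMap.flip_apply, eo_apply, map_add, hy, Module.End.one_apply] at hfix
      simp only [LinearMap.flip_apply]
      rw [← hfix, map_add]
      exact Submodule.add_mem _ (Submodule.mem_sup_left (C7.ct_mem_Li i j _ (T_mem_Li _ _ _)))
        (Submodule.mem_sup_right (C7.ct_mem_Li i j _ (T_mem_Li _ _ _)))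
    let Φ : (A ⊓ LinearMap.ker (eo y - 1) : Submodule F (J k (n + 2) → F)) →ₗ[F] P × P :=
      LinearMap.prod
        ((ct i γ₁).restrict (p := (A ⊓ LinearMap.ker (eo y - 1) : Submodule F (J k (n + 2) → F)))
          (q := P) fun x hx => hP x hx γ₁)
        ((ct i γ₂).restrict (p := (A ⊓ LinearMap.ker (eo y - 1) : Submodule F (J k (n + 2) → F)))
          (q := P) fun x hx => hP x hx γ₂)
    have hΦ : Function.Injective Φ := by
      rw [← LinearMap.ker_eq_bot, eq_bot_iff]
      rintro ⟨x, hx1, hx2⟩ hx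
      rw [Submodule.mem_bot]
      obtain ⟨_, ⟨a, rfl⟩, _, ⟨b, rfl⟩, rfl⟩ := Submodule.mem_sup.1 hx1
      have e1 := congrArg (fun p => (p.1 : J k (n + 1) → F)) (LinearMap.mem_ker.1 hx)
      have e2 := congrArg (fun p => (p.2 : J k (n + 1) → F)) (LinearMap.mem_ker.1 hx)
      simp only [Φ, LinearMap.prod_apply, Function.prod, Prod.fst_zero, Prod.snd_zero,
        LinearMap.coe_restrict_apply, LinearMap.flip_apply, map_add, ct_T, hγ₁', hγ₂',
        hγ₁ q₂ (Submodule.mem_span_singleton_self _), hγ₂ q₁ (Submodule.mem_span_singleton_self _),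
        one_smul, zero_smul, add_zero, zero_add, ZeroMemClass.coe_zero] at e1 e2
      refine Subtype.ext ?_
      simp [e1, e2]
    have h6 := LinearMap.finrank_le_finrank_of_injective hΦ
    have h7 : finrank F P ≤ 2 * k ^ n := by
      refine (Submodule.finrank_add_le_finrank_add_finrank _ _).trans ?_
      rw [C7.finrank_Li j (fun e => hq₁ ((app B).map_eq_zero_iff.1 e)),
        C7.finrank_Li j (fun e => hq₂ ((app B).map_eq_zero_iff.1 e))]
      omega
    rw [Module.finrank_prod] at h6
    have h8 : 5 * k ^ n ≤ k ^ (n + 1) := by rw [pow_succ, mul_comm]; exact Nat.mul_le_mul_left _ hk5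
    have : 0 < k ^ n := pow_pos hk0 n
    omega
  · have hX : Function.Surjective (app X) := (app X).surjective
    obtain ⟨m, X', B', hy'⟩ := hy'
    have hyy : ∀ a q, T m (app X' (app X a)) (app B' (app B q)) + T i a q =
        (2 : F) • T (i.succAbove j) (app X a) (app B q) := fun a q => by
      have h := h2sq (T i a q)
      rw [hy, hy'] at h
      linear_combination (norm := module) h
    set r := app B q₁ + app B q₂
    have hB12 : app B q₂ ∉ F ∙ app B q₁ := fun hm => by
      obtain ⟨c, hc⟩ := Submodule.mem_span_singleton.1 hm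
      exact hq (Submodule.mem_span_singleton.2 ⟨c, (app B).injective (by rw [map_smul, hc])⟩)
    have hB21 : app B q₁ ∉ F ∙ app B q₂ := fun hm => by
      obtain ⟨c, hc⟩ := Submodule.mem_span_singleton.1 hm
      have hc0 : c ≠ 0 := fun e => hq₁ ((app B).map_eq_zero_iff.1 (by rw [← hc, e, zero_smul]))
      exact hB12 (Submodule.mem_span_singleton.2 ⟨c⁻¹, by
        rw [← hc, smul_smul, inv_mul_cancel₀ hc0, one_smul]⟩)
    have hkey : ∀ q, r ∉ F ∙ app B q → ∃ α : (Fin k → F) →ₗ[F] F, ∀ a : J k n → F,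
        ct (i.succAbove j) α (T m (app X' (app X (T j a r))) (app B' (app B q))) +
          ct (i.succAbove j) α (T i (T j a r) q) = 0 ∧ α r = 1 := fun q hrq => by
      obtain ⟨α, hα, hαr⟩ := exists_dual_eq_one hrq
      refine ⟨α, fun a => ⟨?_, hαr⟩⟩
      have h := congrArg (ct (i.succAbove j) α) (hyy (T j a r) q)
      rwa [map_add, map_smul, ct_T (i.succAbove j) α _ (app B q),
        hα (app B q) (Submodule.mem_span_singleton_self _), zero_smul, smul_zero] at h
    -- the slot of `i` seen from `i.succAbove j`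
    obtain ⟨i', hi'⟩ := Fin.exists_succAbove_eq (i.succAbove_ne j).symm
    have hnest : ∀ a q, ∃ b, T i (T j a r) q = T (i.succAbove j) b r ∧ b ∈ Li i' q := fun a q => by
      obtain ⟨b, hb⟩ := C7.nested_mem i j a r q
      refine ⟨b, hb.symm, ?_⟩
      obtain ⟨δ, hδ⟩ := C7.exists_dual (show r ≠ 0 from fun e => hB12 (by
        rw [show app B q₂ = -app B q₁ from eq_neg_of_add_eq_zero_right e]
        exact Submodule.neg_mem _ (Submodule.mem_span_singleton_self _)))
      have h1 : ct (i.succAbove j) δ (T i (T j a r) q) = b := by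
        rw [← hb]
        show ct (i.succAbove j) δ (T (i.succAbove j) b r) = b
        rw [ct_T, hδ, one_smul]
      rw [← h1]
      exact C7.ct_mem_Li _ _ _ (hi'.symm ▸ T_mem_Li _ _ _)
    have hr1 : r ∉ F ∙ app B q₁ := fun hm => hB12 (by
      simpa [r] using Submodule.sub_mem _ hm (Submodule.mem_span_singleton_self (app B q₁)))
    have hr2 : r ∉ F ∙ app B q₂ := fun hm => hB21 (by
      simpa [r] using Submodule.sub_mem _ hm (Submodule.mem_span_singleton_self (app B q₂)))
    by_cases hm : m = i.succAbove j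
    · subst hm
      have hJ : Nonempty (J k n) := ⟨fun _ => ⟨0, hk0⟩⟩
      obtain ⟨a, ha⟩ := exists_ne (0 : J k n → F)
      have hline : ∀ q, r ∉ F ∙ app B q →
          ∃ b ∈ Li i' q, b ∈ F ∙ app X' (app X (T j a r)) ∧ T i (T j a r) q = T (i.succAbove j) b r := by
        intro q hrq
        obtain ⟨α, hα⟩ := hkey q hrq
        obtain ⟨h1, h2⟩ := hα a
        obtain ⟨b, hb, hb'⟩ := hnest a q
        refine ⟨b, hb', ?_, hb⟩
        rw [hb, ct_T, ct_T, h2, one_smul] at h1
        rw [eq_neg_of_add_eq_zero_right h1]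
        exact Submodule.neg_mem _ (Submodule.smul_mem _ _ (Submodule.mem_span_singleton_self _))
      obtain ⟨b₁, hb₁, hs₁, e₁⟩ := hline q₁ hr1
      obtain ⟨b₂, hb₂, hs₂, e₂⟩ := hline q₂ hr2
      obtain ⟨c₁, rfl⟩ := Submodule.mem_span_singleton.1 hs₁
      obtain ⟨c₂, rfl⟩ := Submodule.mem_span_singleton.1 hs₂
      have hT : T j a r ≠ 0 := fun e => (C7.T_eq_zero e).elim ha fun e => hr1 (e ▸ zero_mem _)
      have hc₁ : c₁ ≠ 0 := fun e => by
        rw [e, zero_smul, map_zero, LinearMap.zero_apply] at e₁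
        exact (C7.T_eq_zero e₁).elim hT hq₁
      refine hq (C7.mem_span_of_T_eq (i := i) (a := T j a r) (b := (c₂ * c₁⁻¹) • T j a r) hT ?_)
      rw [e₂, map_smul, map_smul, LinearMap.smul_apply, LinearMap.smul_apply, e₁, map_smul,
        LinearMap.smul_apply, smul_smul, mul_assoc, inv_mul_cancel₀ hc₁, mul_one]
    · obtain ⟨m', rfl⟩ := Fin.exists_succAbove_eq hm
      obtain ⟨α, hα⟩ := hkey q₁ hr1
      have hs0 : app B' (app B q₁) ≠ 0 := fun e =>
        hq₁ ((app B).map_eq_zero_iff.1 ((app B').map_eq_zero_iff.1 e))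
      have hle : Li i' q₁ ≤ Li m' (app B' (app B q₁)) := by
        rintro _ ⟨b, rfl⟩
        obtain ⟨c, hc⟩ := C7.nested_mem (i.succAbove j) i' b q₁ r
        rw [hi'] at hc
        simp only [LinearMap.flip_apply] at hc ⊢
        obtain ⟨δ, hδ⟩ := C7.exists_dual hq₁
        obtain ⟨a, ha⟩ := C7.ct_mem_Li i j δ (hc ▸ T_mem_Li (i.succAbove j) (T i' b q₁) r)
        have hca : c = T j a r := by
          simp only [LinearMap.flip_apply, ct_T, hδ, one_smul] at ha
          exact ha.symm
        obtain ⟨h1, h2⟩ := hα a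
        rw [← hca, hc, ct_T, h2, one_smul] at h1
        rw [eq_neg_of_add_eq_zero_right h1, hca]
        exact Submodule.neg_mem _ (C7.ct_mem_Li _ _ _ (T_mem_Li _ _ _))
      obtain ⟨e, hsp⟩ := C7.of_Li_le hR.two_le hq₁ hs0 hle
      have hmi : (i.succAbove j).succAbove m' = i := by rw [← e]; exact hi'
      have hle2 : Li (i.succAbove j) (app B q₁) ≤ Li i q₁ := by
        rintro _ ⟨b, rfl⟩
        obtain ⟨a, rfl⟩ := hX b
        obtain ⟨c, hc⟩ := Submodule.mem_span_singleton.1 hsp
        have hc0 : c ≠ 0 := fun e => hq₁ (by rw [← hc, e, zero_smul])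
        have h := hyy a q₁
        rw [hmi, show app B' (app B q₁) = c⁻¹ • q₁ from (eq_inv_smul_iff₀ hc0).2 hc] at h
        simp only [LinearMap.flip_apply]
        rw [← one_smul F (T (i.succAbove j) (app X a) (app B q₁)), ← inv_mul_cancel₀ h2, mul_smul, ← h,
          map_smul, smul_add]
        exact Submodule.add_mem _ (Submodule.smul_mem _ _ (Submodule.smul_mem _ _ (T_mem_Li _ _ _)))
          (Submodule.smul_mem _ _ (T_mem_Li _ _ _))
      exact hli (C7.of_Li_le hR.two_le (fun e => hq₁ ((app B).map_eq_zero_iff.1 e)) hq₁ hle2).1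

/-- A product of two factors with square-zero `y - 1` of small rank has a scalar factor. -/
lemma left_scalar (hR : Reg F k) {i : Fin (n + 1)} {X : GL (J k n) F} {B : GL (Fin k) F}
    (hsq : (eo (kr i X B) - 1) * (eo (kr i X B) - 1) = 0)
    (hrk : finrank F (LinearMap.range (eo (kr i X B) - 1)) ≤ k ^ n)
    {q : Fin k → F} (hBq : app B q ∉ F ∙ q) : ∃ r : F, ∀ a, app X a = r • a := by
  have hq0 : q ≠ 0 := fun e => hBq (by rw [e, map_zero]; exact zero_mem _)
  have hq' : q ∉ F ∙ app B q := fun hm => by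
    obtain ⟨r, hr⟩ := Submodule.mem_span_singleton.1 hm
    have hr0 : r ≠ 0 := fun e => hq0 (by rw [← hr, e, zero_smul])
    exact hBq (Submodule.mem_span_singleton.2 ⟨r⁻¹, (inv_smul_eq_iff₀ hr0).2 hr.symm⟩)
  have h2sq : ∀ a z, T i (app X (app X a)) (app B (app B z)) - T i (app X a) (app B z) -
      T i (app X a) (app B z) + T i a z = 0 := fun a z => by
    have h1 : app (kr i X B) (app (kr i X B) (T i a z) - T i a z) -
        (app (kr i X B) (T i a z) - T i a z) = 0 := LinearMap.congr_fun hsq (T i a z)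
    rw [map_sub, app_kr, app_kr] at h1
    rw [← h1]; abel
  obtain ⟨α, hα, hαq⟩ := exists_dual_eq_one hq'
  have hαB := hα _ (Submodule.mem_span_singleton_self (app B q))
  set ρ := α (app B (app B q))
  have hρ : ∀ a, ρ • app X (app X a) = -a := fun a => by
    have h := congrArg (ct i α) (h2sq a q)
    rw [map_add, map_sub, map_sub, ct_T, ct_T, ct_T, hαB, hαq, map_zero, zero_smul, sub_zero,
      sub_zero, one_smul] at h
    exact eq_neg_of_add_eq_zero_left h
  rcases isEmpty_or_nonempty (J k n) with he | hne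
  · exact ⟨0, fun a => Subsingleton.elim _ _⟩
  obtain ⟨a₁, ha₁⟩ := exists_ne (0 : J k n → F)
  have hρ0 : ρ ≠ 0 := fun e => ha₁ (by
    have := hρ a₁
    rw [e, zero_smul, eq_comm, neg_eq_zero] at this
    exact this)
  have hXX : ∀ a, app X (app X a) = (-ρ⁻¹) • a := fun a => by
    rw [← one_smul F (app X (app X a)), ← inv_mul_cancel₀ hρ0, mul_smul, hρ, smul_neg, neg_smul]
  obtain ⟨β, hβ, hβB⟩ := exists_dual_eq_one hBq
  have hβq := hβ _ (Submodule.mem_span_singleton_self q)
  by_cases h2 : (2 : F) = 0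
  · have hk5 : 5 ≤ k := by rcases hR with ⟨h, -⟩ | ⟨-, h⟩ <;> [exact absurd h2 h; omega]
    obtain ⟨γ, hγ, hγ1⟩ := exists_dual_eq_one hq'
    have hγB := hγ _ (Submodule.mem_span_singleton_self (app B q))
    let Ψ : (J k n → F) →ₗ[F] LinearMap.range (eo (kr i X B) - 1) :=
      (eo (kr i X B) - 1).rangeRestrict ∘ₗ (T i).flip q
    have hΨ : Function.Injective Ψ := by
      rw [← LinearMap.ker_eq_bot, eq_bot_iff]
      intro a ha
      have h : app (kr i X B) (T i a q) - T i a q = 0 := congrArg Subtype.val (LinearMap.mem_ker.1 ha)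
      rw [app_kr] at h
      have h1 := congrArg (ct i γ) h
      simp only [map_sub, ct_T, hγ1, hγB, zero_smul, one_smul, zero_sub, map_zero, neg_eq_zero] at h1
      simpa using h1
    have hsurj : Function.Surjective Ψ := by
      rw [← LinearMap.range_eq_top]
      refine Submodule.eq_top_of_finrank_eq (le_antisymm (Submodule.finrank_le _) ?_)
      rw [LinearMap.finrank_range_of_inj hΨ]
      simpa using hrk
    obtain ⟨z, hz⟩ : ∃ z, z ∉ Submodule.span F (Set.range ![q, app B q]) := by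
      by_contra! hall
      have h1 := Submodule.finrank_mono (show (⊤ : Submodule F (Fin k → F)) ≤ _ from fun x _ => hall x)
      have h4 : finrank F (Submodule.span F (Set.range ![q, app B q])) ≤ Fintype.card (Fin 2) :=
        finrank_range_le_card _
      rw [finrank_top, Module.finrank_fin_fun] at h1
      rw [Fintype.card_fin] at h4
      omega
    have hrel : ∀ a, ∀ δ : (Fin k → F) →ₗ[F] F, δ q = 0 → δ (app B q) = 0 →
        δ (app B z) • app X a = δ z • a := fun a δ hq0 hqB => by
      obtain ⟨b, hb⟩ := hsurj ((eo (kr i X B) - 1).rangeRestrict (T i a z))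
      have h : app (kr i X B) (T i b q) - T i b q = app (kr i X B) (T i a z) - T i a z :=
        congrArg Subtype.val hb
      rw [app_kr, app_kr] at h
      have h1 := congrArg (ct i δ) h
      simp only [map_sub, ct_T, hq0, hqB, zero_smul, sub_zero] at h1
      exact (sub_eq_zero.1 h1.symm)
    obtain ⟨δ, hδ, hδz⟩ := exists_dual_eq_one hz
    have hδq := hδ q (Submodule.subset_span ⟨0, rfl⟩)
    have hδB := hδ (app B q) (Submodule.subset_span ⟨1, rfl⟩)
    by_cases hd : δ (app B z) = 0
    · have := hrel a₁ δ hδq hδB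
      rw [hd, hδz, zero_smul, one_smul] at this
      exact absurd this.symm ha₁
    · refine ⟨(δ (app B z))⁻¹, fun a => ?_⟩
      rw [eq_inv_smul_iff₀ hd, hrel a δ hδq hδB, hδz, one_smul]
  · refine ⟨(2 : F)⁻¹ * (β (app B (app B q)) * -ρ⁻¹), fun a => ?_⟩
    have h := congrArg (ct i β) (h2sq a q)
    rw [map_add, map_sub, map_sub, ct_T, ct_T, ct_T, hβB, hβq, map_zero, hXX, smul_smul, zero_smul,
      add_zero, one_smul, sub_sub, ← two_smul F, sub_eq_zero] at h
    rw [← smul_smul, h, smul_smul, inv_mul_cancel₀ h2, one_smul]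

/-- Square-zero isometries of small rank in the wreath group are position transvections. -/
theorem isTr_of_wr (hR : Reg F k) {y : GL (J k (n + 1)) F} (hyW : y ∈ C7.Wr F k (n + 1))
    (hi : S.Iso (n + 1) y) (hsq : (eo y - 1) * (eo y - 1) = 0)
    (hrk : finrank F (LinearMap.range (eo y - 1)) ≤ k ^ n) :
    ∃ (i : Fin (n + 1)) (w : Fin k → F) (c : F), y = kr i 1 (S.tr w c) := by
  have hk0 : 0 < k := by have := hR.two_le; omega
  have : Nonempty (J k n) := ⟨fun _ => ⟨0, hk0⟩⟩
  have hstep : ∀ i, ∃ (X : GL (J k n) F) (B : GL (Fin k) F), y = kr i X B := by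
    intro i
    obtain ⟨l, X, B, hy⟩ := C7.exists_form hyW i
    have hl : l = i := by
      cases n with
      | zero => exact Subsingleton.elim (α := Fin 1) _ _
      | succ m => exact fixes_pos hR hsq hrk hy (C7.exists_form hyW l)
    exact ⟨X, B, C7.gl_ext_T i fun a q => by rw [hy, hl, app_kr]⟩
  by_cases hall : ∀ i X B, y = kr i X B → ∀ q, app B q ∈ F ∙ q
  · -- scalar
    obtain ⟨r, hr⟩ := eq_smul_one_of_comm (S := S) hR (K := eo y) fun j C hC => by
      obtain ⟨X, B, rfl⟩ := hstep j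
      obtain ⟨s, hs⟩ := C4.scalar_of_lines (app B).toLinearMap (hall j X B rfl)
      rw [cj, ← map_mul, ← map_mul]
      congr 1
      refine C7.gl_ext_T j fun a q => ?_
      have hB : ∀ z, app B z = s • z := fun z => LinearMap.congr_fun hs z
      simp only [C7.kr_inv, inv_one, map_mul, LinearEquiv.mul_apply, app_kr, map_one,
        LinearEquiv.coe_one, id_eq, hB, map_smul, app_app_inv]
    have : Nonempty (J k (n + 1)) := ⟨fun _ => ⟨0, hk0⟩⟩
    obtain ⟨a, ha⟩ := exists_ne (0 : J k (n + 1) → F)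
    have h1 : (r - 1) * (r - 1) = 0 := by
      rw [hr] at hsq
      have h2 : r • (r • a - a) - (r • a - a) = 0 := LinearMap.congr_fun hsq a
      have h3 : ((r - 1) * (r - 1)) • a = 0 := by linear_combination (norm := module) h2
      exact (smul_eq_zero.1 h3).resolve_right ha
    have hr1 : r = 1 := sub_eq_zero.1 (mul_self_eq_zero.1 h1)
    refine ⟨0, Pi.single ⟨0, hk0⟩ 1, 0, eo_inj ?_⟩
    rw [hr, hr1, one_smul, S.eo_kr_tr, zero_smul, add_zero]
  push Not at hall
  obtain ⟨i, X, B, rfl, q, hq⟩ := hall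
  obtain ⟨r, hX⟩ := left_scalar hR hsq hrk hq
  let L : (Fin k → F) →ₗ[F] (Fin k → F) := r • (app B).toLinearMap - LinearMap.id
  have happ : ∀ a z, app (kr i X B) (T i a z) = T i a (z + L z) := fun a z => by
    rw [app_kr, hX, map_smul, LinearMap.smul_apply, ← map_smul]
    congr 1
    simp [L]
  obtain ⟨a₀, ha₀⟩ := exists_ne (0 : J k n → F)
  have hrL : ∀ z z', L z ≠ 0 → L z' ∈ F ∙ L z := by
    intro z z' hz
    by_contra hn
    let Ψ : (J k n → F) × (J k n → F) →ₗ[F] LinearMap.range (eo (kr i X B) - 1) :=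
      ((eo (kr i X B) - 1).rangeRestrict ∘ₗ (T i).flip z).coprod
        ((eo (kr i X B) - 1).rangeRestrict ∘ₗ (T i).flip z')
    obtain ⟨γ', hγ', hγ'1⟩ := exists_dual_eq_one hn
    obtain ⟨γ, hγ, hγ1⟩ := exists_dual_eq_one (show L z ∉ F ∙ L z' from fun hm => by
      obtain ⟨c, hc⟩ := Submodule.mem_span_singleton.1 hm
      have hc0 : c ≠ 0 := fun e => hz (by rw [← hc, e, zero_smul])
      exact hn (Submodule.mem_span_singleton.2 ⟨c⁻¹, by
        rw [← hc, smul_smul, inv_mul_cancel₀ hc0, one_smul]⟩))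
    have hΨ : Function.Injective Ψ := by
      rw [← LinearMap.ker_eq_bot, eq_bot_iff]
      rintro ⟨a, b⟩ hab
      have h : app (kr i X B) (T i a z) - T i a z + (app (kr i X B) (T i b z') - T i b z') = 0 :=
        congrArg Subtype.val (LinearMap.mem_ker.1 hab)
      rw [happ, happ, map_add, map_add, add_sub_cancel_left, add_sub_cancel_left] at h
      have h1 := congrArg (ct i γ) h
      have h1' := congrArg (ct i γ') h
      simp only [map_add, ct_T, hγ1, hγ'1, hγ (L z') (Submodule.mem_span_singleton_self _),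
        hγ' (L z) (Submodule.mem_span_singleton_self _), zero_smul, one_smul, add_zero, zero_add,
        map_zero] at h1 h1'
      simp [h1, h1']
    have := (LinearMap.finrank_le_finrank_of_injective hΨ).trans hrk
    simp at this
    have : 0 < k ^ n := pow_pos hk0 n
    omega
  have hiso : ∀ x z, S.f (x + L x) (z + L z) = S.f x z := fun x z => by
    obtain ⟨b₀, hb₀⟩ : ∃ b, S.pw n a₀ b ≠ 0 := by
      by_contra! h
      exact ha₀ (S.pw_nd h)
    have h := hi (T i a₀ x) (T i b₀ z)
    rw [happ, happ, S.pw_T, S.pw_T] at h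
    exact mul_left_cancel₀ hb₀ h
  obtain ⟨z, hz⟩ : ∃ z, L z ≠ 0 := by
    by_contra! h
    have := h q
    simp [L, sub_eq_zero] at this
    by_cases hr0 : r = 0
    · rw [hr0, zero_smul] at this
      exact hq (by rw [← this, map_zero]; exact zero_mem _)
    · exact hq (Submodule.mem_span_singleton.2 ⟨r⁻¹, (inv_smul_eq_iff₀ hr0).2 this.symm⟩)
  obtain ⟨v, hv⟩ := S.exists_dual hz
  choose φ hφ using fun x => Submodule.mem_span_singleton.1 (hrL z x hz)
  have hφv : ∀ x, φ x = φ v * S.f (L z) x := fun x => by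
    have h := hiso x v
    rw [← hφ x, ← hφ v] at h
    simp only [map_add, map_smul, LinearMap.add_apply, LinearMap.smul_apply, smul_eq_mul, S.alt,
      hv, S.skew x (L z)] at h
    linear_combination h
  refine ⟨i, L z, φ v, C7.gl_ext_T i fun a x => ?_⟩
  rw [happ, app_kr, map_one, S.tr_apply, ← hφ x, hφv x]
  rfl

end Sf

end Cfsg.Agent.C7S
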