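import Cfsg.Agent.Lib.C7S.Rad
import Cfsg.Agent.Lib.C7S.WrRoot
import Cfsg.Agent.Lib.C7F.Lines

/-!
# An element of the overgroup carrying one line to another is in the wreath group

If `g ∈ M` maps `U ⊗ u` onto `U ⊗ u'` then `g (d ⊗ 1) g⁻¹ = h ⊗ 1` for every transvection `d` of the
left factor, `h` is again a transvection by induction, and `g` is in the wreath group.
-/

set_option autoImplicit false
set_option linter.unusedSectionVars false

namespace Cfsg.Agent.C7S

open Matrix Module Cfsg.Agent.Transvect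
open Cfsg.Agent.C7 (J T ct lc ins Li T_apply ct_T lc_T lc_ct T_mem_Li lin_ext kr app_kr gl_ext_T
  kr_mul kr_inv kr_one krHom exists_gl)
open scoped MatrixGroups

variable {F : Type*} [Field F] {k n : ℕ}

lemma kr_commute (i : Fin (n + 1)) (A : GL (J k n) F) (B : GL (Fin k) F) :
    kr i A 1 * kr i 1 B = kr i 1 B * kr i A 1 := by
  rw [kr_mul, kr_mul, mul_one, one_mul, one_mul, mul_one]

lemma kr_inj_right (hk : 0 < k) (i : Fin (n + 1)) {A : GL (J k n) F} {B B' : GL (Fin k) F}
    (h : kr i A B = kr i A B') : B = B' := by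
  have : Nonempty (J k n) := ⟨fun _ => ⟨0, hk⟩⟩
  obtain ⟨a, ha⟩ := exists_ne (0 : J k n → F)
  refine gl_ext fun q => C7.T_inj_right (i := i) (a := app A a)
    (fun e => ha ((app A).map_eq_zero_iff.1 e)) ?_
  rw [← app_kr, ← app_kr, h]

lemma kr_succAbove (i : Fin (n + 2)) (j : Fin (n + 1)) (B : GL (Fin k) F) :
    kr (i.succAbove j) (1 : GL (J k (n + 1)) F) B = kr i (kr j 1 B) 1 :=
  gl_ext_T i fun a q => by rw [kr_nested, app_kr, map_one]; rfl

namespace Sf

variable (S : Sf F k)

lemma tr_conj {B : GL (Fin k) F} (hB : B ∈ S.spGen) (y : Fin k → F) (c : F) :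
    B * S.tr y c * B⁻¹ = S.tr (app B y) c := gl_ext fun x => by
  simp only [map_mul, LinearEquiv.mul_apply, S.tr_apply, map_add, map_smul, app_app_inv]
  conv_rhs => rw [← app_app_inv B x, S.spGen_iso hB, app_app_inv]

lemma tr_add (y : Fin k → F) (a b : F) : S.tr y a * S.tr y b = S.tr y (a + b) := gl_ext fun x => by
  simp only [map_mul, LinearEquiv.mul_apply, S.tr_apply, map_add, map_smul, S.alt, smul_eq_mul]
  module

lemma tr_smul (y : Fin k → F) (r c : F) : S.tr (r • y) c = S.tr y (r * r * c) := gl_ext fun x => by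
  simp only [S.tr_apply, map_smul, LinearMap.smul_apply, smul_eq_mul, smul_smul]
  ring_nf

lemma tr_zero_vec (c : F) : S.tr 0 c = 1 := gl_ext fun x => by simp [S.tr_apply]

/-- `g` commutes with the radical elements at `u`. -/
lemma eo_kr_eA (i : Fin (n + 1)) {u x : Fin k → F} (h : S.f u x = 0) :
    eo (kr i 1 (S.eA u x)) = 1 + S.bk i u x 1 + S.bk i x u 1 :=
  lin_ext i fun a q => by
    rw [eo_apply, app_kr, map_one, S.eA_apply h, LinearMap.add_apply, LinearMap.add_apply, S.bk_T,
      S.bk_T]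
    simp [map_add, map_smul]

/-- The overgroups with scalar position elements are in the wreath group. -/
def Maxl (n : ℕ) : Prop :=
  ∀ M : Subgroup (GL (J k (n + 1)) F), S.Ovg M → M ≤ C7.Wr F k (n + 1)

variable {S}

lemma Iso.mul {g h : GL (J k n) F} (hg : S.Iso n g) (hh : S.Iso n h) : S.Iso n (g * h) :=
  fun x y => by rw [map_mul, LinearEquiv.mul_apply, LinearEquiv.mul_apply, hg, hh]

lemma Iso.inv {g : GL (J k n) F} (hg : S.Iso n g) : S.Iso n g⁻¹ := fun x y => by
  rw [← hg, app_app_inv, app_app_inv]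

lemma iso_kr {i : Fin (n + 1)} {A : GL (J k n) F} {B : GL (Fin k) F} (hA : S.Iso n A)
    (hB : ∀ x y, S.f (app B x) (app B y) = S.f x y) : S.Iso (n + 1) (kr i A B) := by
  have h : (S.pw (n + 1)).compl₁₂ (app (kr i A B)).toLinearMap (app (kr i A B)).toLinearMap =
      S.pw (n + 1) :=
    lin_ext i fun a q => lin_ext i fun a' q' => by
      simp only [LinearMap.compl₁₂_apply, LinearEquiv.coe_coe, app_kr, S.pw_T]
      rw [hA, hB]
  intro x y
  exact LinearMap.congr_fun (LinearMap.congr_fun h x) y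

lemma iso_left (hk : 0 < k) {i : Fin (n + 1)} {A : GL (J k n) F} (h : S.Iso (n + 1) (kr i A 1)) :
    S.Iso n A := fun a b => by
  obtain ⟨v, hv⟩ := S.exists_dual (u := Pi.single ⟨0, hk⟩ 1) (by simp)
  have := h (T i a (Pi.single ⟨0, hk⟩ 1)) (T i b v)
  rwa [app_kr, app_kr, map_one, S.pw_T, S.pw_T, LinearEquiv.coe_one, id_eq, id_eq, hv, mul_one,
    mul_one] at this

lemma Rd.sub_mem {i : Fin (n + 1)} {u v : Fin k → F} {g : GL (J k (n + 1)) F} (hg : S.Rd i u g)
    (huv : S.f u v = 1) {y : J k (n + 1) → F} (hy : ct i (S.f u) y = 0) :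
    app g y - y ∈ Li i u := by
  let φ : (J k (n + 1) → F) →ₗ[F] (J k (n + 1) → F) :=
    LinearMap.id - (T i).flip v ∘ₗ ct i (S.f u)
  have h : (Li i u).mkQ ∘ₗ ((app g).toLinearMap - LinearMap.id) ∘ₗ φ = 0 := lin_ext i fun a q => by
    have hz : φ (T i a q) = T i a (q - S.f u q • v) := by simp [φ]
    simp only [LinearMap.comp_apply, hz, LinearMap.zero_apply, Submodule.mkQ_apply,
      Submodule.Quotient.mk_eq_zero]
    exact hg.2 _ (by simp [huv]) a
  have := LinearMap.congr_fun h y
  simp only [LinearMap.comp_apply, φ, LinearMap.sub_apply, LinearMap.id_apply, hy, map_zero,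
    LinearMap.flip_apply, LinearMap.zero_apply, sub_zero, Submodule.mkQ_apply,
    Submodule.Quotient.mk_eq_zero] at this
  exact this

/-- The left factor of an overgroup. -/
lemma Ovg.left (hk : 0 < k) {M : Subgroup (GL (J k (n + 2)) F)} (hM : S.Ovg M) (i : Fin (n + 2)) :
    S.Ovg (M.comap (krHom F k i)) where
  roots j u c := by
    show kr i (kr j 1 (S.tr u c)) 1 ∈ M
    rw [← kr_succAbove]
    exact hM.roots _ u c
  iso A hA := iso_left hk (hM.iso _ hA)
  scal j u K hu hK := by
    obtain ⟨h, hh, e⟩ := hK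
    have hM' : kr i h 1 ∈ M := hh
    have hi := hM.iso _ hM'
    obtain ⟨v, huv⟩ := S.exists_dual hu
    have hfix : ∀ x, S.f u x = 0 → ∀ a,
        app (kr i h 1) (T (i.succAbove j) a x) = T (i.succAbove j) a x := fun x hx a => by
      conv_rhs => rw [← C7.sum_T_single i (T (i.succAbove j) a x)]
      conv_lhs => rw [← C7.sum_T_single i (T (i.succAbove j) a x), map_sum]
      refine Finset.sum_congr rfl fun c _ => ?_
      obtain ⟨b, hb⟩ := C7.ct_mem_Li i j (LinearMap.proj c) (T_mem_Li (i.succAbove j) a x)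
      have hh1 : app h (T j b x) = T j b x := by
        rw [← eo_apply, e, LinearMap.add_apply, Module.End.one_apply, S.bk_T, hx, zero_smul, add_zero]
      rw [app_kr, map_one,
        show (fun g => T (i.succAbove j) a x (ins i c g)) = T j b x from hb.symm, hh1]
      rfl
    have hrd : S.Rd (i.succAbove j) u (kr i h 1) :=
      ⟨hfix u (S.alt u), fun x hx a => by rw [hfix x hx, sub_self]; exact zero_mem _⟩
    have he := hrd.eq_bk hi huv fun x hx => LinearMap.ext fun a => by simp [kap_apply, hfix x hx]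
    obtain ⟨r, hr⟩ := hM.scal _ u _ hu ⟨_, hM', he⟩
    rw [hr, S.bk_smul, ← S.eo_kr_tr, kr_succAbove] at he
    have h1 : h = kr j 1 (S.tr u r) := by
      have : Nonempty (Fin k) := ⟨⟨0, hk⟩⟩
      obtain ⟨q, hq⟩ := exists_ne (0 : Fin k → F)
      refine gl_ext fun a => C7.T_inj_left (i := i) hq ?_
      have := congrArg (fun g => app g (T i a q)) (eo_inj he)
      simpa only [app_kr, map_one, LinearEquiv.coe_one, id_eq] using this
    rw [h1, S.eo_kr_tr] at e
    refine ⟨r, ?_⟩
    have h2 := congrArg (S.Kb j v v) (add_left_cancel e)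
    have hKb : ∀ U : Module.End F (J k n → F), S.Kb j v v (S.bk j u u U) = -U := fun U =>
      LinearMap.ext fun a => by
        show ct j (S.f v) (S.bk j u u U (T j a v)) = -U a
        rw [S.bk_T, huv, one_smul, ct_T, S.skew v u, huv, neg_smul, one_smul]
    rw [S.Kb_smul, hKb, hKb] at h2
    refine neg_injective (h2.symm.trans ?_)
    exact LinearMap.ext fun a => funext fun c => by simp

variable [Fintype F]

/-- A position element with coefficient `Δ` conjugating position transvections into `M`. -/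
lemma Ovg.delta_scalar (hR : Reg F k) {M : Subgroup (GL (J k (n + 1)) F)} (hM : S.Ovg M)
    {l : Fin (n + 1)} {u : Fin k → F} (hu : u ≠ 0) {Δ : Module.End F (J k n → F)}
    {w : GL (J k (n + 1)) F} (hw : eo w = 1 + S.bk l u u Δ)
    (h : ∀ B ∈ S.spGen, w * kr l 1 B * w⁻¹ ∈ M) : ∃ r : F, Δ = r • 1 := by
  have hsq : ∀ (b : Fin k → F) (U : Module.End F (J k n → F)),
      S.bk l b b U * S.bk l b b U = 0 := fun b U => by rw [S.bk_mul, S.alt, zero_smul]
  have pair : ∀ b, b ≠ 0 → S.f u b = 0 → InM M (S.bk l u u Δ - S.bk l b b Δ) := by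
    intro b hb hub
    obtain ⟨B, hB, eB⟩ := S.exists_move hu hb
    set G := kr l (1 : GL (J k n) F) B with hG
    have hm : w * (G * w⁻¹ * G⁻¹) ∈ M := by
      rw [← mul_assoc, ← mul_assoc]
      exact mul_mem (h B hB) (inv_mem (hM.kr_mem l hB))
    refine ⟨_, hm, ?_⟩
    rw [map_mul, hw, eo_conj (X := -S.bk l u u Δ)
      (by rw [eo_inv_of_sq hw (hsq u Δ), sub_eq_add_neg]),
      show cj G (-S.bk l u u Δ) = S.bk l b b (-Δ) by
        rw [← S.bk_neg, hG, S.cj_bk_kr l hB, eB]]
    simp only [mul_add, add_mul, mul_one, one_mul, S.bk_mul, hub, zero_smul, add_zero]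
    rw [S.bk_neg]
    abel
  have scal : ∀ r : F, r ≠ 0 → InM M (S.bk l u u (r • Δ)) → ∃ r : F, Δ = r • 1 := fun r hr hm => by
    obtain ⟨s, hs⟩ := hM.scal l u _ hu hm
    exact ⟨r⁻¹ * s, by rw [mul_smul, ← hs, smul_smul, inv_mul_cancel₀ hr, one_smul]⟩
  have hk2 := hR.two_le
  by_cases hk : k = 2
  · have hq : 3 < Fintype.card F := by rcases hR with ⟨-, h | ⟨-, h⟩⟩ | ⟨-, h⟩ <;> omega
    obtain ⟨r, hr0, hr⟩ : ∃ r : F, r ≠ 0 ∧ r * r ≠ 1 := by
      classical
      obtain ⟨r, hr⟩ : ∃ r, r ∉ ({0, 1, -1} : Finset F) := by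
        by_contra! hall
        have := Finset.card_le_card (show (Finset.univ : Finset F) ⊆ {0, 1, -1} from fun x _ => hall x)
        have := this.trans Finset.card_le_three
        rw [Finset.card_univ] at this
        omega
      simp only [Finset.mem_insert, Finset.mem_singleton, not_or] at hr
      exact ⟨r, hr.1, fun e => (mul_self_eq_one_iff.1 e).elim hr.2.1 hr.2.2⟩
    refine scal (1 - r * r) (fun e => hr (sub_eq_zero.1 e).symm) ?_
    have := pair (r • u) (smul_ne_zero hr0 hu) (by rw [map_smul, S.alt, smul_zero])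
    convert this using 1
    rw [S.bk_smul, S.bk_smul_left, S.bk_smul_right]
    exact LinearMap.ext fun x => funext fun c => by simp; ring
  have hk4 : 4 ≤ k := by rcases hR with ⟨-, h | ⟨h, -⟩⟩ | ⟨-, h⟩ <;> omega
  obtain ⟨z, hz, hzu⟩ := S.exists_orth (by omega) u
  have hzu' := S.zero_comm hz
  by_cases h2 : (2 : F) = 0
  · have hk6 : 6 ≤ k := by rcases hR with ⟨h, -⟩ | ⟨-, h⟩ <;> [exact absurd h2 h; exact h]
    obtain ⟨e, heu, hez, hes⟩ : ∃ e, S.f u e = 0 ∧ S.f z e = 0 ∧
        e ∉ Submodule.span F (Set.range ![u, z]) := by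
      let Φ : (Fin k → F) →ₗ[F] (Fin 2 → F) := LinearMap.pi fun p => S.f (![u, z] p)
      by_contra! hall
      have h1 := Submodule.finrank_mono (show LinearMap.ker Φ ≤ Submodule.span F (Set.range ![u, z])
        from fun e he => hall e (congrFun (LinearMap.mem_ker.1 he) 0)
          (congrFun (LinearMap.mem_ker.1 he) 1))
      have h2 := Φ.finrank_range_add_finrank_ker
      have h3 := Submodule.finrank_le (LinearMap.range Φ)
      have h4 : finrank F (Submodule.span F (Set.range ![u, z])) ≤ Fintype.card (Fin 2) :=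
        finrank_range_le_card _
      rw [Module.finrank_fin_fun] at h2 h3
      rw [Fintype.card_fin] at h4
      omega
    have heu' := S.zero_comm heu
    have hez' := S.zero_comm hez
    have key : ∀ α β γ : F, β ≠ 0 ∨ γ ≠ 0 → α • u + β • z + γ • e ≠ 0 := by
      intro α β γ hne h0
      have hγ : γ = 0 := by
        by_contra hγ
        refine hes ?_
        rw [show e = -(γ⁻¹ * α) • u + -(γ⁻¹ * β) • z by
          rw [← inv_smul_smul₀ hγ e, eq_neg_of_add_eq_zero_right h0]
          module]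
        exact Submodule.add_mem _ (Submodule.smul_mem _ _ (Submodule.subset_span ⟨0, rfl⟩))
          (Submodule.smul_mem _ _ (Submodule.subset_span ⟨1, rfl⟩))
      rw [hγ, zero_smul, add_zero] at h0
      have hβ : β ≠ 0 := hne.resolve_right (not_not_intro hγ)
      refine hzu (Submodule.mem_span_singleton.2 ⟨-(β⁻¹ * α), ?_⟩)
      rw [← inv_smul_smul₀ hβ z, eq_neg_of_add_eq_zero_right h0]
      module
    have hp : ∀ α β γ : F, β ≠ 0 ∨ γ ≠ 0 → InM M (S.bk l u u Δ -
        S.bk l (α • u + β • z + γ • e) (α • u + β • z + γ • e) Δ) := fun α β γ hne =>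
      pair _ (key α β γ hne) (by simp [S.alt, hz, heu])
    have hsum := ((((((hp 0 1 0 (.inl one_ne_zero)).add (hp 0 0 1 (.inr one_ne_zero)) ?_).add
      (hp 0 1 1 (.inl one_ne_zero)) ?_).add (hp 1 1 0 (.inl one_ne_zero)) ?_).add
      (hp 1 0 1 (.inr one_ne_zero)) ?_).add (hp 1 1 1 (.inl one_ne_zero)) ?_)
    rotate_left
    iterate 5
      simp [sub_mul, mul_sub, add_mul, mul_add, S.bk_mul, S.alt, hz, hzu', heu, heu', hez, hez']
    refine scal 1 one_ne_zero ?_
    rw [one_smul]
    convert hsum using 1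
    refine LinearMap.ext fun x => funext fun c => ?_
    simp [S.bk_add_left, S.bk_add_right]
    linear_combination (-(1 * S.bk l u u Δ x c) + 2 * S.bk l z z Δ x c + 2 * S.bk l e e Δ x c +
      S.bk l z e Δ x c + S.bk l e z Δ x c + S.bk l u z Δ x c + S.bk l z u Δ x c +
      S.bk l u e Δ x c + S.bk l e u Δ x c) * h2
  · have hp : ∀ α : F, InM M (S.bk l u u Δ - S.bk l (α • u + z) (α • u + z) Δ) := fun α =>
      pair _ (fun h0 => hzu (by
        rw [eq_neg_of_add_eq_zero_right h0]
        exact Submodule.neg_mem _ (Submodule.smul_mem _ _ (Submodule.mem_span_singleton_self u))))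
        (by simp [S.alt, hz])
    have hsum := (((hp 1).add (hp (-1)) ?_).sub (hp 0) ?_ ?_).sub (hp 0) ?_ ?_
    rotate_left
    iterate 5
      simp [sub_mul, mul_sub, add_mul, mul_add, S.bk_mul, S.alt, hz, hzu']
    refine scal (-2) (neg_ne_zero.2 h2) ?_
    convert hsum using 1
    refine LinearMap.ext fun x => funext fun c => ?_
    simp [S.bk_add_left, S.bk_add_right, S.bk_smul_left, S.bk_smul_right, S.bk_smul,
      show S.bk l (-u) (-u) Δ = S.bk l u u Δ from S.bk_neg_neg _ _ _ _,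
      show S.bk l (-u) z Δ = -S.bk l u z Δ by
        rw [← neg_one_smul F u, S.bk_smul_left]; exact LinearMap.ext fun x => funext fun c => by simp,
      show S.bk l z (-u) Δ = -S.bk l z u Δ by
        rw [← neg_one_smul F u, S.bk_smul_right]; exact LinearMap.ext fun x => funext fun c => by simp]
    ring

/-- A homomorphism of the transvections of one position into a commuting set is trivial. -/
lemma hom_trivial_on (hR : Reg F k) {G : Type*} [Group G] (σ₀ : S.spGen →* G)
    (hcomm : ∀ A B : S.spGen, σ₀ A * σ₀ B = σ₀ B * σ₀ A) : ∀ B : S.spGen, σ₀ B = 1 := by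
  classical
  let σ : GL (Fin k) F → G := fun A => if hA : A ∈ S.spGen then σ₀ ⟨A, hA⟩ else 1
  have hval : ∀ A (hA : A ∈ S.spGen), σ A = σ₀ ⟨A, hA⟩ := fun A hA => dif_pos hA
  have hσm : ∀ A ∈ S.spGen, ∀ B ∈ S.spGen, σ (A * B) = σ A * σ B := fun A hA B hB => by
    rw [hval A hA, hval B hB, hval _ (mul_mem hA hB), ← map_mul]; rfl
  have hσ1 : σ 1 = 1 := by rw [hval 1 (one_mem _)]; exact map_one σ₀
  have hcm : ∀ A ∈ S.spGen, ∀ B ∈ S.spGen, σ A * σ B = σ B * σ A := fun A hA B hB => by
    rw [hval A hA, hval B hB, hcomm]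
  have hinv : ∀ (y y' : Fin k → F), y ≠ 0 → y' ≠ 0 → ∀ c, σ (S.tr y c) = σ (S.tr y' c) := by
    intro y y' hy hy' c
    obtain ⟨B, hB, eB⟩ := S.exists_move hy hy'
    rw [← eB, ← S.tr_conj hB, hσm _ (mul_mem hB (S.tr_mem _ _)) _ (inv_mem hB),
      hσm _ hB _ (S.tr_mem _ _), hcm B hB _ (S.tr_mem _ _), mul_assoc, ← hσm _ hB _ (inv_mem hB),
      mul_inv_cancel, hσ1, mul_one]
  have main : ∀ (y : Fin k → F) (c : F), σ (S.tr y c) = 1 := by
    intro y c
    by_cases hy : y = 0
    · rw [hy, S.tr_zero_vec, hσ1]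
    have hk2 := hR.two_le
    by_cases hk : k = 2
    · have hq : 3 < Fintype.card F := by rcases hR with ⟨-, h | ⟨-, h⟩⟩ | ⟨-, h⟩ <;> omega
      obtain ⟨r, hr0, hr⟩ : ∃ r : F, r ≠ 0 ∧ r * r ≠ 1 := by
        classical
        obtain ⟨r, hr⟩ : ∃ r, r ∉ ({0, 1, -1} : Finset F) := by
          by_contra! hall
          have := Finset.card_le_card
            (show (Finset.univ : Finset F) ⊆ {0, 1, -1} from fun x _ => hall x)
          have := this.trans Finset.card_le_three
          rw [Finset.card_univ] at this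
          omega
        simp only [Finset.mem_insert, Finset.mem_singleton, not_or] at hr
        exact ⟨r, hr.1, fun e => (mul_self_eq_one_iff.1 e).elim hr.2.1 hr.2.2⟩
      have hd : r * r - 1 ≠ 0 := sub_ne_zero.2 hr
      set d := (r * r - 1)⁻¹ * c
      have e1 := hinv (r • y) y (smul_ne_zero hr0 hy) hy d
      rw [S.tr_smul, show r * r * d = d + c by
        linear_combination (mul_inv_cancel_left₀ hd c : (r * r - 1) * d = c), ← S.tr_add, hσm _ (S.tr_mem _ _) _ (S.tr_mem _ _)] at e1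
      exact mul_eq_left.1 e1
    have hk4 : 4 ≤ k := by rcases hR with ⟨-, h | ⟨h, -⟩⟩ | ⟨-, h⟩ <;> omega
    obtain ⟨w, hw, hwy⟩ := S.exists_orth (by omega) y
    have hw' := S.zero_comm hw
    have hw0 : w ≠ 0 := fun e => hwy (e ▸ zero_mem _)
    by_cases h2 : (2 : F) = 0
    · have hk6 : 6 ≤ k := by rcases hR with ⟨h, -⟩ | ⟨-, h⟩ <;> [exact absurd h2 h; exact h]
      obtain ⟨e, hey, hew, hes⟩ : ∃ e, S.f y e = 0 ∧ S.f w e = 0 ∧
          e ∉ Submodule.span F (Set.range ![y, w]) := by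
        let Φ : (Fin k → F) →ₗ[F] (Fin 2 → F) := LinearMap.pi fun p => S.f (![y, w] p)
        by_contra! hall
        have h1 := Submodule.finrank_mono (show LinearMap.ker Φ ≤ Submodule.span F (Set.range ![y, w])
          from fun e he => hall e (congrFun (LinearMap.mem_ker.1 he) 0)
            (congrFun (LinearMap.mem_ker.1 he) 1))
        have h2 := Φ.finrank_range_add_finrank_ker
        have h3 := Submodule.finrank_le (LinearMap.range Φ)
        have h4 : finrank F (Submodule.span F (Set.range ![y, w])) ≤ Fintype.card (Fin 2) :=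
          finrank_range_le_card _
        rw [Module.finrank_fin_fun] at h2 h3
        rw [Fintype.card_fin] at h4
        omega
      have hey' := S.zero_comm hey
      have hew' := S.zero_comm hew
      have hneg : ∀ x : Fin k → F, -x = x := fun x =>
        neg_eq_iff_add_eq_zero.2 (by rw [← two_smul F, h2, zero_smul])
      have n1 : y + w ≠ 0 := fun h => hwy (by
        rw [eq_neg_of_add_eq_zero_right h]
        exact Submodule.neg_mem _ (Submodule.mem_span_singleton_self y))
      have n2 : ∀ a b : F, a • y + b • w + e ≠ 0 := fun a b h => hes (by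
        rw [eq_neg_of_add_eq_zero_right h]
        exact Submodule.neg_mem _ (Submodule.add_mem _
          (Submodule.smul_mem _ _ (Submodule.subset_span ⟨0, rfl⟩))
          (Submodule.smul_mem _ _ (Submodule.subset_span ⟨1, rfl⟩))))
      have hprod : S.tr y c * S.tr w c * S.tr e c * S.tr (y + w) c * S.tr (y + e) c *
          S.tr (w + e) c * S.tr (y + w + e) c = 1 := gl_ext fun x => by
        simp only [map_mul, LinearEquiv.mul_apply, S.tr_apply, map_one, LinearEquiv.coe_one, id_eq,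
          map_add, map_smul, LinearMap.add_apply, S.alt, hw, hw', hey, hey', hew, hew',
          smul_eq_mul, mul_zero, zero_add, add_zero]
        funext p
        simp only [Pi.add_apply, Pi.smul_apply, smul_eq_mul]
        linear_combination (c * (2 * S.f y x * y p + 2 * S.f w x * w p + 2 * S.f e x * e p +
          S.f y x * w p + S.f w x * y p + S.f y x * e p + S.f e x * y p + S.f w x * e p +
          S.f e x * w p)) * h2
      have h7 : σ (S.tr y c) ^ 7 = 1 := by
        have h := congrArg σ hprod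
        have t := fun z : Fin k → F => S.tr_mem z c
        rw [hσm _ (mul_mem (mul_mem (mul_mem (mul_mem (mul_mem (t _) (t _)) (t _)) (t _)) (t _)) (t _))
            _ (t _),
          hσm _ (mul_mem (mul_mem (mul_mem (mul_mem (t _) (t _)) (t _)) (t _)) (t _)) _ (t _),
          hσm _ (mul_mem (mul_mem (mul_mem (t _) (t _)) (t _)) (t _)) _ (t _),
          hσm _ (mul_mem (mul_mem (t _) (t _)) (t _)) _ (t _),
          hσm _ (mul_mem (t _) (t _)) _ (t _), hσm _ (t _) _ (t _), hσ1] at h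
        rw [← hinv y w hy hw0,
          ← hinv y e hy (fun h0 => n2 0 0 (by simp [h0])),
          ← hinv y (y + w) hy n1,
          ← hinv y (y + e) hy (fun h0 => n2 1 0 (by simp [h0])),
          ← hinv y (w + e) hy (fun h0 => n2 0 1 (by simp [h0])),
          ← hinv y (y + w + e) hy (fun h0 => n2 1 1 (by simp [h0]))] at h
        simpa [pow_succ, mul_assoc] using h
      have h2' : σ (S.tr y c) * σ (S.tr y c) = 1 := by
        rw [← hσm _ (S.tr_mem _ _) _ (S.tr_mem _ _), S.tr_add, ← two_mul, h2, zero_mul,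
          show S.tr y 0 = 1 from gl_ext fun x => by simp [S.tr_apply], hσ1]
      simpa [pow_succ, mul_assoc, h2'] using h7
    · have hprod : ∀ d : F, S.tr (y + w) d * S.tr (y - w) d = S.tr y (2 * d) * S.tr w (2 * d) :=
        fun d => gl_ext fun x => by
          simp only [map_mul, LinearEquiv.mul_apply, S.tr_apply, map_add, map_sub, map_smul,
            LinearMap.add_apply, LinearMap.sub_apply, S.alt, hw, hw', smul_eq_mul]
          module
      have h := congrArg σ (hprod (2⁻¹ * c))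
      rw [hσm _ (S.tr_mem _ _) _ (S.tr_mem _ _), hσm _ (S.tr_mem _ _) _ (S.tr_mem _ _),
        ← hinv y (y + w) hy (fun h => hwy (by
          rw [eq_neg_of_add_eq_zero_right h]
          exact Submodule.neg_mem _ (Submodule.mem_span_singleton_self y))),
        ← hinv y (y - w) hy (fun h => hwy (by
          rw [← sub_eq_zero.1 h]; exact Submodule.mem_span_singleton_self y)),
        ← hinv y w hy hw0, ← mul_assoc, mul_inv_cancel₀ h2, one_mul, ← hσm _ (S.tr_mem _ _) _ (S.tr_mem _ _), S.tr_add,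
        ← two_mul, ← mul_assoc, mul_inv_cancel₀ h2, one_mul] at h
      exact mul_eq_left.1 h.symm
  rintro ⟨B, hB⟩
  rw [← hval B hB]
  induction hB using Subgroup.closure_induction with
  | mem B hB => obtain ⟨⟨y, c⟩, rfl⟩ := hB; exact main y c
  | one => exact hσ1
  | mul A B hA' hB' hA hB => rw [hσm A hA' B hB', hA, hB, one_mul]
  | inv A hA' hA =>
    have := hσm A hA' A⁻¹ (inv_mem hA')
    rwa [mul_inv_cancel, hσ1, hA, one_mul, eq_comm] at this

/-- The standing situation: `g` maps `U ⊗ u` to `U ⊗ u'` by `β`. -/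
lemma line_perp {i l : Fin (n + 1)} {u u' : Fin k → F} {g : GL (J k (n + 1)) F}
    (hg : S.Iso (n + 1) g) {β : GL (J k n) F} (h : ∀ a, app g (T i a u) = T l (app β a) u')
    {x : Fin k → F} (hx : S.f u x = 0) (a : J k n → F) :
    ct l (S.f u') (app g (T i a x)) = 0 :=
  S.pw_ext fun b => by
    obtain ⟨b, rfl⟩ := (app β).surjective b
    rw [LinearMap.map_zero₂, S.pw_comm (app β b), ← S.pw_T_left, ← h, hg, S.pw_T, hx, mul_zero,
      mul_zero]

/-- Conjugation by `g` of a left element is `(β D β⁻¹) ⊗ B`. -/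
theorem Ovg.conj_left (hR : Reg F k) {M : Subgroup (GL (J k (n + 1)) F)} (hM : S.Ovg M)
    {g : GL (J k (n + 1)) F} (hg : g ∈ M) {i l : Fin (n + 1)} {u u' : Fin k → F} (hu : u ≠ 0)
    (hu' : u' ≠ 0) {β : GL (J k n) F} (h : ∀ a, app g (T i a u) = T l (app β a) u')
    {D : GL (J k n) F} (hD : kr i D 1 ∈ M) :
    ∃ B ∈ S.spGen, g * kr i D 1 * g⁻¹ = kr l (β * D * β⁻¹) B ∧
      ∃ z c, S.f u' z = 0 ∧ B = S.eA u' z * S.tr u' c ∧
        (∀ x, S.f u' x = 0 → B * S.eA u' x = S.eA u' x * B) ∧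
        ∀ c, B * S.tr u' c = S.tr u' c * B := by
  have hk0 : 0 < k := by have := hR.two_le; omega
  obtain ⟨v, huv⟩ := S.exists_dual hu
  obtain ⟨v', huv'⟩ := S.exists_dual hu'
  have hi := hM.iso g hg
  have hinv : ∀ b, app g⁻¹ (T l b u') = T i (app β⁻¹ b) u := fun b => by
    conv_lhs => rw [← app_app_inv β b, ← h, app_inv_app]
  set E := g * kr i D 1 * g⁻¹ with hEdef
  have hEM : E ∈ M := mul_mem (mul_mem hg hD) (inv_mem hg)
  -- `E` commutes with the radical elements of `M`
  have hcommE : ∀ x ∈ M, S.Rd l u' x → x * E = E * x := by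
    intro x hxM hx
    have hrd : S.Rd i u (g⁻¹ * x * g) := by
      refine ⟨fun a => ?_, fun y hy a => ?_⟩
      · rw [map_mul, map_mul, LinearEquiv.mul_apply, LinearEquiv.mul_apply, h, hx.1, ← h, app_inv_app]
      · obtain ⟨b, hb⟩ := hx.sub_mem huv' (line_perp hi h hy a)
        rw [map_mul, map_mul, LinearEquiv.mul_apply, LinearEquiv.mul_apply,
          eq_add_of_sub_eq' (show app x (app g (T i a y)) - app g (T i a y) = T l b u' from hb.symm),
          map_add, app_inv_app, add_sub_cancel_left, hinv]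
        exact T_mem_Li _ _ _
    obtain ⟨B, -, -, eB⟩ := hM.exists_of_rd hR (mul_mem (mul_mem (inv_mem hg) hxM) hg) hrd hu
    rw [show x = g * (g⁻¹ * x * g) * g⁻¹ by group, eB, hEdef]
    calc g * kr i 1 B * g⁻¹ * (g * kr i D 1 * g⁻¹) = g * (kr i 1 B * kr i D 1) * g⁻¹ := by group
      _ = _ := by rw [← kr_commute]; group
  set H := β * D * β⁻¹ with hH
  have hEu : ∀ b, app E (T l b u') = T l (app H b) u' := fun b => by
    rw [hEdef, map_mul, map_mul, LinearEquiv.mul_apply, LinearEquiv.mul_apply, hinv, app_kr, map_one,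
      LinearEquiv.coe_one, id_eq, h]
    simp only [hH, map_mul, LinearEquiv.mul_apply]
  have hrt : ∀ c : F, S.Rd l u' (kr l 1 (S.tr u' c)) := fun c =>
    kr_rd (by rw [S.tr_apply, S.alt, mul_zero, zero_smul, add_zero]) fun x _ => by
      rw [S.tr_apply, add_sub_cancel_left]
      exact Submodule.smul_mem _ _ (Submodule.mem_span_singleton_self u')
  have hEv : ∀ a, ct l (S.f u') (app E (T l a v')) = app H a := fun a => by
    have h1 := congrArg (fun e => app e (T l a v'))
      (hcommE _ (hM.kr_mem l (S.tr_mem u' 1)) (hrt 1))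
    simp only [map_mul, LinearEquiv.mul_apply, app_kr, map_one, LinearEquiv.coe_one, id_eq,
      S.tr_apply, huv', mul_one, one_smul, map_add, hEu] at h1
    rw [← eo_apply (kr l 1 (S.tr u' 1)), S.eo_kr_tr, one_smul, LinearMap.add_apply,
      Module.End.one_apply, add_right_inj] at h1
    exact C7.T_inj_left hu' h1
  have hEx : ∀ x, S.f u' x = 0 → ∀ a,
      app E (T l a x) - T l (app H a) x ∈ Li l u' := fun x hx a => by
    have h1 := congrArg (fun e => app e (T l a v'))
      (hcommE _ (hM.kr_mem l (S.eA_mem u' x)) (eA_rd hx))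
    simp only [map_mul, LinearEquiv.mul_apply, app_kr, map_one, LinearEquiv.coe_one, id_eq,
      S.eA_apply hx, huv', one_smul, map_add, map_smul, hEu] at h1
    rw [← eo_apply (kr l 1 (S.eA u' x)), S.eo_kr_eA l hx] at h1
    simp only [LinearMap.add_apply, Module.End.one_apply, S.bk_apply, hEv] at h1
    refine ⟨ct l (S.f x) (app E (T l a v')) - S.f x v' • app H a, ?_⟩
    rw [LinearMap.flip_apply, map_sub, LinearMap.sub_apply, map_smul, LinearMap.smul_apply]
    linear_combination (norm := module) h1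
  have hHiso : S.Iso n H := fun a b => by
    have h1 := hM.iso E hEM (T l a u') (T l b v')
    rwa [hEu, S.pw_T_left, hEv, S.pw_T, huv', mul_one] at h1
  have hHi := iso_kr (i := l) (B := (1 : GL (Fin k) F)) hHiso fun x y => by simp
  set q := E * (kr l H 1)⁻¹ with hq
  have hq' : ∀ a y, app q (T l a y) = app E (T l (app H⁻¹ a) y) := fun a y => by
    rw [hq, map_mul, LinearEquiv.mul_apply, kr_inv, inv_one, app_kr, map_one]; rfl
  have hqrd : S.Rd l u' q := ⟨fun a => by rw [hq', hEu, app_app_inv], fun x hx a => by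
    have := hEx x hx (app H⁻¹ a); rwa [app_app_inv, ← hq'] at this⟩
  have hqi : S.Iso (n + 1) q := (hM.iso E hEM).mul hHi.inv
  have hEq : E = q * kr l H 1 := by rw [hq, inv_mul_cancel_right]
  have hqB : ∀ B ∈ S.spGen, q * kr l 1 B * q⁻¹ ∈ M := fun B hB => by
    rw [show q * kr l 1 B * q⁻¹ = E * kr l 1 B * E⁻¹ by
      rw [hEq, show q * kr l H 1 * kr l 1 B * (q * kr l H 1)⁻¹ =
        q * (kr l H 1 * kr l 1 B) * (kr l H 1)⁻¹ * q⁻¹ by group, kr_commute]
      group]
    exact mul_mem (mul_mem hEM (hM.kr_mem l hB)) (inv_mem hEM)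
  have hsc : ∀ y, S.f u' y = 0 → ∃ r : F, S.kap l v' q y = r • 1 := by
    intro y hy
    by_cases hys : y ∈ F ∙ u'
    · obtain ⟨r, rfl⟩ := Submodule.mem_span_singleton.1 hys
      exact ⟨0, by rw [kap_smul, hqrd.kap_u, smul_zero, zero_smul]⟩
    have hGM : kr l (1 : GL (J k n) F) (S.tr y 1) ∈ M := hM.kr_mem l (S.tr_mem y 1)
    obtain ⟨hrd, hk'⟩ := hqrd.comm_tr huv' hy
    have hmem : kr l 1 (S.tr y 1) * q * (kr l 1 (S.tr y 1))⁻¹ * q⁻¹ ∈ M := by
      rw [show kr l 1 (S.tr y 1) * q * (kr l 1 (S.tr y 1))⁻¹ * q⁻¹ =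
        kr l 1 (S.tr y 1) * (q * (kr l 1 (S.tr y 1))⁻¹ * q⁻¹) by group]
      refine mul_mem hGM ?_
      rw [kr_inv, inv_one]
      exact hqB _ (inv_mem (S.tr_mem y 1))
    obtain ⟨r, hr⟩ := hM.pure_scalar hR hmem hrd huv' hy hys hk'
    exact ⟨-r, (neg_eq_iff_eq_neg.1 hr).trans (LinearMap.ext fun a => funext fun c => by simp)⟩
  obtain ⟨z, hzu, h0⟩ := hqrd.exists_eA huv' hk0 hsc
  set A := kr l (1 : GL (J k n) F) (S.eA u' z)
  have hw := ((eA_rd (i := l) hzu).inv.mul hqrd).eq_bk
    ((hM.iso A (hM.kr_mem l (S.eA_mem u' z))).inv.mul hqi) huv' h0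
  obtain ⟨c, hc⟩ := hM.delta_scalar hR hu' hw fun B hB => by
    rw [show A⁻¹ * q * kr l 1 B * (A⁻¹ * q)⁻¹ = A⁻¹ * (q * kr l 1 B * q⁻¹) * A by group]
    exact mul_mem (mul_mem (inv_mem (hM.kr_mem l (S.eA_mem u' z))) (hqB B hB))
      (hM.kr_mem l (S.eA_mem u' z))
  rw [hc, S.bk_smul, ← S.eo_kr_tr] at hw
  have hB : S.eA u' z * S.tr u' c ∈ S.spGen := mul_mem (S.eA_mem _ _) (S.tr_mem _ _)
  have hEB : E = kr l H (S.eA u' z * S.tr u' c) := by
    rw [hEq, show q = A * (A⁻¹ * q) by group, eo_inj hw, kr_mul, one_mul, kr_mul, one_mul, mul_one]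
  have hcm : ∀ Y, kr l 1 Y ∈ M → S.Rd l u' (kr l 1 Y) →
      S.eA u' z * S.tr u' c * Y = Y * (S.eA u' z * S.tr u' c) := fun Y hY hY' => by
    refine kr_inj_right hk0 l (A := H) ?_
    have h1 := hcommE _ hY hY'
    rw [hEB, kr_mul, kr_mul, one_mul, mul_one] at h1
    exact h1.symm
  exact ⟨_, hB, hEB, z, c, hzu, rfl,
    fun x hx => hcm _ (hM.kr_mem l (S.eA_mem u' x)) (eA_rd hx),
    fun d => hcm _ (hM.kr_mem l (S.tr_mem u' d)) (hrt d)⟩

/-- The key step. -/
theorem Ovg.mem_Wr_of_line (hR : Reg F k) {M : Subgroup (GL (J k (n + 1)) F)} (hM : S.Ovg M)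
    (hIH : ∀ s, n = s + 1 → S.Maxl s) {g : GL (J k (n + 1)) F} (hg : g ∈ M) {i l : Fin (n + 1)}
    {u u' : Fin k → F} (hu : u ≠ 0) (hu' : u' ≠ 0) (h : ∀ a, app g (T i a u) ∈ Li l u') :
    g ∈ C7.Wr F k (n + 1) := by
  cases n with
  | zero => exact C7.mem_Wr_one g
  | succ s =>
    have hk0 : 0 < k := by have := hR.two_le; omega
    obtain ⟨γ, hγ⟩ := C7.exists_dual hu'
    let β₀ : (J k (s + 1) → F) →ₗ[F] (J k (s + 1) → F) :=
      ct l γ ∘ₗ (app g).toLinearMap ∘ₗ (T i).flip u
    have hβ₀ : ∀ a, app g (T i a u) = T l (β₀ a) u' := fun a => by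
      obtain ⟨b, hb⟩ := h a
      have h1 : β₀ a = ct l γ (T l b u') := congrArg (ct l γ) hb.symm
      rw [h1, ct_T, hγ, one_smul]
      exact hb.symm
    obtain ⟨β, hβ⟩ := exists_gl β₀ (fun a b e => C7.T_inj_left hu ((app g).injective (by
      rw [hβ₀, hβ₀, e])))
    have hline : ∀ a, app g (T i a u) = T l (app β a) u' := fun a => by rw [hβ₀, hβ]
    set M' := M.comap (krHom F k i)
    have hL : ∀ (j : Fin (s + 1)), ∀ B ∈ S.spGen, kr i (kr j 1 B) 1 ∈ M := fun j B hB =>
      (hM.left hk0 i).kr_mem j hB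
    choose Bf hBf eBf hBf' using fun D : M' => hM.conj_left hR hg hu hu' hline D.2
    let φ : M' →* GL (Fin k) F := MonoidHom.mk' Bf fun D D' => by
      refine kr_inj_right hk0 l (A := β * ((D * D' : M') : GL (J k (s + 1)) F) * β⁻¹) ?_
      rw [← eBf, Subgroup.coe_mul, show β * ((D : GL (J k (s + 1)) F) * (D' : GL (J k (s + 1)) F)) * β⁻¹ =
        (β * D * β⁻¹) * (β * D' * β⁻¹) by group, ← kr_mul, ← eBf, ← eBf]
      rw [show kr i ((D : GL (J k (s + 1)) F) * (D' : GL (J k (s + 1)) F)) (1 : GL (Fin k) F) =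
        kr i (D : GL (J k (s + 1)) F) 1 * kr i (D' : GL (J k (s + 1)) F) 1 by rw [kr_mul, one_mul]]
      group
    have hcomm : ∀ D D' : M', φ D * φ D' = φ D' * φ D := by
      intro D D'
      obtain ⟨z, c, hz, e, -, -⟩ := hBf' D'
      obtain ⟨-, -, -, -, h1, h2⟩ := hBf' D
      show Bf D * Bf D' = Bf D' * Bf D
      rw [e, ← mul_assoc, h1 z hz, mul_assoc, h2 c, mul_assoc]
    have hone : ∀ (j : Fin (s + 1)) (B : GL (Fin k) F) (hB : B ∈ S.spGen),
        g * kr i (kr j 1 B) 1 * g⁻¹ = kr l (β * kr j 1 B * β⁻¹) 1 := by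
      intro j B hB
      classical
      let σ₀ : S.spGen →* GL (Fin k) F := φ.comp
        { toFun := fun B => ⟨kr j 1 (B : GL (Fin k) F), hL j B B.2⟩
          map_one' := Subtype.ext (kr_one j)
          map_mul' := fun B B' => Subtype.ext (by
            show kr j 1 ((B : GL (Fin k) F) * (B' : GL (Fin k) F)) = kr j 1 (B : GL (Fin k) F) * kr j 1 (B' : GL (Fin k) F)
            rw [kr_mul, one_mul]) }
      have htriv : σ₀ ⟨B, hB⟩ = 1 := by
        have := hom_trivial_on (S := S) hR σ₀ (fun A B => hcomm _ _) ⟨B, hB⟩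
        exact this
      have h1 := eBf ⟨kr j 1 B, hL j B hB⟩
      rw [show Bf ⟨kr j 1 B, hL j B hB⟩ = 1 from htriv] at h1
      exact h1
    -- `β` maps lines to lines
    have hβW : β ∈ C7.Wr F k (s + 1) := by
      refine C7F.mem_Wr_of_lines hR.two_le β fun j y hy => ?_
      set D := kr j (1 : GL (J k s) F) (S.tr y 1)
      set H := β * D * β⁻¹
      have hHM : H ∈ M.comap (krHom F k l) := by
        show kr l H 1 ∈ M
        rw [← hone j _ (S.tr_mem y 1)]
        exact mul_mem (mul_mem hg (hL j _ (S.tr_mem y 1))) (inv_mem hg)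
      have hHo := hM.left hk0 l
      have eD : eo D = 1 + S.bk j y y 1 := by rw [S.eo_kr_tr, one_smul]
      have hX : eo H - 1 = cj β (S.bk j y y 1) := by
        rw [show H = β * D * β⁻¹ from rfl, eo_conj eD, add_sub_cancel_left]
      obtain ⟨j', w, c, e⟩ := isTr_of_wr (S := S) hR (hIH s rfl _ hHo hHM) (hHo.iso H hHM)
        (by rw [hX, ← cj_mul, S.bk_mul, S.alt, zero_smul]; simp [cj])
        (by
          rw [hX, range_cj, LinearEquiv.finrank_map_eq, ← C7.finrank_Li (F := F) j hy]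
          refine Submodule.finrank_mono ?_
          rintro _ ⟨x, rfl⟩
          rw [S.bk_apply]
          exact T_mem_Li _ _ _)
      obtain ⟨v, hyv⟩ := S.exists_dual hy
      refine ⟨j', w, fun a => ?_⟩
      have h1 : app β (T j a y) = cj β (S.bk j y y 1) (app β (T j a v)) := by
        rw [cj_apply, app_inv_app, S.bk_T, hyv, one_smul]; rfl
      rw [h1, ← hX, e, S.eo_kr_tr, add_sub_cancel_left, LinearMap.smul_apply, S.bk_apply]
      exact Submodule.smul_mem _ _ (T_mem_Li _ _ _)
    -- the rest commutes with the left factor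
    set g' := (kr l β (1 : GL (Fin k) F))⁻¹ * g with hg'
    have hcom : ∀ (j : Fin (s + 1)), ∀ B ∈ S.spGen,
        g' * kr i (kr j 1 B) 1 = kr l (kr j 1 B) 1 * g' := fun j B hB => by
      have h1 := hone j B hB
      rw [mul_inv_eq_iff_eq_mul] at h1
      rw [hg', mul_assoc, h1, ← mul_assoc, ← mul_assoc, kr_inv, inv_one, kr_mul, one_mul, kr_mul,
        one_mul, show β⁻¹ * (β * kr j 1 B * β⁻¹) = kr j 1 B * β⁻¹ by group]
    clear_value g'
    have hscal : ∀ (q : Fin k → F) (δ : (Fin k → F) →ₗ[F] F),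
        ∃ r : F, ∀ a, ct l δ (app g' (T i a q)) = r • a := by
      intro q δ
      set U : Module.End F (J k (s + 1) → F) := ct l δ ∘ₗ (app g').toLinearMap ∘ₗ (T i).flip q
      obtain ⟨r, hr⟩ := eq_smul_one_of_comm (S := S) hR (K := U) fun j B hB => by
        have hU : eo (kr j 1 B) * U = U * eo (kr j 1 B) := LinearMap.ext fun a => by
          show app (kr j 1 B) (ct l δ (app g' (T i a q))) =
            ct l δ (app g' (T i (app (kr j 1 B) a) q))
          rw [show T i (app (kr j 1 B) a) q = app (kr i (kr j 1 B) 1) (T i a q) by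
            rw [app_kr, map_one]; rfl, ← LinearEquiv.mul_apply, ← map_mul, hcom j B hB, map_mul,
            LinearEquiv.mul_apply]
          have hct : ct l δ ∘ₗ (app (kr l (kr j 1 B) (1 : GL (Fin k) F))).toLinearMap =
              (app (kr j 1 B)).toLinearMap ∘ₗ ct l δ :=
            lin_ext l fun b y => by
              simp only [LinearMap.comp_apply, LinearEquiv.coe_coe, app_kr, ct_T, map_one, LinearEquiv.coe_one,
                id_eq, map_smul]
          exact (LinearMap.congr_fun hct _).symm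
        rw [cj, hU, mul_assoc, eo_mul_inv, mul_one]
      exact ⟨r, fun a => by
        have := LinearMap.congr_fun hr a
        exact this⟩
    have : Nonempty (J k (s + 1)) := ⟨fun _ => ⟨0, hk0⟩⟩
    obtain ⟨a₁, ha₁⟩ := exists_ne (0 : J k (s + 1) → F)
    obtain ⟨ψ, hψ⟩ := C7.exists_dual ha₁
    let B₀ : (Fin k → F) →ₗ[F] (Fin k → F) := lc l ψ ∘ₗ (app g').toLinearMap ∘ₗ T i a₁
    have hB₀ : ∀ a q, app g' (T i a q) = T l a (B₀ q) := fun a q => sub_eq_zero.1 (by
      refine C7S.eq_zero_of_ct (i := l) fun δ => ?_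
      obtain ⟨r, hr⟩ := hscal q δ
      rw [map_sub, hr, ct_T, show δ (B₀ q) = r by
        show δ (lc l ψ (app g' (T i a₁ q))) = r
        rw [lc_ct, hr, map_smul, hψ, smul_eq_mul, mul_one], sub_self])
    obtain ⟨XB, hXB⟩ := exists_gl B₀ (fun q q' e => C7.T_inj_right ha₁ ((app g').injective (by
      rw [hB₀, hB₀, e])))
    obtain ⟨p, hp, hpT⟩ := C7.exists_perm (F := F) (m := k) i l
    have hg2 : g = kr l β 1 * (p * kr i 1 XB) := by
      rw [show p * kr i 1 XB = g' from gl_ext_T i fun a q => by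
        rw [map_mul, LinearEquiv.mul_apply, app_kr, hpT, hB₀, hXB, map_one]; rfl, hg',
        mul_inv_cancel_left]
    rw [hg2]
    exact mul_mem (C7.kr_mem l hβW 1) (mul_mem hp (C7.kr_one_mem i XB))

end Sf

end Cfsg.Agent.C7S
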