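import Cfsg.Agent.Lib.C7S.MainEven2
import Cfsg.Agent.Lib.C7S.Gen
import Cfsg.Agent.Lib.C7F.Transport
import Cfsg.Agent.Lib.Orth.Parabolic
import Mathlib.GroupTheory.Abelianization.Defs

/-!
# The tensor-wreath stabiliser is maximal in the orthogonal commutator subgroup

* `Sf.slot_mem_omega`, `permGL_mem_omega` : the stabiliser meets `Ω` in slots and even permutations
* `Sf.isMaximalIn_omega` : maximality
-/

set_option autoImplicit false
set_option linter.unusedSectionVars false

namespace Cfsg.Agent.C7S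

open Matrix Module
open Cfsg.Agent.Transvect hiding pr
open Cfsg.Agent.C7 (J T ct kr app_kr)
open Cfsg.Agent.C7F (pr T_pr T_pr' span_pr)
open Cfsg.Agent.Orth (IsoGrp eich ap)
open QuadraticMap (polar)
open scoped MatrixGroups commutatorElement

variable {F : Type*} [Field F] [Fintype F] {k n : ℕ}

/-! ### permutations of the positions -/

lemma gl_ext_pr {g h : GL (J k n) F} (e : ∀ p, app g (pr p) = app h (pr p)) : g = h :=
  gl_ext fun x => LinearMap.congr_fun (LinearMap.ext_on_range (span_pr (F := F) (k := k) n)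
    (f := (app g).toLinearMap) (g := (app h).toLinearMap) e) x

lemma exists_permGL (σ : Equiv.Perm (Fin n)) : ∃ g : GL (J k n) F,
    (∀ x y : J k n, (g : Matrix (J k n) (J k n) F) x y = if y = x ∘ σ then 1 else 0) ∧
      ∀ p, app g (pr p) = pr (p ∘ ⇑σ⁻¹) := by
  obtain ⟨g, hg⟩ := C7.exists_gl (F := F) (LinearMap.funLeft F F fun x : J k n => x ∘ ⇑σ)
    (LinearMap.funLeft_injective_of_surjective F F _ fun x => ⟨x ∘ ⇑σ⁻¹, funext fun i => by simp⟩)
  refine ⟨g, fun x y => ?_, fun p => ?_⟩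
  · have := congrFun (hg (Pi.single y 1)) x
    simp [app_apply, Pi.single_apply] at this
    rw [this]; exact if_congr eq_comm rfl rfl
  · rw [hg]
    funext x
    simp only [LinearMap.funLeft_apply, pr, Function.comp_apply]
    exact Fintype.prod_equiv σ _ _ fun i => by simp

/-- The operator of a permutation of the positions. -/
noncomputable def permGL : Equiv.Perm (Fin n) →* GL (J k n) F :=
  MonoidHom.mk' (fun σ => (exists_permGL σ).choose) fun σ τ => gl_ext_pr fun p => by
    rw [map_mul, LinearEquiv.mul_apply, (exists_permGL τ).choose_spec.2,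
      (exists_permGL σ).choose_spec.2, (exists_permGL (σ * τ)).choose_spec.2, _root_.mul_inv_rev]
    rfl

lemma app_permGL (σ : Equiv.Perm (Fin n)) (p : Fin n → Fin k → F) :
    app (permGL σ : GL (J k n) F) (pr p) = pr (p ∘ ⇑σ⁻¹) := (exists_permGL σ).choose_spec.2 p

lemma permGL_entries (σ : Equiv.Perm (Fin n)) (x y : J k n) :
    ((permGL σ : GL (J k n) F) : Matrix (J k n) (J k n) F) x y = if y = x ∘ σ then 1 else 0 :=
  (exists_permGL σ).choose_spec.1 x y

lemma permGL_mem_Wr (σ : Equiv.Perm (Fin n)) : (permGL σ : GL (J k n) F) ∈ C7.Wr F k n :=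
  Subgroup.subset_closure (Or.inr ⟨σ, permGL_entries σ⟩)

namespace Sf

variable {S : Sf F k} {Q : QuadraticForm F (J k (n + 1) → F)}

/-- Maps preserving the power form and the pure tensors preserve `Q`. -/
lemma Qd.mem_isometryGroup (hS : S.Qd Q) {g : GL (J k (n + 1)) F} (hi : S.Iso (n + 1) g)
    (hp : ∀ p, ∃ p', app g (pr p) = pr p') : g ∈ Cfsg.isometryGroup F ⇑Q := by
  intro x _
  show Q (app g x) = Q x
  induction (span_pr (F := F) (k := k) (n + 1)).ge (Submodule.mem_top (x := x))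
    using Submodule.span_induction with
  | mem y hy =>
    obtain ⟨p, rfl⟩ := hy
    obtain ⟨p', e⟩ := hp p
    rw [e, hS.pure, hS.pure]
  | zero => rw [map_zero]
  | add y z _ _ h1 h2 =>
    rw [map_add, Orth.Q_add, Orth.Q_add, h1, h2, hS.pol, hS.pol, hi]
  | smul a y _ h1 => rw [map_smul, Orth.Q_smul, Orth.Q_smul, h1]

/-- Isometries preserve the power form. -/
lemma Qd.iso (hS : S.Qd Q) {g : GL (J k (n + 1)) F} (hg : g ∈ Cfsg.isometryGroup F ⇑Q) :
    S.Iso (n + 1) g := fun x y => by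
  let g' : IsoGrp Q := ⟨g, hg⟩
  rw [← hS.pol, ← hS.pol]
  exact Orth.polar_ap g' x y

lemma Qd.good_of_card (hS : S.Qd Q) (hcard : 5 ≤ Fintype.card (J k (n + 1))) : Orth.Good Q := by
  refine ⟨⟨fun x hx => S.pw_nd fun y => ?_, fun y hy => S.pw_nd fun x => ?_⟩, .inr (by omega)⟩
  · have h : S.pw _ x y = 0 := by rw [← hS.pol]; exact hx y
    first
      | exact h
      | rw [S.pw_comm x y, h, mul_zero]
  · have h : S.pw _ y x = 0 := by rw [← hS.pol, QuadraticMap.polar_comm]; exact hy x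
    first
      | exact h
      | rw [S.pw_comm y x, h, mul_zero]

lemma kr_mem_isometryGroup (hS : S.Qd Q) (i : Fin (n + 1)) {B : GL (Fin k) F}
    (hB : ∀ x y, S.f (app B x) (app B y) = S.f x y) :
    kr i (1 : GL (J k n) F) B ∈ Cfsg.isometryGroup F ⇑Q :=
  hS.mem_isometryGroup (iso_kr (fun x y => by simp) hB) fun p => ⟨_, app_kr_pr i B p⟩

/-- The slot transvections are in `Ω`. -/
theorem slot_mem_omega (hR : Reg F k) (hS : S.Qd Q) (i : Fin (n + 1)) {B : GL (Fin k) F}
    (hB : B ∈ S.spGen) : kr i (1 : GL (J k n) F) B ∈ Cfsg.Geo.omegaGL ⇑Q := by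
  let φ : S.spGen →* IsoGrp Q :=
    MonoidHom.mk' (fun B => ⟨kr i 1 B.1, kr_mem_isometryGroup hS i (S.spGen_iso B.2)⟩)
      fun A B => Subtype.ext (by
        show kr i 1 (A.1 * B.1) = kr i 1 A.1 * kr i 1 B.1
        rw [C7.kr_mul, one_mul])
  have h := hom_trivial_on (S := S) hR ((Abelianization.of).comp φ) (fun A B => mul_comm _ _) ⟨B, hB⟩
  exact Subgroup.mem_map.2 ⟨φ ⟨B, hB⟩, (QuotientGroup.eq_one_iff _).1 h, rfl⟩

lemma permGL_mem_isometryGroup (hS : S.Qd Q) (σ : Equiv.Perm (Fin (n + 1))) :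
    (permGL σ : GL (J k (n + 1)) F) ∈ Cfsg.isometryGroup F ⇑Q := by
  refine hS.mem_isometryGroup ?_ fun p => ⟨_, app_permGL σ p⟩
  intro x y
  have h : (S.pw (n + 1)).compl₁₂ (app (permGL σ : GL (J k (n + 1)) F)).toLinearMap
      (app (permGL σ : GL (J k (n + 1)) F)).toLinearMap = S.pw (n + 1) :=
    C7F.Fm.ext_pr₂ fun p q => by
      simp only [LinearMap.compl₁₂_apply, LinearEquiv.coe_coe, app_permGL, S.pw_pr,
        Function.comp_apply]
      exact Equiv.prod_comp σ⁻¹ fun l => S.f (p l) (q l)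
  exact LinearMap.congr_fun (LinearMap.congr_fun h x) y

/-- Even permutations of the positions are in `Ω`. -/
theorem permGL_mem_omega (hS : S.Qd Q) (hcard : 5 ≤ Fintype.card (J k (n + 1)))
    {σ : Equiv.Perm (Fin (n + 1))} (hσ : Equiv.Perm.sign σ = 1) :
    (permGL σ : GL (J k (n + 1)) F) ∈ Cfsg.Geo.omegaGL ⇑Q := by
  have hG := hS.good_of_card hcard
  have hm : σ ∈ Subgroup.closure {σ : Equiv.Perm (Fin (n + 1)) | Equiv.Perm.IsThreeCycle σ} := by
    rw [Equiv.Perm.closure_three_cycles_eq_alternating]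
    exact Equiv.Perm.mem_alternatingGroup.2 hσ
  refine (Subgroup.closure_le ((Cfsg.Geo.omegaGL ⇑Q).comap
    (permGL : Equiv.Perm (Fin (n + 1)) →* GL (J k (n + 1)) F))).2 ?_ hm
  intro c hc
  let g : IsoGrp Q := ⟨permGL (c * c), permGL_mem_isometryGroup hS _⟩
  have h4 : c = c * c * (c * c) := by
    have h3 : c * c * c = 1 := by
      have := pow_orderOf_eq_one c
      rwa [hc.orderOf, pow_succ, pow_succ, pow_one] at this
    rw [← mul_assoc, h3, one_mul]
  refine Subgroup.mem_map.2 ⟨g * g, ?_, by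
    show permGL (c * c) * permGL (c * c) = permGL c
    rw [← map_mul, ← h4]⟩
  rw [Orth.mem_omega_iff hG, Orth.dick_mul hG, Orth.spin_mul hG]
  refine ⟨?_, ?_⟩
  · rcases Orth.dick_eq_or g with h | h <;> rw [h] <;> norm_num
  · rcases Orth.spin_eq_or hG g with h | h <;> rw [h] <;> norm_num

/-- Isometries of the form are products of transvections. -/
lemma mem_spGen_of_iso (hk : 0 < k) {B : GL (Fin k) F}
    (hB : ∀ x y, S.f (app B x) (app B y) = S.f x y) : B ∈ S.spGen := by
  have hf : Cfsg.Geo.IsSymplecticForm (fun x y => S.f x y) :=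
    { bilinear := ⟨fun x y v => by simp, fun c x v => by simp, fun v x y => by simp,
        fun c v x => by simp⟩
      skew := fun v w => S.skew v w
      alternating := S.alt
      nondegenerate := fun v hv => by
        obtain ⟨y, hy⟩ := S.exists_dual hv
        exact ⟨⟨y, show S.f y v ≠ 0 by rw [S.skew, hy]; exact neg_ne_zero.2 one_ne_zero⟩, y,
          show S.f v y ≠ 0 by rw [hy]; exact one_ne_zero⟩ }
  refine Transvect.isometry_mem_of_centres hf S.spGen (fun v c => ?_) hB
  have e : Transvect.st hf v c = S.tr v (-c) := gl_ext fun x => by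
    rw [Transvect.st_apply, S.tr_apply]
    congr 2
    show c * S.f x v = -c * S.f v x
    rw [S.skew x v]; ring
  rw [e]; exact S.tr_mem v _

variable {n : ℕ} {Q : QuadraticForm F (J k (n + 2) → F)}

/-- An element of `Ω` outside the wreath group. -/
theorem exists_not_mem (hR : Reg F k) (hS : S.Qd Q) (hcard : 5 ≤ Fintype.card (J k (n + 2))) :
    ∃ g ∈ Cfsg.Geo.omegaGL ⇑Q, g ∉ C7.Wr F k (n + 2) := by
  have hk0 : 0 < k := by have := hR.two_le; omega
  have : Nonempty (Fin k) := ⟨⟨0, hk0⟩⟩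
  obtain ⟨b, hb⟩ := exists_ne (0 : Fin k → F)
  obtain ⟨u, hu⟩ : ∃ u, u ∉ F ∙ b := by
    by_contra! h
    have := Submodule.finrank_mono (show (⊤ : Submodule F (Fin k → F)) ≤ F ∙ b from fun x _ => h x)
    rw [finrank_top, Module.finrank_fin_fun, finrank_span_singleton hb] at this
    have := hR.two_le
    omega
  set p : Fin (n + 2) → Fin k → F := fun _ => b
  set a := pr p with ha
  set w := pr (Function.update p 0 u) with hw
  have haw : S.pw (n + 2) a w = 0 :=
    S.pw_pr_zero 1 (by rw [Function.update_of_ne (by simp)]; exact S.alt b)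
  refine ⟨_, Orth.eich_mem_omegaGL (hS.good_of_card hcard) hcard a w, fun hW => ?_⟩
  set g := eich Q a w
  set X := eo (g : GL (J k (n + 2)) F) - 1
  have eX : ∀ x, X x = S.pw _ a x • w - S.pw _ w x • a := fun x => by
    show ap g x - x = _
    rw [Orth.eich_ap (hS.pure _) (by rw [hS.pol, haw]), hS.pol, hS.pol, hw, hS.pure, zero_mul, add_zero]
    abel
  have hz : ∀ q : Fin (n + 2) → Fin k → F, S.pw (n + 2) (pr q) (pr q) = 0 := fun q =>
    S.pw_pr_zero 0 (S.alt _)
  have hwa : S.pw (n + 2) w a = 0 := by rw [S.pw_comm a w, haw, mul_zero]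
  have hXX : X * X = 0 := LinearMap.ext fun x => by
    rw [Module.End.mul_apply, eX x, map_sub, map_smul, map_smul, eX, eX]
    simp [ha, hw, hz, show S.pw (n + 2) (pr p) (pr (Function.update p 0 u)) = 0 from haw,
      show S.pw (n + 2) (pr (Function.update p 0 u)) (pr p) = 0 from hwa]
  have h2 : finrank F (LinearMap.range X) ≤ 2 := by
    refine (Submodule.finrank_mono (show LinearMap.range X ≤ Submodule.span F (Set.range ![a, w]) from
      ?_)).trans ((finrank_range_le_card _).trans (by simp))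
    rintro _ ⟨x, rfl⟩
    rw [eX]
    exact Submodule.sub_mem _ (Submodule.smul_mem _ _ (Submodule.subset_span ⟨1, rfl⟩))
      (Submodule.smul_mem _ _ (Submodule.subset_span ⟨0, rfl⟩))
  have hN : 3 ≤ k ^ (n + 1) := by
    by_contra hlt
    have h1 : k * k ^ (n + 1) < 5 := by
      have hk' : k ≤ k ^ (n + 1) := Nat.le_self_pow (by omega) k
      have : k * k ^ (n + 1) ≤ 2 * 2 := Nat.mul_le_mul (by omega) (by omega)
      omega
    rw [Fintype.card_fun, Fintype.card_fin, Fintype.card_fin, pow_succ'] at hcard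
    omega
  obtain ⟨i, v, c, e⟩ := isTr_of_wr (S := S) hR hW (hS.iso g.2) hXX (by
    show finrank F (LinearMap.range X) ≤ _
    omega)
  have hX : X = c • S.bk i v v 1 := by
    show eo (g : GL (J k (n + 2)) F) - 1 = _
    rw [e, S.eo_kr_tr, add_sub_cancel_left]
  by_cases h0 : c = 0 ∨ v = 0
  · have hXa : ∀ x, S.pw _ a x • w = S.pw _ w x • a := fun x => by
      rw [← sub_eq_zero, ← eX, hX, LinearMap.smul_apply, S.bk_apply]
      rcases h0 with h | h <;> simp [h]
    obtain ⟨d, hd⟩ := S.exists_dual hb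
    have h1 := hXa (pr fun _ => d)
    rw [ha, S.pw_pr, Finset.prod_eq_one (fun i _ => hd), one_smul, hw] at h1
    set r := S.pw _ (pr (Function.update p 0 u)) (pr fun _ => d)
    rw [← T_pr 0 (Function.update p 0 u), Function.update_self, ← T_pr 0 p,
      show (fun j => Function.update p 0 u ((0 : Fin (n + 2)).succAbove j)) =
        fun j => p ((0 : Fin (n + 2)).succAbove j) from funext fun j => by
          rw [Function.update_of_ne ((0 : Fin (n + 2)).succAbove_ne j)], ← map_smul] at h1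
    refine hu (Submodule.mem_span_singleton.2 ⟨r, (C7.T_inj_right ?_ h1).symm⟩)
    intro h
    have := congrArg (fun z => S.pw (n + 1) z (pr fun _ => d)) h
    simp [S.pw_pr, p, hd] at this
  · rw [not_or] at h0
    rw [hX, range_bk_one i h0.2 h0.1, C7.finrank_Li i h0.2] at h2
    omega

/-- The tensor-wreath stabiliser is maximal in `Ω`. -/
theorem isMaximalIn_omega (hR : Reg F k) (hS : S.Qd Q) (hcard : 5 ≤ Fintype.card (J k (n + 2))) :
    Cfsg.Geo.IsMaximalIn (Cfsg.Geo.omegaGL ⇑Q) (C7.Wr F k (n + 2) ⊓ Cfsg.Geo.omegaGL ⇑Q) := by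
  classical
  have hk0 : 0 < k := by have := hR.two_le; omega
  refine ⟨lt_of_le_of_ne inf_le_right fun h => ?_, fun M hHM hMΩ => ?_⟩
  · obtain ⟨g, hg, hgW⟩ := exists_not_mem hR hS hcard
    exact hgW (h.ge hg).1
  have hiso : M ≤ Cfsg.isometryGroup F ⇑Q := fun g hg => by
    obtain ⟨h, -, e⟩ := Subgroup.mem_map.1 (hMΩ hg)
    rw [← e]; exact h.2
  have hperm : ∀ σ : Equiv.Perm (Fin (n + 2)), Equiv.Perm.sign σ = 1 →
      (permGL σ : GL (J k (n + 2)) F) ∈ M := fun σ hσ =>
    hHM ⟨permGL_mem_Wr σ, permGL_mem_omega hS hcard hσ⟩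
  have hslot : ∀ i, ∀ B ∈ S.spGen, kr i (1 : GL (J k (n + 1)) F) B ∈ M := fun i B hB =>
    hHM ⟨C7.kr_one_mem i B, slot_mem_omega hR hS i hB⟩
  suffices h : M ≤ C7.Wr F k (n + 2) ∨ Cfsg.Geo.omegaGL ⇑Q ≤ M by
    rcases h with h | h
    · exact .inl (le_antisymm (le_inf h hMΩ) hHM)
    · exact .inr (le_antisymm hMΩ h)
  by_cases h2 : (2 : F) = 0
  · have hk6 : 6 ≤ k := by rcases hR with ⟨h, -⟩ | ⟨-, h⟩ <;> [exact absurd h2 h; exact h]
    have hroots : S.HasRoots M := fun i u c => hslot i _ (S.tr_mem u c)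
    have hMiso : ∀ g ∈ M, S.Iso (n + 2) g := fun g hg => hS.iso (hiso hg)
    by_cases hsc : S.Scal M
    · exact .inl (maxl_even hR h2 (n + 1) M ⟨hroots, hMiso, hsc⟩)
    have hPerm : PermM M := fun σ hσ => by
      refine ⟨permGL σ⁻¹, hperm _ (by rw [Equiv.Perm.sign_inv, hσ]), fun A => ?_⟩
      refine LinearMap.ext_on_range (span_pr (F := F) (k := k) (n + 2)) fun p => ?_
      rw [cj_apply, ← map_inv permGL, inv_inv, app_permGL, pur_pr, app_permGL, pur_pr, inv_inv]
      congr 1
      funext i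
      simp
    have hquad : (2 : F) = 0 → ∀ A : Fin (n + 2) → Matrix (Fin k) (Fin k) F,
        PatM M A → ¬ ∀ i, S.IsSm (A i) := by
      rintro - A ⟨d, hd, g, hg, eg⟩ hall
      choose b hb eA using hall
      choose x hx using fun i => S.exists_dual (hb i)
      have e : app g (pr x) = pr x + d • pr b := by
        rw [← eo_apply, eg, LinearMap.add_apply, Module.End.one_apply, LinearMap.smul_apply, pur_pr,
          show (fun i => A i *ᵥ x i) = b from funext fun i => by
            rw [eA, S.mx_mulVec, hx, one_smul]]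
      have h1 := hiso hg (pr x) (pr x)
      change Q (app g (pr x)) = Q (pr x) at h1
      rw [e, Orth.Q_add, Orth.Q_smul, hS.pure, hS.pure, hS.pol, map_smul, S.pw_comm (pr b), S.pw_pr,
        Finset.prod_eq_one (fun i _ => hx i)] at h1
      simp [hd] at h1
    obtain ⟨i, u, K, hu, hK, hns⟩ : ∃ (i : Fin (n + 2)) (u : Fin k → F)
        (K : Module.End F (J k (n + 1) → F)), u ≠ 0 ∧ InM M (S.bk i u u K) ∧ ∀ r : F, K ≠ r • 1 := by
      simp only [Scal, not_forall, not_exists] at hsc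
      obtain ⟨i, u, K, hu, hK, hns⟩ := hsc
      exact ⟨i, u, K, hu, hK, hns⟩
    obtain ⟨A, hA, hcase⟩ := exists_target hR ⟨hroots, hPerm, hMiso, hquad⟩
      ⟨i, u, K, hu, hns, hK⟩
    rcases hcase with ⟨h, -⟩ | ⟨j, hsm, hlam | ⟨-, hk⟩, -⟩
    · exact absurd h2 h
    · have hO : S.QOvg Q M := ⟨hS, hiso, hroots⟩
      obtain ⟨p, c, hp, hc, hc', h⟩ := el_of_pattern h2 hO hA hsm hlam
      exact .inr (omega_le_of_el hk6 (by omega) hO hp hc hc' h)
    · omega
  · let G : C7F.Fm F k := ⟨S.f, S.alt, S.nd, h2⟩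
    have hB : ∀ x y : J k (n + 2) → F, G.B (n + 2) x y = S.pw (n + 2) x y := fun x y =>
      LinearMap.congr_fun (LinearMap.congr_fun (C7F.Fm.ext_pr₂ (L := G.B (n + 2)) (L' := S.pw (n + 2))
        fun p q => by rw [C7F.Fm.B_pr, S.pw_pr]) x) y
    have hG : G.Ovg M :=
      { le := fun g hg x y => by rw [hB, hB]; exact hS.iso (hiso hg) x y
        slot := fun i C hC => hslot i C (mem_spGen_of_iso hk0 hC)
        perm := fun σ g hσ hg => by
          rw [show g = permGL σ from Units.ext (Matrix.ext fun x y =>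
            (hg x y).trans (permGL_entries σ x y).symm)]
          exact hperm σ hσ }
    obtain ⟨hk, hq⟩ : (k = 2 ∨ 4 ≤ k) ∧ (k = 2 → Fintype.card F ≠ 3) := by
      rcases hR with ⟨-, h | ⟨h, h'⟩⟩ | ⟨h, -⟩
      · exact ⟨.inr h, fun e => by omega⟩
      · exact ⟨.inl h, fun _ => by omega⟩
      · exact absurd h h2
    rcases G.maxl hk hq (n + 1) M hG with h | h
    · exact .inl h
    refine .inr ?_
    rw [Cfsg.Geo.omegaGL, Omega, commutator_eq_closure, MonoidHom.map_closure, Subgroup.closure_le]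
    rintro _ ⟨_, ⟨a, b, rfl⟩, rfl⟩
    have key : ∀ z : IsoGrp Q, (z : GL (J k (n + 2)) F) * z ∈ M := fun z =>
      h.1 _ fun x y => by rw [hB, hB]; exact hS.iso z.2 x y
    have e : ((Cfsg.isometryGroup F ⇑Q).subtype ⁅a, b⁆) = ((a : GL (J k (n + 2)) F) * a) *
        (((a⁻¹ * b : IsoGrp Q) : GL (J k (n + 2)) F) * ((a⁻¹ * b : IsoGrp Q) : GL (J k (n + 2)) F)) *
        (((b⁻¹ : IsoGrp Q) : GL (J k (n + 2)) F) * ((b⁻¹ : IsoGrp Q) : GL (J k (n + 2)) F)) := by
      simp [commutatorElement_def]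
      group
    rw [e]
    exact mul_mem (mul_mem (key a) (key _)) (key _)

end Sf

end Cfsg.Agent.C7S
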