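import Cfsg.Agent.Lib.C7S.Key
import Cfsg.Agent.Lib.Involution.Basic
import Mathlib.GroupTheory.Nilpotent

/-!
# Overgroups with scalar position elements, characteristic two

Let `y` be a conjugate of a root `r` outside the wreath group, `u` a line meeting the range of `y`
in the largest dimension, `E = ⟨u, e⟩` totally isotropic and `i = r_u r_e`. Then `i` and `y` are not
conjugate, so an involution `c` centralises both, and `c` is a position element which pins down a
line fixed by `y`.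
-/

set_option autoImplicit false
set_option linter.unusedSectionVars false

namespace Cfsg.Agent.C7S

open Matrix Module Cfsg.Agent.Transvect
open Cfsg.Agent.C7 (J T ct ins Li T_apply ct_T T_mem_Li lin_ext kr app_kr gl_ext_T kr_mul kr_inv
  finrank_Li finrank_le_map_add)
open scoped MatrixGroups

variable {F : Type*} [Field F] [Fintype F] {k n : ℕ}

namespace Sf

variable {S : Sf F k} {M : Subgroup (GL (J k (n + 1)) F)}

lemma range_bk_one (l : Fin (n + 1)) {u : Fin k → F} (hu : u ≠ 0) {c : F} (hc : c ≠ 0) :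
    LinearMap.range (c • S.bk l u u 1 : Module.End F (J k (n + 1) → F)) = Li l u := by
  obtain ⟨v, hv⟩ := S.exists_dual hu
  refine le_antisymm ?_ ?_
  · rintro _ ⟨x, rfl⟩
    rw [LinearMap.smul_apply, S.bk_apply]
    exact Submodule.smul_mem _ _ (T_mem_Li _ _ _)
  · rintro _ ⟨a, rfl⟩
    refine ⟨T l (c⁻¹ • a) v, ?_⟩
    rw [LinearMap.smul_apply, S.bk_T, hv, one_smul, Module.End.one_apply, map_smul,
      LinearMap.smul_apply, smul_smul, mul_inv_cancel₀ hc, one_smul]
    rfl

/-- An element of `M` conjugating a root into the wreath group is in it. -/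
theorem Ovg.mem_Wr_of_root (hR : Reg F k) (hM : S.Ovg M) (hIH : ∀ s, n = s + 1 → S.Maxl s)
    {x : GL (J k (n + 1)) F} (hx : x ∈ M) {i : Fin (n + 1)} {u : Fin k → F} (hu : u ≠ 0)
    (h : x * kr i 1 (S.tr u 1) * x⁻¹ ∈ C7.Wr F k (n + 1)) : x ∈ C7.Wr F k (n + 1) := by
  have hr := hM.kr_mem i (S.tr_mem u 1)
  have er : eo (kr i (1 : GL (J k n) F) (S.tr u 1)) = 1 + S.bk i u u 1 := by
    rw [S.eo_kr_tr, one_smul]
  have hX : eo (x * kr i 1 (S.tr u 1) * x⁻¹) - 1 = cj x (S.bk i u u 1) := by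
    rw [eo_conj er, add_sub_cancel_left]
  have hrange : LinearMap.range (cj x (S.bk i u u 1)) = (Li i u).map (app x).toLinearMap := by
    rw [range_cj, ← range_bk_one (S := S) i hu one_ne_zero, one_smul]
  obtain ⟨l, w, c, e⟩ := isTr_of_wr (S := S) hR h
    (hM.iso _ (mul_mem (mul_mem hx hr) (inv_mem hx)))
    (by rw [hX, ← cj_mul, S.bk_mul, S.alt, zero_smul]; simp [cj])
    (by rw [hX, hrange, LinearEquiv.finrank_map_eq, finrank_Li i hu])
  have hle : ∀ a, app x (T i a u) ∈ Li l w := fun a => by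
    have h1 : app x (T i a u) ∈ LinearMap.range (cj x (S.bk i u u 1)) := by
      rw [hrange]; exact ⟨_, T_mem_Li _ _ _, rfl⟩
    obtain ⟨z, hz⟩ := h1
    rw [← hz, ← hX, e, S.eo_kr_tr, add_sub_cancel_left, LinearMap.smul_apply, S.bk_apply]
    exact Submodule.smul_mem _ _ (T_mem_Li _ _ _)
  have hw : w ≠ 0 := fun hw => by
    obtain ⟨a, ha⟩ : ∃ a : J k n → F, a ≠ 0 := by
      have : Nonempty (J k n) := ⟨fun _ => ⟨0, by have := hR.two_le; omega⟩⟩
      exact exists_ne 0
    obtain ⟨b, hb⟩ := hle a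
    simp only [LinearMap.flip_apply, hw, map_zero] at hb
    exact (C7.T_eq_zero ((app x).map_eq_zero_iff.1 hb.symm)).elim ha hu
  exact hM.mem_Wr_of_line hR hIH hx hu hw hle

/-- A `p`-subgroup of `M` through a root is in the wreath group. -/
theorem Ovg.pgroup_le_Wr (hR : Reg F k) (hM : S.Ovg M) (hIH : ∀ s, n = s + 1 → S.Maxl s) {p : ℕ}
    [Fact p.Prime] {P : Subgroup (GL (J k (n + 1)) F)} (hP : IsPGroup p P) (hPM : P ≤ M)
    {i : Fin (n + 1)} {u : Fin k → F} (hu : u ≠ 0) (hrP : kr i 1 (S.tr u 1) ∈ P) :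
    P ≤ C7.Wr F k (n + 1) := by
  have : Finite (GL (J k (n + 1)) F) := Finite.of_injective Units.val Units.val_injective
  have := IsPGroup.isNilpotent hP
  set D := (C7.Wr F k (n + 1)).subgroupOf P
  by_contra hne
  have hD : D < ⊤ := lt_top_iff_ne_top.2 fun e => hne fun x hx => by
    have : (⟨x, hx⟩ : P) ∈ D := e ▸ Subgroup.mem_top _
    exact this
  obtain ⟨x, hxN, hxD⟩ := SetLike.exists_of_lt (normalizerCondition_of_isNilpotent D hD)
  exact hxD (hM.mem_Wr_of_root hR hIH (hPM x.2) hu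
    ((Subgroup.mem_normalizer_iff.1 hxN ⟨_, hrP⟩).1 (C7.kr_one_mem i (S.tr u 1))))

/-- Elements of `M` trivial on `U ⊗ E^⊥` with image in `U ⊗ E`, for `E = ⟨u, e⟩`. -/
theorem Ovg.mem_Wr_of_pair (hR : Reg F k) (hM : S.Ovg M) {g : GL (J k (n + 1)) F} (hg : g ∈ M)
    (hg2 : g * g = 1) {i : Fin (n + 1)} {u e : Fin k → F} (hu : u ≠ 0) (hue : S.f u e = 0)
    (he : e ∉ F ∙ u)
    (hfix : ∀ a x, S.f u x = 0 → S.f e x = 0 → app g (T i a x) = T i a x)
    (himg : ∀ y, app g y - y ∈ Li i u ⊔ Li i e) :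
    g ∈ C7.Wr F k (n + 1) := by
  have hk0 : 0 < k := by have := hR.two_le; omega
  have heu := S.zero_comm hue
  obtain ⟨w, hw, hew⟩ := S.exists_pair he
  have huw := hw u (Submodule.mem_span_singleton_self u)
  obtain ⟨v, hv, huv⟩ := S.exists_pair (show u ∉ Submodule.span F ({e, w} : Set (Fin k → F)) from
    fun hm => by
      obtain ⟨α, β, hab⟩ := Submodule.mem_span_pair.1 hm
      have h1 : S.f e u = β := by rw [← hab]; simp [S.alt, hew]
      rw [heu] at h1
      rw [← h1, zero_smul, add_zero] at hab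
      refine he (Submodule.mem_span_singleton.2 ⟨α⁻¹, ?_⟩)
      have hα : α ≠ 0 := fun h0 => hu (by rw [← hab, h0, zero_smul])
      rw [← hab, smul_smul, inv_mul_cancel₀ hα, one_smul])
  have hev := hv e (Submodule.subset_span (by simp))
  have hwv := hv w (Submodule.subset_span (by simp))
  -- coefficients at `w`
  set Z₁ : Module.End F (J k n → F) := -(ct i (S.f v) ∘ₗ (eo g - 1) ∘ₗ (T i).flip w)
  set Z₂ : Module.End F (J k n → F) := -(ct i (S.f w) ∘ₗ (eo g - 1) ∘ₗ (T i).flip w)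
  have hgw : ∀ a, app g (T i a w) = T i a w + T i (Z₁ a) u + T i (Z₂ a) e := fun a => by
    obtain ⟨_, ⟨b, rfl⟩, _, ⟨b', rfl⟩, hb⟩ := Submodule.mem_sup.1 (himg (T i a w))
    have hb' : app g (T i a w) - T i a w = T i b u + T i b' e := hb.symm
    have e1 : Z₁ a = b := by
      show -ct i (S.f v) (app g (T i a w) - T i a w) = b
      rw [hb', map_add, ct_T, ct_T, S.skew v u, huv, S.zero_comm hev, zero_smul, add_zero, neg_smul,
        one_smul, neg_neg]
    have e2 : Z₂ a = b' := by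
      show -ct i (S.f w) (app g (T i a w) - T i a w) = b'
      rw [hb', map_add, ct_T, ct_T, S.zero_comm huw, S.skew w e, hew, zero_smul, zero_add, neg_smul,
        one_smul, neg_neg]
    rw [e1, e2, add_assoc, ← hb', add_sub_cancel]
  have hgperp : ∀ x, S.f u x = 0 → ∀ a, app g (T i a x) = T i a x +
      S.f e x • (T i (Z₁ a) u + T i (Z₂ a) e) := fun x hx a => by
    have h1 := hfix a (x - S.f e x • w) (by rw [map_sub, map_smul, hx, huw, smul_zero, sub_zero])
      (by rw [map_sub, map_smul, hew, smul_eq_mul, mul_one, sub_self])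
    rw [map_sub, map_smul, map_sub, map_smul, hgw] at h1
    linear_combination (norm := module) h1
  have hgu : ∀ a, app g (T i a u) = T i a u := fun a => hfix a u (S.alt u) heu
  have hge : ∀ a, app g (T i a e) = T i a e := fun a => hfix a e hue (S.alt e)
  have hzz : ∀ a, (T i (Z₁ a) u + T i (Z₂ a) e) + (T i (Z₁ a) u + T i (Z₂ a) e) = 0 := fun a => by
    have h := congrArg (fun h => app h (T i a w)) hg2
    simp only [map_mul, map_one, LinearEquiv.mul_apply, LinearEquiv.coe_one, id_eq, hgw, map_add, hgu,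
      hge] at h
    linear_combination (norm := module) h
  have hginv : g⁻¹ = g := inv_eq_of_mul_eq_one_right hg2
  -- `Z₂` is scalar
  have hz : S.f u (-w) = 0 := by rw [map_neg, huw, neg_zero]
  set B := S.eA u (-w)
  set G := kr i (1 : GL (J k n) F) B
  have hGM : G ∈ M := hM.kr_mem i (S.eA_mem u (-w))
  have eBu : app B u = u := by rw [S.eA_apply hz]; simp [S.alt, S.skew w u, huw]
  have eBe : app B e = e + u := by rw [S.eA_apply hz]; simp [S.skew w e, hew, hue]
  have eBx : ∀ x, S.f u x = 0 → app B x = x - S.f w x • u := fun x hx => by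
    rw [S.eA_apply hz, hx]; simp [sub_eq_add_neg]
  have hGT : ∀ a q, app G (T i a q) = T i a (app B q) := fun a q => by rw [app_kr, map_one]; rfl
  have hGi : ∀ a q, app G⁻¹ (T i a q) = T i a (app B⁻¹ q) := fun a q => by
    conv_lhs => rw [← app_app_inv B q, ← hGT, app_inv_app]
  have hBi : ∀ x, S.f u x = 0 → app B⁻¹ x = x + S.f w x • u := fun x hx => (app B).injective (by
    rw [app_app_inv, map_add, map_smul, eBu, eBx x hx, sub_add_cancel])
  have hg1 : ∀ x, S.f u x = 0 → ∀ a, app (G * g * G⁻¹ * g⁻¹) (T i a x) =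
      T i a x + S.f e x • T i (Z₂ a) u := fun x hx a => by
    have hBe : app B⁻¹ e = e + S.f w e • u := hBi e hue
    have hw0 : S.f w u = 0 := S.zero_comm huw
    rw [hginv, map_mul, map_mul, map_mul, LinearEquiv.mul_apply, LinearEquiv.mul_apply,
      LinearEquiv.mul_apply]
    simp only [hgperp x hx, hgu, hge, hGi, hGT, hBi x hx, hBi u (S.alt u), hBe, eBu, eBe, eBx x hx,
      hw0, zero_smul, add_zero, map_add, map_sub, map_smul, S.skew w e, hew]
    linear_combination (norm := module) (S.f e x) • hzz a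
  have hrd1 : S.Rd i u (G * g * G⁻¹ * g⁻¹) := ⟨fun a => by
    rw [hg1 u (S.alt u) a, heu, zero_smul, add_zero], fun x hx a => by
    rw [hg1 x hx, add_sub_cancel_left]; exact Submodule.smul_mem _ _ (T_mem_Li _ _ _)⟩
  obtain ⟨B₁, -, -, eB₁⟩ := hM.exists_of_rd hR
    (mul_mem (mul_mem (mul_mem hGM hg) (inv_mem hGM)) (inv_mem hg)) hrd1 hu
  obtain ⟨c, hc⟩ : ∃ c : F, ∀ a, Z₂ a = c • a := ⟨-S.f v (app B₁ w - w), fun a => by
    have h1 := hg1 w huw a
    rw [eB₁, app_kr, map_one, hew, one_smul, LinearEquiv.coe_one, id_eq, ← sub_eq_iff_eq_add',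
      ← map_sub] at h1
    have h2 := congrArg (ct i (S.f v)) h1
    rw [ct_T, ct_T, S.skew v u, huv, neg_smul, one_smul] at h2
    rw [neg_smul, h2, neg_neg]⟩
  -- remove the root at `e`
  set R := kr i (1 : GL (J k n) F) (S.tr e c)
  have hRM : R ∈ M := hM.kr_mem i (S.tr_mem e c)
  have hRT : ∀ a q, app R⁻¹ (T i a q) = T i a (q - (c * S.f e q) • e) := fun a q => by
    rw [kr_inv, inv_one, S.tr_inv, app_kr, map_one, S.tr_apply, neg_mul, neg_smul, ← sub_eq_add_neg]
    rfl
  have hg2' : ∀ x, S.f u x = 0 → ∀ a, app (R⁻¹ * g) (T i a x) =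
      T i a x + S.f e x • T i (Z₁ a) u := fun x hx a => by
    rw [map_mul, LinearEquiv.mul_apply, hgperp x hx, hc, map_add, map_smul, map_add, hRT, hRT, hRT,
      heu, mul_zero, zero_smul, sub_zero, S.alt, mul_zero, zero_smul, sub_zero, map_smul (T i),
      LinearMap.smul_apply, map_sub, map_smul]
    module
  obtain ⟨B₂, -, -, eB₂⟩ := hM.exists_of_rd hR (mul_mem (inv_mem hRM) hg)
    (⟨fun a => by rw [hg2' u (S.alt u) a, heu, zero_smul, add_zero], fun x hx a => by
      rw [hg2' x hx, add_sub_cancel_left]; exact Submodule.smul_mem _ _ (T_mem_Li _ _ _)⟩ :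
      S.Rd i u (R⁻¹ * g)) hu
  rw [show g = R * (R⁻¹ * g) by group, eB₂]
  exact mul_mem (C7.kr_one_mem i _) (C7.kr_one_mem i _)

end Sf

end Cfsg.Agent.C7S
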