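import Cfsg.Agent.Lib.C7S.MainEven

/-!
# Overgroups with scalar position elements, characteristic two: the induction step

`y` is a conjugate of a root outside the wreath group, `X = y - 1` and `u` a line meeting `range X`
in the largest dimension.
-/

set_option autoImplicit false
set_option linter.unusedSectionVars false

namespace Cfsg.Agent.C7S

open Matrix Module Cfsg.Agent.Transvect
open Cfsg.Agent.C7 (J T ct ins Li T_apply ct_T T_mem_Li lin_ext kr app_kr gl_ext_T kr_mul kr_inv
  finrank_Li finrank_le_map_add)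
open scoped MatrixGroups

variable {F : Type*} [Field F] [Fintype F] {k s : ℕ}

namespace Sf

variable {S : Sf F k} {M : Subgroup (GL (J k (s + 1 + 1)) F)}

variable (S) in
lemma skew_eq_zero_of_ct {m : ℕ} {X : Module.End F (J k (m + 1) → F)} (hX : S.Skew (m + 1) X)
    {i : Fin (m + 1)} {w : Fin k → F} (h : LinearMap.range X ≤ LinearMap.ker (ct i (S.f w)))
    (a : J k m → F) : X (T i a w) = 0 := by
  refine Skew.eq_zero (S := S) hX ?_
  intro z hz
  have h1 : ct i (S.f w) z = 0 := h hz
  rw [S.pw_comm (T i a w) z, S.pw_T_left i z a w, h1]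
  simp

lemma orderOf_two (h2 : (2 : F) = 0) {m : ℕ} {h : GL (J k m) F}
    {Z : Module.End F (J k m → F)} (e : eo h = 1 + Z) (hZ : Z * Z = 0) (hne : Z ≠ 0) :
    orderOf h = 2 :=
  Involution.orderOf_of_sq (eo_inj (by
    rw [map_mul, map_one, e, mul_add, add_mul, add_mul, one_mul, mul_one, one_mul, hZ, add_zero,
      add_assoc, ← two_smul F Z, h2, zero_smul, add_zero])) fun h1 => hne (by
    rw [h1, map_one] at e; exact left_eq_add.1 e)

/-- `range X ∩ U ⊗ u^⊥ ⊆ U ⊗ u`. -/
theorem Ovg.inter_perp_le (hR : Reg F k) (h2 : (2 : F) = 0) (hM : S.Ovg M)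
    (hIH : ∀ t, s + 1 = t + 1 → S.Maxl t) {y : GL (J k (s + 1 + 1)) F}
    {X : Module.End F (J k (s + 1 + 1) → F)} (hy : y ∈ M) (ey : eo y = 1 + X) (hXX : X * X = 0)
    (hrX : finrank F (LinearMap.range X) = k ^ (s + 1)) {i : Fin (s + 1 + 1)} {u : Fin k → F}
    (hu : u ≠ 0)
    (hmax : ∀ q : Fin (s + 1 + 1) × (Fin k → F), q.2 ≠ 0 →
      finrank F (LinearMap.range X ⊓ Li q.1 q.2 : Submodule F (J k (s + 1 + 1) → F)) ≤
        finrank F (LinearMap.range X ⊓ Li i u : Submodule F (J k (s + 1 + 1) → F))) :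
    ∀ x, x ∈ LinearMap.range X → ct i (S.f u) x = 0 → x ∈ Li i u := by
  have hk0 : 0 < k := by have := hR.two_le; omega
  have : Finite (GL (J k (s + 1 + 1)) F) := Finite.of_injective Units.val Units.val_injective
  have hN0 : 0 < k ^ (s + 1) := pow_pos hk0 _
  have happy : ∀ x, app y x = x + X x := fun x => LinearMap.congr_fun ey x
  set r := kr i (1 : GL (J k (s + 1)) F) (S.tr u 1) with hr
  have hrM : r ∈ M := hM.kr_mem i (S.tr_mem u 1)
  have er : eo r = 1 + S.bk i u u 1 := by rw [hr, S.eo_kr_tr, one_smul]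
  have hyord : orderOf y = 2 := orderOf_two h2 ey hXX fun h => by
    rw [h, LinearMap.range_zero, finrank_bot] at hrX; omega
  have hrord : orderOf r = 2 := orderOf_two h2 er (by rw [S.bk_mul, S.alt, zero_smul]) fun h => by
    have := congrArg LinearMap.range h
    rw [← one_smul F (S.bk i u u 1), range_bk_one _ hu one_ne_zero, LinearMap.range_zero] at this
    have := congrArg (fun W : Submodule F (J k (s + 1 + 1) → F) => finrank F W) this
    simp only [finrank_Li i hu, finrank_bot] at this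
    exact hN0.ne' this
  set D := Subgroup.closure {r, y}
  set rD : D := ⟨r, Subgroup.subset_closure (by simp)⟩
  set yD : D := ⟨y, Subgroup.subset_closure (by simp)⟩
  obtain ⟨m, -, hconj, a, ha, -⟩ := Involution.exists_conj_mem_two_group (x := rD) (y := yD)
    (by rw [← Subgroup.orderOf_coe]; exact hrord) (by rw [← Subgroup.orderOf_coe]; exact hyord)
  obtain ⟨z, hz⟩ := isConj_iff.1 hconj
  have hz' : (z : GL (J k (s + 1 + 1)) F) * y * (z : GL (J k (s + 1 + 1)) F)⁻¹ =
      r * (r * y) ^ m := congrArg Subtype.val hz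
  have hDM : D ≤ M := (Subgroup.closure_le _).2 (by
    simp [Set.insert_subset_iff, hrM, hy])
  have hyW' : (z : GL (J k (s + 1 + 1)) F) * y * (z : GL (J k (s + 1 + 1)) F)⁻¹ ∈
      C7.Wr F k (s + 1 + 1) := by
    by_cases hne : r = r * (r * y) ^ m
    · rw [hz', ← hne]; exact C7.kr_one_mem i _
    · have hord' : orderOf (r * (r * y) ^ m) = 2 := by
        rw [← hz', Involution.orderOf_conj]; exact hyord
      have hpg := Involution.isPGroup_closure_pair hrord hord' hne (a := a) (by
        rw [← mul_assoc, Involution.mul_self hrord, one_mul]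
        exact congrArg Subtype.val ha)
      have : Fact (Nat.Prime 2) := ⟨Nat.prime_two⟩
      rw [hz']
      refine hM.pgroup_le_Wr hR hIH hpg ((Subgroup.closure_le _).2 ?_) hu
        (i := i) (Subgroup.subset_closure (by simp [hr])) (Subgroup.subset_closure (by simp))
      simp only [Set.insert_subset_iff, Set.singleton_subset_iff, SetLike.mem_coe]
      exact ⟨hrM, mul_mem hrM (pow_mem (mul_mem hrM hy) m)⟩
  have ez : eo ((z : GL (J k (s + 1 + 1)) F) * y * (z : GL (J k (s + 1 + 1)) F)⁻¹) - 1 =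
      cj (z : GL (J k (s + 1 + 1)) F) X := by
    rw [eo_conj ey, add_sub_cancel_left]
  obtain ⟨l, w, c, ew⟩ := isTr_of_wr (S := S) hR hyW' (hM.iso _ (mul_mem (mul_mem (hDM z.2) hy)
    (inv_mem (hDM z.2)))) (by rw [ez, ← cj_mul, hXX]; simp [cj])
    (by rw [ez, range_cj, LinearEquiv.finrank_map_eq, hrX])
  rw [ew, S.eo_kr_tr, add_sub_cancel_left] at ez
  have hfixz : ∀ (g : GL (J k (s + 1 + 1)) F), g ∈ D → ∀ x, app r x = x → app y x = x →
      app g x = x := fun g hg x => (C7.clos_facts hg).1 x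
  have hsub : ∀ x, x ∈ LinearMap.range X → ct i (S.f u) x = 0 → x ∈ Li l w := by
    rintro _ ⟨x, rfl⟩ hx
    have h1 : app r (X x) = X x := by
      rw [← eo_apply, er, LinearMap.add_apply, Module.End.one_apply, S.bk_apply, hx, map_zero,
        map_zero, LinearMap.zero_apply, add_zero]
    have h2' : app y (X x) = X x := by
      rw [happy, show X (X x) = 0 from LinearMap.congr_fun hXX x, add_zero]
    rw [← hfixz _ z.2 _ h1 h2', show app (z : GL (J k (s + 1 + 1)) F) (X x) =
      cj (z : GL (J k (s + 1 + 1)) F) X (app (z : GL (J k (s + 1 + 1)) F) x) by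
        rw [cj_apply, app_inv_app], ← ez, LinearMap.smul_apply, S.bk_apply]
    exact Submodule.smul_mem _ _ (T_mem_Li _ _ _)
  have hw : w ≠ 0 := fun hw => by
    rw [hw] at ez
    have : cj (z : GL (J k (s + 1 + 1)) F) X = 0 := by
      rw [← ez]; exact LinearMap.ext fun x => by simp [S.bk_apply]
    have h3 : finrank F (LinearMap.range (cj (z : GL (J k (s + 1 + 1)) F) X)) = k ^ (s + 1) := by
      rw [range_cj, LinearEquiv.finrank_map_eq, hrX]
    rw [this, LinearMap.range_zero, finrank_bot] at h3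
    omega
  set T0 := LinearMap.range X ⊓ LinearMap.ker (ct i (S.f u))
  have h4 : finrank F T0 ≤ finrank F (LinearMap.range X ⊓ Li i u :
      Submodule F (J k (s + 1 + 1) → F)) :=
    (Submodule.finrank_mono (show T0 ≤ LinearMap.range X ⊓ Li l w from
      fun x hx => ⟨hx.1, hsub x hx.1 hx.2⟩)).trans (hmax (l, w) hw)
  have h5 : (LinearMap.range X ⊓ Li i u : Submodule F (J k (s + 1 + 1) → F)) ≤ T0 :=
    fun x hx => ⟨hx.1, C7.ct_Li (S.alt u) hx.2⟩
  intro x hx hx'
  have : x ∈ T0 := ⟨hx, hx'⟩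
  rw [← Submodule.eq_of_le_of_finrank_le h5 h4] at this
  exact this.2

/-- An involution commuting with `r_u r_e` and `y` which is a position element at `i`. -/
theorem Ovg.false_of_form (hR : Reg F k) (h2 : (2 : F) = 0) (hM : S.Ovg M)
    {y : GL (J k (s + 1 + 1)) F} {X : Module.End F (J k (s + 1 + 1) → F)}
    (happy : ∀ x, app y x = x + X x) (hrX : finrank F (LinearMap.range X) = k ^ (s + 1))
    (hline : ∀ (i l : Fin (s + 1 + 1)) (w w' : Fin k → F), w ≠ 0 → w' ≠ 0 →
        (∀ a, app y (T i a w) ∈ Li l w') → False)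
    (hperp : ∀ (i : Fin (s + 1 + 1)) (w : Fin k → F), w ≠ 0 →
        LinearMap.range X ≤ LinearMap.ker (ct i (S.f w)) → False)
    {l : Fin (s + 1 + 1)} {u e v v' : Fin k → F} (hu : u ≠ 0) (hue : S.f u e = 0) (heu : e ∉ F ∙ u)
    (hev : S.f e v = 1) (huv' : S.f u v = 0) (huv : S.f u v' = 1) (hev' : S.f e v' = 0)
    {ι c : GL (J k (s + 1 + 1)) F} {Y : Module.End F (J k (s + 1 + 1) → F)} (eι : eo ι = 1 + Y)
    (hYT : ∀ a q, Y (T l a q) = T l a (S.f u q • u + S.f e q • e))
    (hιfix : ∀ a x, S.f u x = 0 → S.f e x = 0 → app ι (T l a x) = T l a x)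
    (hdim : finrank F (Li l u ⊔ Li l e : Submodule F (J k (s + 1 + 1) → F)) = 2 * k ^ (s + 1))
    (hT0 : ∀ x, x ∈ LinearMap.range X → ct l (S.f u) x = 0 → x ∈ Li l u)
    (hcM : c ∈ M) (hc2 : orderOf c = 2) (hcι : Commute c ι) (hcy : Commute c y)
    (hcfix : ∀ x, app ι x = x → app y x = x → app c x = x)
    (hcmove : ∀ x, app c x - x ∈ (Li l u ⊔ Li l e) ⊔ LinearMap.range X)
    {Xc : GL (J k (s + 1)) F} {B : GL (Fin k) F}
    (hc : ∀ a q, app c (T l a q) = T l (app Xc a) (app B q))
    (hcRi : ∀ a q, S.f u q = 0 → S.f e q = 0 → app ι (app c (T l a q)) = app c (T l a q)) :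
    False := by
  have hk6 : 6 ≤ k := by rcases hR with ⟨h, -⟩ | ⟨-, h⟩ <;> [exact absurd h2 h; exact h]
  have hk0 : 0 < k := by omega
  have : Nonempty (J k (s + 1)) := ⟨fun _ => ⟨0, hk0⟩⟩
  set N := k ^ (s + 1) with hN
  set Ri := (Li l u ⊔ Li l e : Submodule F (J k (s + 1 + 1) → F)) with hRi
  obtain ⟨a₀, ha₀⟩ := exists_ne (0 : J k (s + 1) → F)
  have hXa₀ : app Xc a₀ ≠ 0 := fun h => ha₀ ((app Xc).map_eq_zero_iff.1 h)
  have hBE : ∀ q, S.f u q = 0 → S.f e q = 0 →
      S.f u (app B q) = 0 ∧ S.f e (app B q) = 0 := fun q h1 h1' => by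
    have h3 := hcRi a₀ q h1 h1'
    rw [hc, ← eo_apply ι, eι, LinearMap.add_apply, Module.End.one_apply, hYT, add_eq_left] at h3
    have h4 := (C7.T_eq_zero h3).resolve_left hXa₀
    have e1 := congrArg (S.f v') h4
    have e2 := congrArg (S.f v) h4
    simp only [map_add, map_smul, S.skew v' u, huv, S.zero_comm hev', S.skew v e, hev,
      S.zero_comm huv', smul_eq_mul, mul_neg, mul_one, mul_zero, add_zero, zero_add, map_zero,
      neg_eq_zero] at e1 e2
    exact ⟨e1, e2⟩
  -- modulo `Ri` the element `c` is trivial on `U ⊗ E^⊥`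
  have hmod : ∀ z, ct l (S.f u) z = 0 → ct l (S.f e) z = 0 →
      z ∈ Ri ⊔ LinearMap.range X → z ∈ Ri := by
    intro z h1 h1' hz
    obtain ⟨p, hp, q, hq, rfl⟩ := Submodule.mem_sup.1 hz
    have hp' : ct l (S.f u) p = 0 := by
      obtain ⟨p1, hp1, p2, hp2, rfl⟩ := Submodule.mem_sup.1 hp
      rw [map_add, C7.ct_Li (S.alt u) hp1, C7.ct_Li hue hp2, add_zero]
    rw [map_add, hp', zero_add] at h1
    exact Submodule.add_mem _ hp (Submodule.mem_sup_left (hT0 q hq h1))
  obtain ⟨x₀, hx₀u, hx₀e, hx₀⟩ : ∃ x, S.f u x = 0 ∧ S.f e x = 0 ∧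
      x ∉ Submodule.span F (Set.range ![u, e]) := by
    let Φ : (Fin k → F) →ₗ[F] (Fin 2 → F) := LinearMap.pi fun p => S.f (![u, e] p)
    by_contra! hall
    have h1 := Submodule.finrank_mono (show LinearMap.ker Φ ≤ Submodule.span F (Set.range ![u, e])
      from fun x hx => hall x (congrFun (LinearMap.mem_ker.1 hx) 0)
        (congrFun (LinearMap.mem_ker.1 hx) 1))
    have h2 := Φ.finrank_range_add_finrank_ker
    have h3 := Submodule.finrank_le (LinearMap.range Φ)
    have h4 : finrank F (Submodule.span F (Set.range ![u, e])) ≤ Fintype.card (Fin 2) :=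
      finrank_range_le_card _
    rw [Module.finrank_fin_fun] at h2 h3
    rw [Fintype.card_fin] at h4
    omega
  have hXscal : ∃ ν : F, ν ≠ 0 ∧ ∀ a, app Xc a = ν • a := by
    obtain ⟨δ, hδ, hδx⟩ := exists_dual_eq_one hx₀
    have hδu := hδ u (Submodule.subset_span ⟨0, rfl⟩)
    have hδe := hδ e (Submodule.subset_span ⟨1, rfl⟩)
    have hrel : ∀ a, δ (app B x₀) • app Xc a = a := fun a => by
      obtain ⟨b1, b2⟩ := hBE x₀ hx₀u hx₀e
      have h3 := hmod (app c (T l a x₀) - T l a x₀)
        (by rw [hc, map_sub, ct_T, ct_T, b1, hx₀u, zero_smul, zero_smul, sub_zero])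
        (by rw [hc, map_sub, ct_T, ct_T, b2, hx₀e, zero_smul, zero_smul, sub_zero]) (hcmove _)
      obtain ⟨_, ⟨p1, rfl⟩, _, ⟨p2, rfl⟩, hp⟩ := Submodule.mem_sup.1 h3
      have h4 := congrArg (ct l δ) hp
      simp only [LinearMap.flip_apply, hc, map_add, map_sub, ct_T, hδu, hδe, hδx, zero_smul,
        one_smul, add_zero] at h4
      exact sub_eq_zero.1 h4.symm
    have hne : δ (app B x₀) ≠ 0 := fun h => ha₀ (by rw [← hrel a₀, h, zero_smul])
    exact ⟨(δ (app B x₀))⁻¹, inv_ne_zero hne, fun a => by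
      rw [eq_inv_smul_iff₀ hne, hrel]⟩
  obtain ⟨ν, hν, hXc⟩ := hXscal
  let B' : (Fin k → F) →ₗ[F] (Fin k → F) := ν • (app B).toLinearMap
  have hc' : ∀ a q, app c (T l a q) = T l a (B' q) := fun a q => by
    rw [hc, hXc, map_smul, LinearMap.smul_apply, ← map_smul]; rfl
  have hBiso : ∀ x z, S.f (B' x) (B' z) = S.f x z := fun x z => by
    obtain ⟨b₀, hb₀⟩ : ∃ b, S.pw (s + 1) a₀ b ≠ 0 := by
      by_contra! h
      exact ha₀ (S.pw_nd h)
    have h := hM.iso c hcM (T l a₀ x) (T l b₀ z)
    rw [hc', hc', S.pw_T, S.pw_T] at h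
    exact mul_left_cancel₀ hb₀ h
  -- `c` fixes `U ⊗ E` pointwise
  have hBfix : B' u = u ∧ B' e = e := by
    set T' := Ri ⊓ LinearMap.ker X with hT'
    have hT'dim : N ≤ finrank F T' := by
      have h3 := finrank_le_map_add X Ri
      have h4 : finrank F (Ri.map X) ≤ N := hrX ▸ Submodule.finrank_mono LinearMap.map_le_range
      rw [hdim] at h3
      rw [hT']
      omega
    let Bd : (Fin k → F) →ₗ[F] (Fin k → F) := B' - LinearMap.id
    have hTrel : ∀ z ∈ T', ∃ a b, z = T l a u + T l b e ∧ T l a (Bd u) + T l b (Bd e) = 0 := by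
      rintro z ⟨hz1, hz2⟩
      obtain ⟨_, ⟨a, rfl⟩, _, ⟨b, rfl⟩, rfl⟩ := Submodule.mem_sup.1 hz1
      refine ⟨a, b, rfl, ?_⟩
      have h3 := hcfix (T l a u + T l b e) (by
        rw [map_add, hιfix a u (S.alt u) (S.zero_comm hue), hιfix b e hue (S.alt e)])
        (by rw [happy, show X (T l a u + T l b e) = 0 from hz2, add_zero])
      rw [map_add, hc', hc'] at h3
      simp only [Bd, LinearMap.sub_apply, LinearMap.id_apply, map_sub]
      linear_combination (norm := module) h3
    by_contra hne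
    -- `T'` lies in one line
    obtain ⟨w, hw0, hwE, hTw⟩ : ∃ w, w ≠ 0 ∧ w ∈ Submodule.span F (Set.range ![u, e]) ∧
        T' ≤ Li l w := by
      have hne' : Bd u ≠ 0 ∨ Bd e ≠ 0 := by
        by_contra! h
        exact hne ⟨sub_eq_zero.1 h.1, sub_eq_zero.1 h.2⟩
      have hmem : ∀ α β : F, α • u + β • e ∈ Submodule.span F (Set.range ![u, e]) := fun α β =>
        Submodule.add_mem _ (Submodule.smul_mem _ _ (Submodule.subset_span ⟨0, rfl⟩))
          (Submodule.smul_mem _ _ (Submodule.subset_span ⟨1, rfl⟩))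
      rcases hne' with h | h
      · obtain ⟨φ, hφ⟩ := C7.exists_dual h
        refine ⟨(-φ (Bd e)) • u + (1 : F) • e, fun h0 => heu ?_, hmem _ _, fun z hz => ?_⟩
        · rw [one_smul] at h0
          rw [eq_neg_of_add_eq_zero_right h0]
          exact Submodule.neg_mem _ (Submodule.smul_mem _ _ (Submodule.mem_span_singleton_self u))
        obtain ⟨a, b, rfl, hab⟩ := hTrel z hz
        have h3 := congrArg (ct l φ) hab
        rw [map_add, ct_T, ct_T, hφ, one_smul, map_zero] at h3
        refine ⟨b, ?_⟩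
        rw [LinearMap.flip_apply, eq_neg_of_add_eq_zero_left h3]
        simp
      · obtain ⟨φ, hφ⟩ := C7.exists_dual h
        refine ⟨(1 : F) • u + (-φ (Bd u)) • e, fun h0 => ?_, hmem _ _, fun z hz => ?_⟩
        · by_cases hb : φ (Bd u) = 0
          · simp [hb, hu] at h0
          · refine heu (Submodule.mem_span_singleton.2 ⟨(φ (Bd u))⁻¹, ?_⟩)
            rw [one_smul, neg_smul, ← sub_eq_add_neg, sub_eq_zero] at h0
            have h1 := congrArg ((φ (Bd u))⁻¹ • ·) h0
            simp only [smul_smul, inv_mul_cancel₀ hb, one_smul] at h1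
            exact h1
        obtain ⟨a, b, rfl, hab⟩ := hTrel z hz
        have h3 := congrArg (ct l φ) hab
        rw [map_add, ct_T, ct_T, hφ, one_smul, map_zero] at h3
        refine ⟨a, ?_⟩
        rw [LinearMap.flip_apply, eq_neg_of_add_eq_zero_right h3]
        simp
    have heq : T' = Li l w :=
      Submodule.eq_of_le_of_finrank_le hTw (by rw [finrank_Li l hw0]; exact hT'dim)
    refine hline l l w w hw0 hw0 fun a => ?_
    have : T l a w ∈ T' := heq ▸ T_mem_Li l a w
    rw [happy, LinearMap.mem_ker.1 this.2, add_zero]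
    exact T_mem_Li _ _ _
  obtain ⟨hBu, hBe⟩ := hBfix
  -- `B' - 1` maps into `E`
  have hBimg : ∀ q, ∃ α β : F, B' q - q = α • u + β • e := by
    intro q
    have b1 : S.f u (B' q - q) = 0 := by
      rw [map_sub]; conv_lhs => arg 1; rw [← hBu]
      rw [hBiso, sub_self]
    have b2 : S.f e (B' q - q) = 0 := by
      rw [map_sub]; conv_lhs => arg 1; rw [← hBe]
      rw [hBiso, sub_self]
    have h3 := hmod (T l a₀ (B' q - q)) (by rw [ct_T, b1, zero_smul]) (by rw [ct_T, b2, zero_smul])
      (by rw [map_sub, ← hc']; exact hcmove _)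
    obtain ⟨_, ⟨p1, rfl⟩, _, ⟨p2, rfl⟩, hp⟩ := Submodule.mem_sup.1 h3
    obtain ⟨ψ, hψ⟩ := C7.exists_dual ha₀
    have h4 := congrArg (C7.lc l ψ) hp
    simp only [LinearMap.flip_apply, map_add, C7.lc_T, hψ, one_smul] at h4
    exact ⟨_, _, h4.symm⟩
  let L : (Fin k → F) →ₗ[F] (Fin k → F) := B' - LinearMap.id
  obtain ⟨h, hh⟩ : ∃ h, ∀ q, S.f h q = -S.f v (L q) := by
    obtain ⟨h, hh⟩ := S.exists_rep (-(S.f v ∘ₗ L))
    exact ⟨h, fun q => by rw [hh]; rfl⟩
  have hLq : ∀ q, ∃ α : F, L q = α • u + S.f h q • e := fun q => by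
    obtain ⟨α, β, hab⟩ := hBimg q
    refine ⟨α, ?_⟩
    rw [show L q = B' q - q from rfl, hh, show L q = B' q - q from rfl, hab]
    simp [S.skew v e, hev, S.zero_comm huv']
  have hcy' : ∀ x, x ∈ LinearMap.range X → app c x ∈ LinearMap.range X := by
    rintro _ ⟨x, rfl⟩
    refine ⟨app c x, ?_⟩
    have h3 := congrArg (fun h => app h x) hcy.eq
    simp only [map_mul, LinearEquiv.mul_apply, happy, map_add] at h3
    exact (add_left_cancel h3).symm
  by_cases hh0 : h = 0
  · -- `c` is a transvection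
    have himg : ∀ a q, app c (T l a q) - T l a q ∈ Li l u := fun a q => by
      obtain ⟨α, hα⟩ := hLq q
      rw [hh0, map_zero, LinearMap.zero_apply, zero_smul, add_zero] at hα
      rw [hc', ← map_sub, show B' q - q = α • u from hα, map_smul]
      exact Submodule.smul_mem _ _ (T_mem_Li _ _ _)
    obtain ⟨q₀, α, hα, hα0⟩ : ∃ q α, B' q - q = α • u ∧ α ≠ (0 : F) := by
      by_contra! hall
      refine Involution.ne_one hc2 (gl_ext_T l fun a q => ?_)
      obtain ⟨α, hα⟩ := hLq q
      rw [hh0, map_zero, LinearMap.zero_apply, zero_smul, add_zero] at hα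
      rw [hc', map_one, sub_eq_zero.1 ((show B' q - q = α • u from hα).trans
        (by rw [hall q α hα, zero_smul]))]
      rfl
    refine hline l l u u hu hu fun a => ?_
    have h3 : T l a u = app c (T l (α⁻¹ • a) q₀) - T l (α⁻¹ • a) q₀ := by
      rw [hc', ← map_sub, hα, map_smul (T l (α⁻¹ • a)), map_smul (T l) α⁻¹, LinearMap.smul_apply,
        smul_smul, mul_inv_cancel₀ hα0, one_smul]
    have h4 : ∀ z, app c z - z ∈ Li l u := fun z => by
      have : (Li l u).mkQ ∘ₗ ((app c).toLinearMap - LinearMap.id) = 0 :=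
        lin_ext l fun a q => (Submodule.Quotient.mk_eq_zero _).2 (himg a q)
      exact (Submodule.Quotient.mk_eq_zero _).1 (LinearMap.congr_fun this z)
    rw [h3, map_sub, ← LinearEquiv.mul_apply, ← map_mul, ← hcy.eq, map_mul, LinearEquiv.mul_apply]
    exact h4 _
  · refine hperp l h hh0 fun x hx => ?_
    have hct : ct l (S.f v) ∘ₗ ((app c).toLinearMap - LinearMap.id) = -ct l (S.f h) :=
      lin_ext l fun a q => by
        obtain ⟨α, hα⟩ := hLq q
        simp only [LinearMap.comp_apply, LinearMap.sub_apply, LinearEquiv.coe_coe,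
          LinearMap.id_apply, LinearMap.neg_apply, hc', ← map_sub,
          show B' q - q = L q from rfl, ct_T, hα]
        simp [S.skew v e, hev, S.zero_comm huv']
    have hmem : app c x - x ∈ LinearMap.range X := Submodule.sub_mem _ (hcy' x hx) hx
    have hcu : ct l (S.f u) ∘ₗ ((app c).toLinearMap - LinearMap.id) = 0 :=
      lin_ext l fun a q => by
        obtain ⟨α, hα⟩ := hLq q
        simp only [LinearMap.comp_apply, LinearMap.sub_apply, LinearEquiv.coe_coe,
          LinearMap.id_apply, LinearMap.zero_apply, hc', ← map_sub,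
          show B' q - q = L q from rfl, ct_T, hα]
        simp [S.alt, hue]
    have h5 := C7.ct_Li (S.zero_comm huv') (hT0 _ hmem (LinearMap.congr_fun hcu x))
    have h6 := LinearMap.congr_fun hct x
    simp only [LinearMap.comp_apply, LinearMap.sub_apply, LinearEquiv.coe_coe,
      LinearMap.id_apply, LinearMap.neg_apply] at h6
    rw [h5, eq_comm, neg_eq_zero] at h6
    exact h6

/-- A conjugate of a root by an element of `M` is in the wreath group. -/
theorem Ovg.mem_Wr_of_conj_root (hR : Reg F k) (h2 : (2 : F) = 0) (hM : S.Ovg M)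
    (hIH : ∀ t, s + 1 = t + 1 → S.Maxl t) {y : GL (J k (s + 1 + 1)) F}
    {X : Module.End F (J k (s + 1 + 1) → F)} (hy : y ∈ M) (ey : eo y = 1 + X) (hXX : X * X = 0)
    (hrX : finrank F (LinearMap.range X) = k ^ (s + 1)) : y ∈ C7.Wr F k (s + 1 + 1) := by
  classical
  have hk6 : 6 ≤ k := by rcases hR with ⟨h, -⟩ | ⟨-, h⟩ <;> [exact absurd h2 h; exact h]
  have hk0 : 0 < k := by omega
  have : Finite (GL (J k (s + 1 + 1)) F) := Finite.of_injective Units.val Units.val_injective
  have : Nonempty (J k (s + 1)) := ⟨fun _ => ⟨0, hk0⟩⟩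
  have : Nonempty (Fin k) := ⟨⟨0, hk0⟩⟩
  obtain ⟨u₀, hu₀⟩ := exists_ne (0 : Fin k → F)
  by_contra hyW
  set N := k ^ (s + 1) with hN
  have hN0 : 0 < N := pow_pos hk0 _
  have hskX : S.Skew (s + 1 + 1) X := S.skew_of_iso (hM.iso y hy) ey hXX
  have happy : ∀ x, app y x = x + X x := fun x => LinearMap.congr_fun ey x
  have hXne : X ≠ 0 := fun h => by
    rw [h, LinearMap.range_zero, finrank_bot] at hrX; omega
  have hline : ∀ (i l : Fin (s + 1 + 1)) (w w' : Fin k → F), w ≠ 0 → w' ≠ 0 →
      (∀ a, app y (T i a w) ∈ Li l w') → False := fun i l w w' hw hw' h =>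
    hyW (hM.mem_Wr_of_line hR hIH hy hw hw' h)
  have hperp : ∀ (i : Fin (s + 1 + 1)) (w : Fin k → F), w ≠ 0 →
      LinearMap.range X ≤ LinearMap.ker (ct i (S.f w)) → False := fun i w hw h =>
    hline i i w w hw hw fun a => by
      rw [happy, S.skew_eq_zero_of_ct hskX h a, add_zero]
      exact T_mem_Li i a w
  -- the line with the largest intersection
  obtain ⟨⟨i, u⟩, hu, hmax⟩ := Finset.exists_max_image
    ((Finset.univ : Finset (Fin (s + 1 + 1) × (Fin k → F))).filter fun q => q.2 ≠ 0)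
    (fun q => finrank F (LinearMap.range X ⊓ Li q.1 q.2 : Submodule F (J k (s + 1 + 1) → F)))
    ⟨(0, u₀), by simp [hu₀]⟩
  simp only [Finset.mem_filter, Finset.mem_univ, true_and] at hu hmax
  set r := kr i (1 : GL (J k (s + 1)) F) (S.tr u 1) with hr
  have hrM : r ∈ M := hM.kr_mem i (S.tr_mem u 1)
  have er : eo r = 1 + S.bk i u u 1 := by rw [hr, S.eo_kr_tr, one_smul]
  have hyord : orderOf y = 2 := orderOf_two h2 ey hXX hXne
  have hrord : orderOf r = 2 := orderOf_two h2 er (by rw [S.bk_mul, S.alt, zero_smul]) fun h => by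
    have := congrArg LinearMap.range h
    rw [← one_smul F (S.bk i u u 1), range_bk_one _ hu one_ne_zero, LinearMap.range_zero] at this
    have := congrArg (fun W : Submodule F (J k (s + 1 + 1) → F) => finrank F W) this
    simp only [finrank_Li i hu, finrank_bot] at this
    exact hN0.ne' this
  have hT0 := hM.inter_perp_le hR h2 hIH hy ey hXX hrX hu hmax
  -- the second vector and the involution
  obtain ⟨e, hue, heu⟩ := S.exists_orth (by omega) u
  have he0 : e ≠ 0 := fun h => heu (h ▸ zero_mem _)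
  set r' := kr i (1 : GL (J k (s + 1)) F) (S.tr e 1) with hr'
  set ι := r * r' with hι
  set Y := S.bk i u u (1 : Module.End F (J k (s + 1) → F)) + S.bk i e e 1 with hY
  have hιM : ι ∈ M := mul_mem hrM (hM.kr_mem i (S.tr_mem e 1))
  have eι : eo ι = 1 + Y := by
    rw [hι, map_mul, er, hr', S.eo_kr_tr, one_smul, add_mul, one_mul, mul_add, mul_one, S.bk_mul,
      hue, zero_smul, add_zero, hY]
    abel
  have hYT : ∀ a q, Y (T i a q) = T i a (S.f u q • u + S.f e q • e) := fun a q => by
    rw [hY, LinearMap.add_apply, S.bk_T, S.bk_T, map_add, map_smul, map_smul]; rfl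
  have hYY : Y * Y = 0 := lin_ext i fun a q => by
    rw [Module.End.mul_apply, hYT, hYT]
    simp [S.alt, hue, S.zero_comm hue]
  obtain ⟨v, hv, hev⟩ := S.exists_pair heu
  have huv' := hv u (Submodule.mem_span_singleton_self u)
  obtain ⟨v', hv', huv⟩ := S.exists_pair (show u ∉ F ∙ e from fun hm => by
    obtain ⟨α, hα⟩ := Submodule.mem_span_singleton.1 hm
    have hα0 : α ≠ 0 := fun h => hu (by rw [← hα, h, zero_smul])
    exact heu (Submodule.mem_span_singleton.2 ⟨α⁻¹, by
      rw [← hα, smul_smul, inv_mul_cancel₀ hα0, one_smul]⟩))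
  have hev' := hv' e (Submodule.mem_span_singleton_self e)
  have hRι : LinearMap.range Y = Li i u ⊔ Li i e := by
    refine le_antisymm ?_ (sup_le ?_ ?_)
    · rintro _ ⟨x, rfl⟩
      rw [hY, LinearMap.add_apply, S.bk_apply, S.bk_apply]
      exact Submodule.add_mem_sup (T_mem_Li _ _ _) (T_mem_Li _ _ _)
    · rintro _ ⟨a, rfl⟩
      exact ⟨T i a v', by rw [hYT, huv, hev', one_smul, zero_smul, add_zero]; rfl⟩
    · rintro _ ⟨a, rfl⟩
      exact ⟨T i a v, by rw [hYT, huv', hev, one_smul, zero_smul, zero_add]; rfl⟩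
  have hdisj : Li i u ⊓ Li i e = (⊥ : Submodule F (J k (s + 1 + 1) → F)) := by
    rw [eq_bot_iff]
    rintro x ⟨⟨a, rfl⟩, ⟨b, hb⟩⟩
    simp only [LinearMap.flip_apply] at hb
    rw [Submodule.mem_bot]
    by_cases hb0 : b = 0
    · simp [← hb, hb0]
    · exact absurd (C7.mem_span_of_T_eq hb0 hb) heu
  set Ri := (Li i u ⊔ Li i e : Submodule F (J k (s + 1 + 1) → F)) with hRi
  have hdim : finrank F Ri = 2 * N := by
    have := Submodule.finrank_sup_add_finrank_inf_eq (Li i u) (Li i e : Submodule F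
      (J k (s + 1 + 1) → F))
    rw [hdisj, finrank_bot, finrank_Li i hu, finrank_Li i he0, add_zero] at this
    rw [hRi, two_mul]; exact this
  have hιord : orderOf ι = 2 := orderOf_two h2 eι hYY fun h => by
    rw [h, LinearMap.range_zero] at hRι
    rw [← hRι, finrank_bot] at hdim
    omega
  have hnc : ¬ IsConj ι y := by
    intro hc
    obtain ⟨x, hx⟩ := isConj_iff.1 hc
    have h1 : cj x Y = X := add_left_cancel (((eo_conj eι).symm.trans (congrArg eo hx)).trans ey)
    have h3 : finrank F (LinearMap.range (cj x Y)) = finrank F (LinearMap.range Y) := by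
      rw [range_cj, LinearEquiv.finrank_map_eq]
    rw [h1, hRι, hrX, hdim] at h3
    omega
  obtain ⟨c, hc2, hcι, hcy, hcz⟩ := Involution.exists_commuting_involution hιord hyord
    (Involution.even_of_not_isConj hιord hyord hnc)
  have hcD : c ∈ Subgroup.closure ({ι, y} : Set (GL (J k (s + 1 + 1)) F)) :=
    Subgroup.zpowers_le.2 (mul_mem (Subgroup.subset_closure (by simp))
      (Subgroup.subset_closure (by simp))) hcz
  have hcM : c ∈ M := (Subgroup.closure_le _).2 (by simp [Set.insert_subset_iff, hιM, hy]) hcD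
  obtain ⟨hcfix, hcmove⟩ := C7.clos_facts hcD
  have hres : ∀ {h : GL (J k (s + 1 + 1)) F} {Z : Module.End F (J k (s + 1 + 1) → F)},
      eo h = 1 + Z → C4.res h = LinearMap.range Z := fun {h Z} e => by
    rw [C4.res]; congr 1
    exact LinearMap.ext fun x => by
      have := LinearMap.congr_fun e x
      simp only [eo_apply, LinearMap.add_apply, Module.End.one_apply] at this
      simp [this]
  rw [hres eι, hres ey, hRι] at hcmove
  have hιfix : ∀ a x, S.f u x = 0 → S.f e x = 0 → app ι (T i a x) = T i a x := fun a x h1 h1' => by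
    rw [← eo_apply, eι, LinearMap.add_apply, Module.End.one_apply, hYT, h1, h1']; simp
  -- `c` is a position element
  have hcr : c * r * c⁻¹ ∈ C7.Wr F k (s + 1 + 1) := by
    have hcR : ∀ x, x ∈ Ri → app c x ∈ Ri := by
      rw [← hRι]
      rintro _ ⟨x, rfl⟩
      refine ⟨app c x, ?_⟩
      have := congrArg (fun h => app h x) hcι.eq
      simp only [map_mul, LinearEquiv.mul_apply] at this
      rw [← eo_apply ι, ← eo_apply ι, eι] at this
      simp only [LinearMap.add_apply, Module.End.one_apply, map_add] at this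
      exact (add_left_cancel this).symm
    refine hM.mem_Wr_of_pair (i := i) hR (mul_mem (mul_mem hcM hrM) (inv_mem hcM))
      (by rw [show c * r * c⁻¹ * (c * r * c⁻¹) = c * (r * r) * c⁻¹ by group,
        Involution.mul_self hrord, mul_one, mul_inv_cancel]) hu hue heu (fun a x h1 h1' => ?_)
      fun z => ?_
    · have hfix' : app ι (app c⁻¹ (T i a x)) = app c⁻¹ (T i a x) := by
        rw [Involution.inv_eq hc2, ← LinearEquiv.mul_apply, ← map_mul, ← hcι.eq, map_mul,
          LinearEquiv.mul_apply, hιfix a x h1 h1']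
      have h3 : ct i (S.f u) (app c⁻¹ (T i a x)) = 0 := by
        have h4 : Y (app c⁻¹ (T i a x)) = 0 := by
          rw [← eo_apply ι, eι, LinearMap.add_apply, Module.End.one_apply] at hfix'
          simpa using hfix'
        have h5 := congrArg (ct i (S.f v')) h4
        rw [hY, LinearMap.add_apply, map_add, S.bk_apply, S.bk_apply, ct_T, ct_T, S.skew v' u, huv,
          S.zero_comm hev', zero_smul, add_zero, map_zero, neg_smul, one_smul, neg_eq_zero] at h5
        simpa using h5
      rw [map_mul, map_mul, LinearEquiv.mul_apply, LinearEquiv.mul_apply]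
      conv_lhs => rw [← eo_apply r, er, LinearMap.add_apply, Module.End.one_apply, S.bk_apply, h3,
        map_zero, map_zero, LinearMap.zero_apply, add_zero]
      rw [app_app_inv]
    · rw [map_mul, map_mul, LinearEquiv.mul_apply, LinearEquiv.mul_apply, ← eo_apply r, er,
        LinearMap.add_apply, Module.End.one_apply, map_add, app_app_inv, add_sub_cancel_left,
        S.bk_apply]
      exact hcR _ (Submodule.mem_sup_left (T_mem_Li _ _ _))
  have hcW : c ∈ C7.Wr F k (s + 1 + 1) := hM.mem_Wr_of_root hR hIH hcM hu hcr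
  obtain ⟨l, Xc, B, hc⟩ := C7.exists_form hcW i
  have hcRi : ∀ a q, S.f u q = 0 → S.f e q = 0 → app ι (app c (T i a q)) = app c (T i a q) :=
    fun a q h1 h1' => by
      rw [← LinearEquiv.mul_apply, ← map_mul, ← hcι.eq, map_mul, LinearEquiv.mul_apply,
        hιfix a q h1 h1']
  have hli : l = i := by
    by_contra hne
    obtain ⟨j, rfl⟩ := Fin.exists_succAbove_eq hne
    have hBu : app B u ≠ 0 := fun h => hu ((app B).map_eq_zero_iff.1 h)
    have : Nonempty (J k s) := ⟨fun _ => ⟨0, hk0⟩⟩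
    obtain ⟨a₁, ha₁⟩ := exists_ne (0 : J k s → F)
    obtain ⟨b, hb⟩ := C7.nested_mem i j a₁ (app B u) v'
    obtain ⟨a, rfl⟩ := (app Xc).surjective b
    simp only [LinearMap.flip_apply] at hb
    have h1 := hcRi a u (S.alt u) (S.zero_comm hue)
    rw [hc, hb, ← eo_apply ι, eι, LinearMap.add_apply, Module.End.one_apply, hYT, huv, hev',
      one_smul, zero_smul, add_zero, add_eq_left] at h1
    exact ((C7.T_eq_zero h1).resolve_right hu |> C7.T_eq_zero).elim ha₁ hBu
  subst hli
  exact hM.false_of_form hR h2 happy hrX hline hperp hu hue heu hev huv' huv hev' eι hYT hιfix hdim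
    hT0 hcM hc2 hcι hcy hcfix hcmove hc hcRi

/-- All conjugates of roots are in the wreath group, so `M` is. -/
theorem maxl_even {S : Sf F k} (hR : Reg F k) (h2 : (2 : F) = 0) : ∀ n, S.Maxl n := by
  have hk0 : 0 < k := by have := hR.two_le; omega
  intro n
  induction n with
  | zero => exact fun M _ g _ => C7.mem_Wr_one g
  | succ s ih =>
    intro M hM g hg
    have hIH : ∀ t, s + 1 = t + 1 → S.Maxl t := fun t ht => by
      obtain rfl : s = t := by omega
      exact ih
    have : Nonempty (Fin k) := ⟨⟨0, hk0⟩⟩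
    obtain ⟨u₀, hu₀⟩ := exists_ne (0 : Fin k → F)
    refine hM.mem_Wr_of_root hR hIH hg (i := 0) hu₀ (hM.mem_Wr_of_conj_root hR h2 hIH
      (mul_mem (mul_mem hg (hM.kr_mem 0 (S.tr_mem u₀ 1))) (inv_mem hg))
      (X := cj g (S.bk (0 : Fin (s + 1 + 1)) u₀ u₀ 1)) (eo_conj (by rw [S.eo_kr_tr, one_smul]))
      (by rw [← cj_mul, S.bk_mul, S.alt, zero_smul]; simp [cj]) ?_)
    rw [range_cj, ← one_smul F (S.bk (0 : Fin (s + 1 + 1)) u₀ u₀ 1),
      range_bk_one _ hu₀ one_ne_zero, LinearEquiv.finrank_map_eq, finrank_Li _ hu₀]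

end Sf

end Cfsg.Agent.C7S
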