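import Cfsg.Agent.Lib.C7S.Slot
import Mathlib.GroupTheory.SpecificGroups.Alternating

/-!
# Pure unipotent elements of an overgroup

`PatM M A`: some non-zero multiple `X` of `pur A` has `1 + X ∈ M`.  Commutators of two such elements
and second differences in the positions where the two products differ lead from any pattern to one
without identity factors.
-/

set_option autoImplicit false
set_option linter.unusedSectionVars false

namespace Cfsg.Agent.C7S

open Matrix Module Cfsg.Agent.Transvect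
open Cfsg.Agent.C7 (J T ct ins T_apply ct_T lin_ext kr app_kr)
open scoped MatrixGroups

variable {F : Type*} [Field F] {k n : ℕ}

/-! ### Pure operators -/

lemma pur_update_add (j : Fin (n + 1)) (A : Fin (n + 1) → Matrix (Fin k) (Fin k) F)
    (G G' : Matrix (Fin k) (Fin k) F) :
    pur (Function.update A j (G + G')) = pur (Function.update A j G) + pur (Function.update A j G') :=
  lin_ext j fun a u => by
    have e : ∀ H : Matrix (Fin k) (Fin k) F,
        (fun p => Function.update A j H (j.succAbove p)) = fun p => A (j.succAbove p) := fun H =>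
      funext fun p => Function.update_of_ne (j.succAbove_ne p) _ _
    rw [LinearMap.add_apply, pur_T, pur_T, pur_T, Function.update_self, Function.update_self,
      Function.update_self, e, e, e, Matrix.add_mulVec, map_add]

lemma pur_smul_fun {N : ℕ} (r : Fin N → F) (A : Fin N → Matrix (Fin k) (Fin k) F) :
    pur (fun i => r i • A i) = (∏ i, r i) • pur A := by
  refine LinearMap.ext fun x => ?_
  rw [LinearMap.smul_apply, pur_apply, pur_apply, ← Matrix.smul_mulVec]
  congr 1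
  ext f g
  simp only [Aschbacher.pureMat_apply, Matrix.smul_apply, smul_eq_mul, Finset.prod_mul_distrib]

lemma pur_update_smul (j : Fin (n + 1)) (A : Fin (n + 1) → Matrix (Fin k) (Fin k) F) (r : F)
    (G : Matrix (Fin k) (Fin k) F) :
    pur (Function.update A j (r • G)) = r • pur (Function.update A j G) := by
  have h := pur_smul_fun (Function.update (fun _ => (1 : F)) j r) (Function.update A j G)
  rw [Finset.prod_update_of_mem (Finset.mem_univ j)] at h
  simp only [Finset.prod_const_one, mul_one] at h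
  rw [← h]
  congr 1
  funext i
  by_cases hi : i = j
  · subst hi; simp
  · simp [hi]

lemma pur_eq_zero {A : Fin n → Matrix (Fin k) (Fin k) F} {i : Fin n} (h : A i = 0) : pur A = 0 :=
  LinearMap.ext fun x => by
    rw [pur_apply, Aschbacher.pureMat]
    funext f
    refine Finset.sum_eq_zero fun g _ => ?_
    simp only [Matrix.of_apply]
    rw [Finset.prod_eq_zero (Finset.mem_univ i) (by rw [h]; rfl), zero_mul]

lemma pur_ne_zero : ∀ {n : ℕ} {A : Fin n → Matrix (Fin k) (Fin k) F}, (∀ i, A i ≠ 0) → pur A ≠ 0 := by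
  intro n
  induction n with
  | zero =>
    intro A _ h
    have h1 := congrFun (LinearMap.congr_fun h fun _ => 1) finZeroElim
    simp [pur_apply, Matrix.mulVec, dotProduct, Aschbacher.pureMat_apply] at h1
  | succ n ih =>
    intro A hA h
    obtain ⟨c, hc⟩ : ∃ c, A 0 *ᵥ c ≠ 0 := by
      by_contra! hall
      exact hA 0 (Matrix.ext_iff_mulVec.2 fun v => by rw [hall, Matrix.zero_mulVec])
    refine ih (fun j => hA ((0 : Fin (n + 1)).succAbove j)) (LinearMap.ext fun a => ?_)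
    have h1 := LinearMap.congr_fun h (T 0 a c)
    rw [pur_T, LinearMap.zero_apply] at h1
    exact (C7.T_eq_zero h1).resolve_right hc

lemma cj_kr_pur (j : Fin (n + 1)) (B : GL (Fin k) F) (A : Fin (n + 1) → Matrix (Fin k) (Fin k) F) :
    cj (kr j (1 : GL (J k n) F) B) (pur A) =
      pur (Function.update A j ((B : Matrix (Fin k) (Fin k) F) * A j *
        ((B⁻¹ : GL (Fin k) F) : Matrix (Fin k) (Fin k) F))) := by
  rw [cj, C7.kr_inv, inv_one, eo_kr, eo_kr, pur_mul, pur_mul]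
  congr 1
  funext i
  by_cases hi : i = j
  · subst hi; simp
  · simp [hi]

namespace Sf

variable (S : Sf F k)

lemma mx_mul (a b c d : Fin k → F) : S.mx a b * S.mx c d = S.f b c • S.mx a d :=
  Matrix.ext_iff_mulVec.2 fun v => by
    simp only [← Matrix.mulVec_mulVec, S.mx_mulVec, Matrix.smul_mulVec, map_smul, smul_eq_mul,
      smul_smul, mul_comm]

lemma mx_conj {B : GL (Fin k) F} (hB : B ∈ S.spGen) (b c : Fin k → F) :
    (B : Matrix (Fin k) (Fin k) F) * S.mx b c * ((B⁻¹ : GL (Fin k) F) : Matrix (Fin k) (Fin k) F) =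
      S.mx (app B b) (app B c) :=
  Matrix.ext_iff_mulVec.2 fun v => by
    rw [← Matrix.mulVec_mulVec, ← Matrix.mulVec_mulVec, S.mx_mulVec, Matrix.mulVec_smul, S.mx_mulVec]
    show S.f c (app B⁻¹ v) • app B b = _
    rw [← S.spGen_iso hB c, app_app_inv]

variable {S}

lemma IsSm.sq {A : Matrix (Fin k) (Fin k) F} (h : S.IsSm A) : A * A = 0 := by
  obtain ⟨b, -, rfl⟩ := h
  rw [S.mx_mul, S.alt, zero_smul]

lemma IsLam.sq {A : Matrix (Fin k) (Fin k) F} (h : S.IsLam A) : A * A = 0 := by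
  obtain ⟨b, c, -, hbc, -, rfl⟩ := h
  simp [sub_mul, mul_sub, S.mx_mul, S.alt, hbc, S.zero_comm hbc]

lemma IsSm.ne_one (hk : 0 < k) {A : Matrix (Fin k) (Fin k) F} (h : S.IsSm A) : A ≠ 1 := fun e => by
  have := h.sq
  rw [e, one_mul] at this
  have h1 := congrFun (congrFun this ⟨0, hk⟩) ⟨0, hk⟩
  simp at h1

lemma IsLam.ne_one (hk : 0 < k) {A : Matrix (Fin k) (Fin k) F} (h : S.IsLam A) : A ≠ 1 := fun e => by
  have := h.sq
  rw [e, one_mul] at this
  have h1 := congrFun (congrFun this ⟨0, hk⟩) ⟨0, hk⟩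
  simp at h1

lemma mx_ne_zero {b c : Fin k → F} (hb : b ≠ 0) (hc : c ≠ 0) : S.mx b c ≠ 0 := fun e => by
  obtain ⟨x, hx⟩ := S.exists_dual hc
  have := congrArg (fun G : Matrix (Fin k) (Fin k) F => G *ᵥ x) e
  simp only [S.mx_mulVec, hx, one_smul, Matrix.zero_mulVec] at this
  exact hb this

lemma IsPat.ne_zero (hk : 0 < k) {A : Matrix (Fin k) (Fin k) F} (h : S.IsPat A) : A ≠ 0 := by
  rcases h with rfl | ⟨b, hb, rfl⟩ | ⟨b, c, hb, hbc, hc, rfl⟩
  · intro e
    simpa using congrFun (congrFun e ⟨0, hk⟩) ⟨0, hk⟩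
  · exact mx_ne_zero hb hb
  · intro e
    obtain ⟨x, hx, hcx⟩ := S.exists_pair hc
    have h1 := congrArg (fun G : Matrix (Fin k) (Fin k) F => G *ᵥ x) e
    simp [Matrix.sub_mulVec, S.mx_mulVec, hcx, hx b (Submodule.mem_span_singleton_self b)] at h1
    exact hb h1

lemma IsPat.sq {A : Matrix (Fin k) (Fin k) F} (hA : S.IsPat A) (h1 : A ≠ 1) : A * A = 0 :=
  (hA.resolve_left h1).elim IsSm.sq IsLam.sq

lemma not_isLam_two (hk : k = 2) {A : Matrix (Fin k) (Fin k) F} : ¬ S.IsLam A := by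
  subst hk
  rintro ⟨b, c, hb, hbc, hc, -⟩
  obtain ⟨x, hx⟩ := S.exists_dual hb
  have hli : LinearIndependent F ![b, c] := (LinearIndependent.pair_iff' hb).2 fun r hr =>
    hc (Submodule.mem_span_singleton.2 ⟨r, hr⟩)
  have hle : Submodule.span F (Set.range ![b, c]) ≤ LinearMap.ker (S.f b) := by
    rw [Submodule.span_le]
    rintro _ ⟨i, rfl⟩
    fin_cases i <;> simp [S.alt, hbc]
  have htop : Submodule.span F (Set.range ![b, c]) = ⊤ := by
    refine Submodule.eq_top_of_finrank_eq ?_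
    rw [finrank_span_eq_card hli]; simp
  have : S.f b x = 0 := hle (htop ▸ Submodule.mem_top)
  rw [hx] at this
  exact one_ne_zero this

/-! ### Products of two factors -/

/-- Both products are multiples of `E`. -/
def Com (S : Sf F k) (A A' E : Matrix (Fin k) (Fin k) F) : Prop :=
  S.IsPat E ∧ ∃ r r' : F, r ≠ 0 ∧ r' ≠ 0 ∧ A * A' = r • E ∧ A' * A = r' • E

/-- The two products are `b w^` and `w b^` with `b`, `w` independent, up to scalars. -/
def Ind (S : Sf F k) (A A' : Matrix (Fin k) (Fin k) F) : Prop :=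
  ∃ b w, b ≠ 0 ∧ w ∉ F ∙ b ∧ ∃ r r' : F, r ≠ 0 ∧ r' ≠ 0 ∧
    A * A' = r • S.mx b w ∧ A' * A = r' • S.mx w b

lemma com_one {A : Matrix (Fin k) (Fin k) F} (hA : S.IsPat A) : S.Com A 1 A ∧ S.Com 1 A A :=
  ⟨⟨hA, 1, 1, one_ne_zero, one_ne_zero, by simp, by simp⟩,
    ⟨hA, 1, 1, one_ne_zero, one_ne_zero, by simp, by simp⟩⟩

/-- Conjugate of the first factor by the transvection group. -/
def Cjg (S : Sf F k) (A A' : Matrix (Fin k) (Fin k) F) : Prop :=
  ∃ B ∈ S.spGen, A' = (B : Matrix (Fin k) (Fin k) F) * A *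
    ((B⁻¹ : GL (Fin k) F) : Matrix (Fin k) (Fin k) F)

lemma cjg_refl (A : Matrix (Fin k) (Fin k) F) : S.Cjg A A := ⟨1, one_mem _, by simp⟩

lemma exists_ind {A A₀ : Matrix (Fin k) (Fin k) F} (hA : S.IsSm A) (hA₀ : S.IsSm A₀ ∨ S.IsLam A₀) :
    ∃ A', S.Cjg A₀ A' ∧ S.Ind A A' := by
  obtain ⟨b, hb, rfl⟩ := hA
  rcases hA₀ with ⟨b₀, hb₀, rfl⟩ | ⟨b₀, c₀, hb₀, h0, hc₀, rfl⟩
  · obtain ⟨b', hb'⟩ := S.exists_dual hb
    have hne : b' ≠ 0 := fun e => by simp [e] at hb'
    obtain ⟨B, hB, eB⟩ := S.exists_move hb₀ hne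
    refine ⟨S.mx b' b', ⟨B, hB, by rw [S.mx_conj hB, eB]⟩, b, b', hb, fun hm => ?_,
      S.f b b', S.f b' b, by rw [hb']; exact one_ne_zero, by rw [S.skew, hb']; simp,
      S.mx_mul _ _ _ _, S.mx_mul _ _ _ _⟩
    obtain ⟨r, rfl⟩ := Submodule.mem_span_singleton.1 hm
    simp [S.alt] at hb'
  · have hb0' : b₀ ∉ F ∙ c₀ := fun hm => by
      obtain ⟨r, hr⟩ := Submodule.mem_span_singleton.1 hm
      by_cases hr0 : r = 0
      · exact hb₀ (by rw [← hr, hr0, zero_smul])
      · exact hc₀ (Submodule.mem_span_singleton.2 ⟨r⁻¹, by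
          rw [← hr, smul_smul, inv_mul_cancel₀ hr0, one_smul]⟩)
    obtain ⟨v, hv, hbv⟩ := S.exists_pair hb0'
    have hv1 : S.f (-v) b₀ = 1 := by rw [map_neg, LinearMap.neg_apply, S.skew v b₀, hbv, neg_neg]
    have hv2 : S.f (-v) c₀ = 0 := by
      rw [map_neg, LinearMap.neg_apply, S.zero_comm (hv c₀ (Submodule.mem_span_singleton_self c₀)),
        neg_zero]
    have hne : -v ≠ 0 := fun e => by simp [e] at hv1
    obtain ⟨B, hB, eB⟩ := S.exists_move hne hb
    have h1 : S.f b (app B b₀) = 1 := by rw [← eB, S.spGen_iso hB, hv1]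
    have h2 : S.f b (app B c₀) = 0 := by rw [← eB, S.spGen_iso hB, hv2]
    have h3 : S.f (app B b₀) (app B c₀) = 0 := by rw [S.spGen_iso hB, h0]
    refine ⟨S.mx (app B b₀) (app B c₀) - S.mx (app B c₀) (app B b₀),
      ⟨B, hB, by rw [mul_sub, sub_mul, S.mx_conj hB, S.mx_conj hB]⟩, b, app B c₀, hb, fun hm => ?_,
      1, 1, one_ne_zero, one_ne_zero, ?_, ?_⟩
    · obtain ⟨r, hr⟩ := Submodule.mem_span_singleton.1 hm
      rw [← hr, map_smul, S.skew, h1, smul_eq_mul, mul_neg, mul_one, neg_eq_zero] at h3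
      rw [h3, zero_smul] at hr
      exact hc₀ (by rw [(LinearEquiv.map_eq_zero_iff (app B)).1 hr.symm]; exact zero_mem _)
    · rw [mul_sub, S.mx_mul, S.mx_mul, h1, h2, zero_smul, sub_zero]
    · rw [sub_mul, S.mx_mul, S.mx_mul, S.zero_comm h2, S.skew, h1, zero_smul, zero_sub, neg_smul,
        neg_neg]

lemma exists_deg {A : Matrix (Fin k) (Fin k) F} (hA : S.IsLam A) :
    ∃ A' E, S.Cjg A A' ∧ S.IsSm E ∧ S.Com A A' E ∧ A * A' * A = 0 ∧ A' * A * A' = 0 := by
  obtain ⟨b, c, hb, hbc, hc, rfl⟩ := hA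
  have hb' : b ∉ F ∙ c := fun hm => by
    obtain ⟨r, hr⟩ := Submodule.mem_span_singleton.1 hm
    by_cases hr0 : r = 0
    · exact hb (by rw [← hr, hr0, zero_smul])
    · exact hc (Submodule.mem_span_singleton.2 ⟨r⁻¹, by
        rw [← hr, smul_smul, inv_mul_cancel₀ hr0, one_smul]⟩)
  obtain ⟨v, hv, hbv⟩ := S.exists_pair hb'
  have hcv := hv c (Submodule.mem_span_singleton_self c)
  have hc0 : c ≠ 0 := fun e => hc (e ▸ zero_mem _)
  set B := S.tr v (-1) with hBdef
  have e1 : app B b = b + v := by rw [hBdef, S.tr_apply, S.skew, hbv]; simp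
  have e2 : app B c = c := by rw [hBdef, S.tr_apply, S.zero_comm hcv]; simp
  have hmul : (S.mx b c - S.mx c b) * (S.mx (b + v) c - S.mx c (b + v)) = (-1 : F) • S.mx c c := by
    simp [sub_mul, mul_sub, S.mx_mul, map_add, S.alt, hbc, S.zero_comm hbc, hbv, hcv]
  have hmul' : (S.mx (b + v) c - S.mx c (b + v)) * (S.mx b c - S.mx c b) = (1 : F) • S.mx c c := by
    simp [sub_mul, mul_sub, S.mx_mul, map_add, S.alt, hbc, S.zero_comm hbc, S.skew v b, hbv,
      S.zero_comm hcv]
  refine ⟨S.mx (b + v) c - S.mx c (b + v), S.mx c c, ⟨B, S.tr_mem _ _, ?_⟩, ⟨c, hc0, rfl⟩,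
    ⟨.inr (.inl ⟨c, hc0, rfl⟩), -1, 1, by simp, one_ne_zero, hmul, hmul'⟩, ?_, ?_⟩
  · rw [mul_sub, sub_mul, S.mx_conj (S.tr_mem _ _), S.mx_conj (S.tr_mem _ _), e1, e2]
  · rw [hmul]; simp [mul_sub, S.mx_mul, S.alt, S.zero_comm hbc]
  · rw [hmul']; simp [mul_sub, S.mx_mul, S.alt, map_add, hbc, S.zero_comm hbc, hcv]

/-- Orthogonal vectors pairing non-trivially with `b w^`. -/
lemma exists_ns [Fintype F] (hR : Reg F k) {b w : Fin k → F} (hb : b ≠ 0) (hw : w ∉ F ∙ b) :
    ∃ x y, S.f x y = 0 ∧ (y = x ∨ y ∉ F ∙ x) ∧ S.f x b * S.f w y + S.f y b * S.f w x ≠ 0 := by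
  have hb' : b ∉ F ∙ w := fun hm => by
    obtain ⟨r, hr⟩ := Submodule.mem_span_singleton.1 hm
    by_cases hr0 : r = 0
    · exact hb (by rw [← hr, hr0, zero_smul])
    · exact hw (Submodule.mem_span_singleton.2 ⟨r⁻¹, by
        rw [← hr, smul_smul, inv_mul_cancel₀ hr0, one_smul]⟩)
  obtain ⟨x₁, hx₁, hb₁⟩ := S.exists_pair hw
  obtain ⟨x₂, hx₂, hb₂⟩ := S.exists_pair hb'
  have h1 := hx₁ b (Submodule.mem_span_singleton_self b)
  have h2 := hx₂ w (Submodule.mem_span_singleton_self w)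
  by_cases h2' : (2 : F) = 0
  · have hk : 4 < k := by rcases hR with ⟨h, -⟩ | ⟨-, h⟩ <;> [exact absurd h2' h; omega]
    obtain ⟨x, hxb, hxw, hxs⟩ : ∃ x, S.f b x = 1 ∧ S.f w x = 0 ∧
        x ∉ Submodule.span F (Set.range ![b, w]) := by
      by_cases hs : x₂ ∈ Submodule.span F (Set.range ![b, w])
      swap
      · exact ⟨x₂, hb₂, h2, hs⟩
      obtain ⟨z, hz, hzs⟩ : ∃ z, z ∈ LinearMap.ker (S.f b) ⊓ LinearMap.ker (S.f w) ∧
          z ∉ Submodule.span F (Set.range ![b, w]) := by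
        by_contra! hall
        have h3 := Submodule.finrank_mono (show LinearMap.ker (S.f b) ⊓ LinearMap.ker (S.f w) ≤ _
          from hall)
        have h4 := finrank_range_le_card (R := F) ![b, w]
        have h5 := (S.f b).finrank_range_add_finrank_ker
        have h6 := (S.f w).finrank_range_add_finrank_ker
        have h7 := Submodule.finrank_sup_add_finrank_inf_eq (LinearMap.ker (S.f b))
          (LinearMap.ker (S.f w))
        have h8 := Submodule.finrank_le (LinearMap.ker (S.f b) ⊔ LinearMap.ker (S.f w))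
        have h9 := Submodule.finrank_le (LinearMap.range (S.f b))
        have h10 := Submodule.finrank_le (LinearMap.range (S.f w))
        rw [Module.finrank_fin_fun] at h5 h6 h8
        rw [Module.finrank_self] at h9 h10
        simp [Set.finrank] at h4
        omega
      simp only [Submodule.mem_inf, LinearMap.mem_ker] at hz
      exact ⟨x₂ + z, by simp [hb₂, hz.1], by simp [h2, hz.2], fun hm => hzs (by
        simpa using Submodule.sub_mem _ hm hs)⟩
    have hws : w ∉ Submodule.span F ({b, x} : Set (Fin k → F)) := fun hm => by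
      obtain ⟨α, β, e⟩ := Submodule.mem_span_pair.1 hm
      by_cases hβ : β = 0
      · exact hw (Submodule.mem_span_singleton.2 ⟨α, by simpa [hβ] using e⟩)
      · refine hxs ?_
        have : x = β⁻¹ • w - (β⁻¹ * α) • b := by
          rw [← e, smul_add, smul_smul, smul_smul, inv_mul_cancel₀ hβ]; simp
        rw [this]
        exact Submodule.sub_mem _ (Submodule.smul_mem _ _ (Submodule.subset_span ⟨1, rfl⟩))
          (Submodule.smul_mem _ _ (Submodule.subset_span ⟨0, rfl⟩))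
    obtain ⟨y, hy, hwy⟩ := S.exists_pair hws
    have hby := hy b (Submodule.subset_span (by simp))
    have hxy := hy x (Submodule.subset_span (by simp))
    refine ⟨x, y, hxy, .inr fun hm => ?_, ?_⟩
    · obtain ⟨r, rfl⟩ := Submodule.mem_span_singleton.1 hm
      rw [map_smul, hxw, smul_zero] at hwy
      exact zero_ne_one hwy
    · simp [S.skew x b, hxb, hwy, hxw]
  · refine ⟨x₁ + x₂, x₁ + x₂, S.alt _, .inl rfl, ?_⟩
    have e1 : S.f (x₁ + x₂) b = -1 := by rw [S.skew]; simp [h1, hb₂]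
    have e2 : S.f w (x₁ + x₂) = 1 := by simp [hb₁, h2]
    rw [e1, e2]
    intro h
    apply h2'
    linear_combination -h

/-! ### Patterns in an overgroup -/

variable {N : ℕ}

/-- Some non-zero multiple of `pur A` gives an element of `M`. -/
def PatM (M : Subgroup (GL (J k N) F)) (A : Fin N → Matrix (Fin k) (Fin k) F) : Prop :=
  ∃ d : F, d ≠ 0 ∧ InM M (d • pur A)

/-- The even permutations of the positions act. -/
def PermM (M : Subgroup (GL (J k N) F)) : Prop :=
  ∀ σ : Equiv.Perm (Fin N), Equiv.Perm.sign σ = 1 →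
    ∃ g ∈ M, ∀ A : Fin N → Matrix (Fin k) (Fin k) F, cj g (pur A) = pur fun i => A (σ i)

lemma PatM.perm {M : Subgroup (GL (J k N) F)} (hP : PermM M) {A : Fin N → Matrix (Fin k) (Fin k) F}
    (hA : PatM M A) {σ : Equiv.Perm (Fin N)} (hσ : Equiv.Perm.sign σ = 1) :
    PatM M fun i => A (σ i) := by
  obtain ⟨d, hd, h⟩ := hA
  obtain ⟨g, hg, e⟩ := hP σ hσ
  exact ⟨d, hd, by simpa [cj_smul, e] using h.conj hg⟩

lemma PatM.cjg {M : Subgroup (GL (J k (n + 1)) F)} (hM : S.HasRoots M)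
    {A A' : Fin (n + 1) → Matrix (Fin k) (Fin k) F} (hA : PatM M A)
    (h : ∀ i, S.Cjg (A i) (A' i)) : PatM M A' := by
  have key : ∀ s : Finset (Fin (n + 1)), PatM M (s.piecewise A' A) := by
    intro s
    induction s using Finset.induction with
    | empty => simpa using hA
    | @insert j s hj ih =>
      obtain ⟨B, hB, e⟩ := h j
      obtain ⟨d, hd, hd'⟩ := ih
      refine ⟨d, hd, ?_⟩
      have := hd'.conj (hM.kr_mem j hB)
      rw [cj_smul, cj_kr_pur, Finset.piecewise_eq_of_notMem _ _ _ hj, ← e] at this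
      rwa [Finset.piecewise_insert]
  simpa using key Finset.univ

lemma patM_sq {A : Fin N → Matrix (Fin k) (Fin k) F} {i : Fin N} (h : A i * A i = 0) (d : F) :
    (d • pur A) * (d • pur A) = 0 := by
  rw [smul_mul_smul_comm, pur_mul, pur_eq_zero (i := i) h, smul_zero]

variable (S) in
/-- The operators `X` with `1 + X ∈ M` and range and kernel given by `c` in position `q`. -/
def line (M : Subgroup (GL (J k (n + 2)) F)) (q : Fin (n + 2)) (c : Fin k → F) :
    AddSubgroup (Module.End F (J k (n + 2) → F)) where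
  carrier := {X | InM M X ∧ ∃ K, X = S.bk q c c K}
  zero_mem' := ⟨InM.zero M, 0, (S.bk_zero _ _ _).symm⟩
  add_mem' := by
    rintro _ _ ⟨h1, K, rfl⟩ ⟨h2, K', rfl⟩
    exact ⟨h1.add h2 (by rw [S.bk_mul, S.alt, zero_smul]), K + K', (S.bk_add _ _ _ _ _).symm⟩
  neg_mem' := by
    rintro _ ⟨h1, K, rfl⟩
    exact ⟨h1.neg (by rw [S.bk_mul, S.alt, zero_smul]), -K, (S.bk_neg _ _ _ _).symm⟩

lemma line_stable {M : Subgroup (GL (J k (n + 2)) F)} (hM : S.HasRoots M) {q j : Fin (n + 2)}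
    (hj : j ≠ q) (c : Fin k → F) : S.Stable (S.line M q c) j := by
  obtain ⟨j', rfl⟩ := Fin.exists_succAbove_eq hj
  rintro B hB _ ⟨h, K, rfl⟩
  refine ⟨h.conj (hM.kr_mem _ hB), cj (kr j' 1 B) K, ?_⟩
  rw [S.cj_bk (A := kr j' 1 B) (B := 1) (fun a v => by rw [kr_nested, map_one]; rfl) (fun x y => by simp)]
  simp

lemma mem_line_of_pur {M : Subgroup (GL (J k (n + 2)) F)} {q : Fin (n + 2)} {c : Fin k → F}
    {α β : F} {E E' : Fin (n + 2) → Matrix (Fin k) (Fin k) F} (hE : E q = S.mx c c)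
    (hE' : E' q = S.mx c c) (h : InM M (α • pur E + β • pur E')) :
    α • pur E + β • pur E' ∈ S.line M q c := by
  refine ⟨h, α • pur (fun i => E (q.succAbove i)) + β • pur (fun i => E' (q.succAbove i)), ?_⟩
  rw [S.bk_add, S.bk_smul, S.bk_smul, S.bk_pur, S.bk_pur, ← hE, Function.update_eq_self, hE, ← hE',
    Function.update_eq_self]

variable [Fintype F]

/-- Second differences at the positions where two pure summands differ. -/
lemma collapse_many (hR : Reg F k) {M : Subgroup (GL (J k (n + 2)) F)} (hM : S.HasRoots M)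
    {q : Fin (n + 2)} {c : Fin k → F} (R : Finset (Fin (n + 2))) (hq : q ∉ R) :
    ∀ {α β : F} {E E' : Fin (n + 2) → Matrix (Fin k) (Fin k) F}, α ≠ 0 → β ≠ 0 →
      E q = S.mx c c → E' q = S.mx c c →
      (∀ i ∈ R, ∃ b w, b ≠ 0 ∧ w ∉ F ∙ b ∧ E i = S.mx b w ∧ E' i = S.mx w b) →
      InM M (α • pur E + β • pur E') →
      ∃ (α' β' : F) (G : Fin (n + 2) → Matrix (Fin k) (Fin k) F), α' ≠ 0 ∧ β' ≠ 0 ∧
        (∀ i ∈ R, S.IsSm (G i)) ∧
        InM M (α' • pur (R.piecewise G E) + β' • pur (R.piecewise G E')) := by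
  induction R using Finset.induction with
  | empty => intro α β E E' ha hb _ _ _ h; exact ⟨α, β, E, ha, hb, by simp, by simpa using h⟩
  | @insert j R hj ih =>
    intro α β E E' hα hβ hE hE' hI h
    rw [Finset.mem_insert, not_or] at hq
    obtain ⟨α', β', G, hα', hβ', hG, hX⟩ :=
      ih hq.2 hα hβ hE hE' (fun i hi => hI i (Finset.mem_insert_of_mem hi)) h
    obtain ⟨b, w, hb, hw, e1, e2⟩ := hI j (Finset.mem_insert_self j R)
    obtain ⟨x, y, hxy, hy, hN⟩ := exists_ns (S := S) hR hb hw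
    have hmem := mem_line_of_pur (c := c)
      (by rw [Finset.piecewise_eq_of_notMem _ _ _ hq.2, hE])
      (by rw [Finset.piecewise_eq_of_notMem _ _ _ hq.2, hE']) hX
    have hx : x ≠ 0 := by
      rintro rfl
      rcases hy with rfl | hy <;> simp at hN
    have := ((line_stable hM (Ne.symm hq.1) c).sm hmem hxy hy).1
    refine ⟨α' * (S.f x b * S.f w y + S.f y b * S.f w x),
      β' * (S.f x b * S.f w y + S.f y b * S.f w x), Function.update G j (S.mx x x),
      mul_ne_zero hα' hN, mul_ne_zero hβ' hN, fun i hi => ?_, ?_⟩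
    · rcases Finset.mem_insert.1 hi with rfl | hi
      · exact ⟨x, hx, by simp⟩
      · rw [Function.update_of_ne (fun e : i = j => hj (e ▸ hi))]; exact hG i hi
    · have e : ∀ H : Fin (n + 2) → Matrix (Fin k) (Fin k) F,
          (insert j R).piecewise (Function.update G j (S.mx x x)) H =
            Function.update (R.piecewise G H) j (S.mx x x) := fun H => by
        rw [Finset.piecewise_insert, Function.update_self]
        congr 1
        exact Finset.piecewise_congr _ (fun i hi =>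
          Function.update_of_ne (fun e : i = j => hj (e ▸ hi)) _ _) fun i _ => rfl
      rw [e, e]
      convert this using 1
      simp only [S.Kb_add, S.Kb_smul, S.Kb_pur, Finset.piecewise_eq_of_notMem _ _ _ hj, e1, e2,
        S.mx_mulVec, map_smul, smul_eq_mul, S.bk_add, S.bk_smul, S.bk_pur]
      rw [S.skew x w, S.skew b y, S.skew y w, S.skew b x]
      module

/-- One position left. -/
lemma collapse_last (hR : Reg F k) {M : Subgroup (GL (J k (n + 2)) F)} (hM : S.HasRoots M)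
    {q j : Fin (n + 2)} (hjq : j ≠ q) {c : Fin k → F}
    {E : Fin (n + 2) → Matrix (Fin k) (Fin k) F} (hE : E q = S.mx c c) {b w : Fin k → F} (hb : b ≠ 0)
    (hw : w ∉ F ∙ b) {α β : F} (hα : α ≠ 0)
    (h : InM M (α • pur (Function.update E j (S.mx b w)) + β • pur (Function.update E j (S.mx w b)))) :
    ∃ G, (S.IsSm G ∨ S.IsLam G ∨ (G = 1 ∧ k = 2)) ∧ PatM M (Function.update E j G) := by
  rw [← pur_update_smul, ← pur_update_smul, ← pur_update_add] at h
  set G₀ := α • S.mx b w + β • S.mx w b with hG₀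
  have hmem : pur (Function.update E j G₀) ∈ S.line M q c := by
    refine ⟨h, pur (fun i => Function.update E j G₀ (q.succAbove i)), ?_⟩
    rw [S.bk_pur, ← hE, ← Function.update_of_ne hjq.symm G₀ E, Function.update_eq_self]
  have hKb : ∀ x y, S.Kb j x y (pur (Function.update E j G₀)) =
      S.f x (G₀ *ᵥ y) • pur (fun i => E (j.succAbove i)) := fun x y => by
    rw [S.Kb_pur, Function.update_self]
    congr 2
    exact funext fun i => Function.update_of_ne (j.succAbove_ne i) _ _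
  have hst := line_stable hM hjq c
  by_cases h1 : ∃ x y, S.f x y = 0 ∧ (y = x ∨ y ∉ F ∙ x) ∧
      S.f x (G₀ *ᵥ y) + S.f y (G₀ *ᵥ x) ≠ 0
  · obtain ⟨x, y, hxy, hy, hne⟩ := h1
    have := (hst.sm hmem hxy hy).1
    rw [hKb, hKb, ← add_smul, S.bk_smul, S.bk_pur] at this
    refine ⟨S.mx x x, .inl ⟨x, ?_, rfl⟩, _, hne, this⟩
    rintro rfl
    rcases hy with rfl | hy
    · simp at hne
    · simp at hne
  push Not at h1
  by_cases h2 : ∃ x y, S.f x y = 0 ∧ y ∉ F ∙ x ∧ S.f x (G₀ *ᵥ y) ≠ 0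
  · obtain ⟨x, y, hxy, hy, hne⟩ := h2
    have hneg : S.Kb j y x (pur (Function.update E j G₀)) = -S.Kb j x y (pur (Function.update E j G₀)) := by
      rw [hKb, hKb, eq_neg_of_add_eq_zero_right (h1 x y hxy (.inr hy))]; exact LinearMap.ext fun z => funext fun g => by simp
    have := (hst.lam hmem hxy hneg).1
    rw [hKb, S.bk_smul, S.bk_smul, S.bk_pur, S.bk_pur] at this
    refine ⟨S.mx x y - S.mx y x, .inr (.inl ⟨x, y, fun hx => hne (by simp [hx]), hxy, hy, rfl⟩),
      _, hne, ?_⟩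
    rw [show pur (Function.update E j (S.mx x y - S.mx y x)) =
      pur (Function.update E j (S.mx x y)) - pur (Function.update E j (S.mx y x)) by
        rw [eq_sub_iff_add_eq, ← pur_update_add, sub_add_cancel]]
    convert this using 1
    exact LinearMap.ext fun z => funext fun g => by simp [mul_sub]
  push Not at h2
  obtain ⟨s, hs⟩ := S.scalar_of_orth G₀.mulVecLin (fun x y hxy =>
    S.orth_zero hR (E := F) (fun x y => S.f x (G₀ *ᵥ y)) (fun x y z => by simp [Matrix.mulVec_add])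
      (fun x y r => by simp [Matrix.mulVec_smul]) (fun b => h1 b b (S.alt b) (.inl rfl)) h2 x y hxy)
  have hG : G₀ = s • 1 := Matrix.ext_iff_mulVec.2 fun v => by
    rw [Matrix.smul_mulVec, Matrix.one_mulVec]; exact LinearMap.congr_fun hs v
  have hb' : b ∉ F ∙ w := fun hm => by
    obtain ⟨r, hr⟩ := Submodule.mem_span_singleton.1 hm
    by_cases hr0 : r = 0
    · exact hb (by rw [← hr, hr0, zero_smul])
    · exact hw (Submodule.mem_span_singleton.2 ⟨r⁻¹, by
        rw [← hr, smul_smul, inv_mul_cancel₀ hr0, one_smul]⟩)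
  have hs0 : s ≠ 0 := fun h0 => by
    obtain ⟨x, hx, hwx⟩ := S.exists_pair hw
    have e := congrArg (fun G : Matrix (Fin k) (Fin k) F => G *ᵥ x) (hG₀.symm.trans hG)
    simp [Matrix.add_mulVec, Matrix.smul_mulVec, S.mx_mulVec, hwx,
      hx b (Submodule.mem_span_singleton_self b), h0] at e
    exact e.elim hα hb
  refine ⟨1, .inr (.inr ⟨rfl, ?_⟩), s, hs0, by rwa [← pur_update_smul, ← hG]⟩
  by_contra hk
  obtain ⟨z, hz, hbz, hwz⟩ : ∃ z, z ≠ 0 ∧ S.f b z = 0 ∧ S.f w z = 0 := by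
    have h5 := (S.f b).finrank_range_add_finrank_ker
    have h6 := (S.f w).finrank_range_add_finrank_ker
    have h7 := Submodule.finrank_sup_add_finrank_inf_eq (LinearMap.ker (S.f b)) (LinearMap.ker (S.f w))
    have h8 := Submodule.finrank_le (LinearMap.ker (S.f b) ⊔ LinearMap.ker (S.f w))
    have h9 := Submodule.finrank_le (LinearMap.range (S.f b))
    have h10 := Submodule.finrank_le (LinearMap.range (S.f w))
    have := hR.two_le
    rw [Module.finrank_fin_fun] at h5 h6 h8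
    rw [Module.finrank_self] at h9 h10
    by_contra! hall
    have : LinearMap.ker (S.f b) ⊓ LinearMap.ker (S.f w) = ⊥ := by
      rw [eq_bot_iff]
      intro z hz
      by_contra hz0
      exact hall z hz0 (LinearMap.mem_ker.1 hz.1) (LinearMap.mem_ker.1 hz.2)
    rw [this, finrank_bot] at h7
    omega
  have e := congrArg (fun G : Matrix (Fin k) (Fin k) F => G *ᵥ z) (hG₀.symm.trans hG)
  simp [Matrix.add_mulVec, Matrix.smul_mulVec, S.mx_mulVec, hbz, hwz] at e
  exact (smul_eq_zero.1 e.symm).elim hs0 hz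

/-- The commutator of two patterns, collapsed. -/
theorem comb (hR : Reg F k) {M : Subgroup (GL (J k (n + 2)) F)} (hM : S.HasRoots M)
    {A A' C₀ : Fin (n + 2) → Matrix (Fin k) (Fin k) F} (hA : PatM M A) (hA' : PatM M A')
    (I : Finset (Fin (n + 2))) (hI : ∀ i ∈ I, S.Ind (A i) (A' i))
    (hC : ∀ i ∉ I, S.Com (A i) (A' i) (C₀ i)) (hsq : ∃ i, A i * A i = 0) (hsq' : ∃ i, A' i * A' i = 0)
    (hz : ∃ i, A i * A' i * A i = 0) (hz' : ∃ i, A' i * A i * A' i = 0)
    {q : Fin (n + 2)} (hq : q ∉ I) (hCq : S.IsSm (C₀ q)) (hIne : I.Nonempty) :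
    ∃ C, PatM M C ∧ (∀ i ∉ I, C i = C₀ i) ∧ ∃ j ∈ I, (∀ i ∈ I, i ≠ j → S.IsSm (C i)) ∧
      (S.IsSm (C j) ∨ S.IsLam (C j) ∨ (C j = 1 ∧ k = 2)) := by
  classical
  obtain ⟨d, hd, hX⟩ := hA
  obtain ⟨d', hd', hY⟩ := hA'
  have hZ := hX.comm hY (patM_sq hsq.choose_spec d) (patM_sq hsq'.choose_spec d')
    (by
      obtain ⟨i, hi⟩ := hz
      rw [smul_mul_smul_comm, smul_mul_smul_comm, pur_mul, pur_mul, pur_eq_zero (i := i) hi,
        smul_zero])
    (by
      obtain ⟨i, hi⟩ := hz'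
      rw [smul_mul_smul_comm, smul_mul_smul_comm, pur_mul, pur_mul, pur_eq_zero (i := i) hi,
        smul_zero])
  have key : ∀ i, ∃ E E' : Matrix (Fin k) (Fin k) F, ∃ r r' : F, r ≠ 0 ∧ r' ≠ 0 ∧
      A i * A' i = r • E ∧ A' i * A i = r' • E' ∧
      ((i ∈ I ∧ ∃ b w, b ≠ 0 ∧ w ∉ F ∙ b ∧ E = S.mx b w ∧ E' = S.mx w b) ∨
        (i ∉ I ∧ E = C₀ i ∧ E' = C₀ i)) := fun i => by
    by_cases hi : i ∈ I
    · obtain ⟨b, w, hb, hw, r, r', hr, hr', e, e'⟩ := hI i hi
      exact ⟨_, _, r, r', hr, hr', e, e', .inl ⟨hi, b, w, hb, hw, rfl, rfl⟩⟩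
    · obtain ⟨-, r, r', hr, hr', e, e'⟩ := hC i hi
      exact ⟨_, _, r, r', hr, hr', e, e', .inr ⟨hi, rfl, rfl⟩⟩
  choose E E' r r' hr hr' e e' hcase using key
  rw [smul_mul_smul_comm, smul_mul_smul_comm, pur_mul, pur_mul, show A * A' = fun i => r i • E i from
    funext e, show A' * A = fun i => r' i • E' i from funext e', pur_smul_fun, pur_smul_fun, smul_smul,
    smul_smul, sub_eq_add_neg, ← neg_smul] at hZ
  have hα : d * d' * ∏ i, r i ≠ 0 :=
    mul_ne_zero (mul_ne_zero hd hd') (Finset.prod_ne_zero_iff.2 fun i _ => hr i)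
  have hβ : -(d' * d * ∏ i, r' i) ≠ 0 :=
    neg_ne_zero.2 (mul_ne_zero (mul_ne_zero hd' hd) (Finset.prod_ne_zero_iff.2 fun i _ => hr' i))
  obtain ⟨c, hc, ec⟩ := hCq
  have hEq : E q = S.mx c c ∧ E' q = S.mx c c := by
    rcases hcase q with ⟨h, -⟩ | ⟨-, h, h'⟩
    · exact absurd h hq
    · exact ⟨h.trans ec, h'.trans ec⟩
  obtain ⟨j, hj⟩ := hIne
  have hjq : j ≠ q := fun h => hq (h ▸ hj)
  obtain ⟨α, β, G, hα', -, hG, hX'⟩ := collapse_many (S := S) hR hM (I.erase j)
    (fun h => hq (Finset.mem_of_mem_erase h)) hα hβ hEq.1 hEq.2 (fun i hi => by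
      rcases hcase i with ⟨-, h⟩ | ⟨h, -⟩
      · exact h
      · exact absurd (Finset.mem_of_mem_erase hi) h) hZ
  obtain ⟨b, w, hb, hw, eb, eb'⟩ : ∃ b w, b ≠ 0 ∧ w ∉ F ∙ b ∧ E j = S.mx b w ∧ E' j = S.mx w b := by
    rcases hcase j with ⟨-, h⟩ | ⟨h, -⟩
    · exact h
    · exact absurd hj h
  set C := (I.erase j).piecewise G C₀ with hCdef
  have hup : ∀ (H : Fin (n + 2) → Matrix (Fin k) (Fin k) F), (∀ i ∉ I, H i = C₀ i) →
      (I.erase j).piecewise G H = Function.update C j (H j) := fun H hH => by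
    funext i
    by_cases hij : i = j
    · subst hij; simp
    · rw [Function.update_of_ne hij, hCdef]
      by_cases hi : i ∈ I.erase j
      · simp [hi]
      · rw [Finset.piecewise_eq_of_notMem _ _ _ hi, Finset.piecewise_eq_of_notMem _ _ _ hi, hH]
        exact fun h => hi (Finset.mem_erase.2 ⟨hij, h⟩)
  rw [hup E (fun i hi => (hcase i).elim (fun h => absurd h.1 hi) fun h => h.2.1),
    hup E' (fun i hi => (hcase i).elim (fun h => absurd h.1 hi) fun h => h.2.2), eb, eb'] at hX'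
  obtain ⟨G₀, hG₀, hP⟩ := collapse_last (S := S) hR hM hjq (c := c)
    (by rw [hCdef, Finset.piecewise_eq_of_notMem _ _ _ (fun h => hq (Finset.mem_of_mem_erase h)), ec])
    hb hw hα' hX'
  refine ⟨_, hP, fun i hi => ?_, j, hj, fun i hi hij => ?_, by simpa using hG₀⟩
  · rw [Function.update_of_ne (fun h : i = j => hi (h ▸ hj)), hCdef,
      Finset.piecewise_eq_of_notMem _ _ _ (fun h => hi (Finset.mem_of_mem_erase h))]
  · rw [Function.update_of_ne hij, hCdef, Finset.piecewise_eq_of_mem _ _ _ (Finset.mem_erase.2 ⟨hij, hi⟩)]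
    exact hG i (Finset.mem_erase.2 ⟨hij, hi⟩)

end Sf

end Cfsg.Agent.C7S
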