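import Cfsg.Agent.Lib.C7S.Pattern

/-!
# The radical of a position line in an overgroup with scalar position elements

If all position elements `1 + K ⊗ u u^` of `M` have scalar `K`, an element of `M` trivial on
`U ⊗ u` and on `U ⊗ u^⊥ / U ⊗ u` is a `1 ⊗ B`.
-/

set_option autoImplicit false
set_option linter.unusedSectionVars false

namespace Cfsg.Agent.C7S

open Matrix Module Cfsg.Agent.Transvect
open Cfsg.Agent.C7 (J T ct ins Li T_apply ct_T T_mem_Li lin_ext kr app_kr ct_Li mem_Li_of_ct)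
open scoped MatrixGroups

variable {F : Type*} [Field F] {k n : ℕ}

namespace Sf

variable (S : Sf F k)

/-- Position elements of `M` are scalar. -/
def Scal (M : Subgroup (GL (J k (n + 1)) F)) : Prop :=
  ∀ (i : Fin (n + 1)) (u : Fin k → F) (K : Module.End F (J k n → F)),
    u ≠ 0 → InM M (S.bk i u u K) → ∃ r : F, K = r • 1

/-- The standing properties of the overgroup. -/
structure Ovg (M : Subgroup (GL (J k (n + 1)) F)) : Prop where
  roots : S.HasRoots M
  iso : ∀ g ∈ M, S.Iso (n + 1) g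
  scal : S.Scal M

/-- Trivial on `U ⊗ u` and on `U ⊗ u^⊥` modulo it. -/
def Rd (i : Fin (n + 1)) (u : Fin k → F) (g : GL (J k (n + 1)) F) : Prop :=
  (∀ a, app g (T i a u) = T i a u) ∧
    ∀ x, S.f u x = 0 → ∀ a, app g (T i a x) - T i a x ∈ Li i u

/-- The coefficient at `x ⊥ u`, read off with a partner `v` of `u`. -/
def kap (i : Fin (n + 1)) (v : Fin k → F) (g : GL (J k (n + 1)) F) (x : Fin k → F) :
    Module.End F (J k n → F) :=
  -S.Kb i v x (eo g - 1)

variable {S} {i : Fin (n + 1)} {u v : Fin k → F} {g : GL (J k (n + 1)) F}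

lemma kap_apply (i : Fin (n + 1)) (v : Fin k → F) (g : GL (J k (n + 1)) F) (x : Fin k → F)
    (a : J k n → F) : S.kap i v g x a = -ct i (S.f v) (app g (T i a x) - T i a x) := rfl

lemma Kb_sub_one_apply (i : Fin (n + 1)) (x v : Fin k → F) (g : GL (J k (n + 1)) F) (a : J k n → F) :
    S.Kb i x v (eo g - 1) a = ct i (S.f x) (app g (T i a v) - T i a v) := rfl

lemma Rd.app_eq (hg : S.Rd i u g) (huv : S.f u v = 1) {x : Fin k → F} (hx : S.f u x = 0)
    (a : J k n → F) : app g (T i a x) = T i a x + T i (S.kap i v g x a) u := by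
  obtain ⟨b, hb⟩ := hg.2 x hx a
  have h1 : S.kap i v g x a = b := by
    rw [kap_apply, ← hb]
    show -ct i (S.f v) (T i b u) = b
    rw [ct_T, S.skew, huv, neg_smul, one_smul, neg_neg]
  rw [h1]
  exact (eq_add_of_sub_eq' (show app g (T i a x) - T i a x = T i b u from hb.symm))

lemma Rd.kap_u (hg : S.Rd i u g) (v : Fin k → F) : S.kap i v g u = 0 :=
  LinearMap.ext fun a => by rw [kap_apply, hg.1, sub_self, map_zero, neg_zero]; rfl

lemma kap_add (i : Fin (n + 1)) (v : Fin k → F) (g : GL (J k (n + 1)) F) (x y : Fin k → F) :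
    S.kap i v g (x + y) = S.kap i v g x + S.kap i v g y :=
  LinearMap.ext fun a => by simp only [kap_apply, LinearMap.add_apply, map_add, map_sub]; abel

lemma kap_smul (i : Fin (n + 1)) (v : Fin k → F) (g : GL (J k (n + 1)) F) (r : F) (x : Fin k → F) :
    S.kap i v g (r • x) = r • S.kap i v g x :=
  LinearMap.ext fun a => by
    simp only [kap_apply, LinearMap.smul_apply, map_smul, map_sub, smul_neg, smul_sub]

lemma Rd.perp (hg : S.Rd i u g) (hi : S.Iso (n + 1) g) (a : J k n → F) (q : Fin k → F) :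
    ct i (S.f u) (app g (T i a q) - T i a q) = 0 :=
  S.pw_ext fun b => by
    rw [LinearMap.map_zero₂, S.pw_comm b, ← S.pw_T_left, map_sub]
    have h := hi (T i b u) (T i a q)
    rw [hg.1] at h
    rw [h, sub_self, mul_zero]

/-- The adjoint of the coefficient. -/
lemma Rd.adj (hg : S.Rd i u g) (hi : S.Iso (n + 1) g) (huv : S.f u v = 1) {x : Fin k → F}
    (hx : S.f u x = 0) (a b : J k n → F) :
    S.pw n b (S.Kb i x v (eo g - 1) a) = -S.pw n (S.kap i v g x b) a := by
  rw [Kb_sub_one_apply, ← S.pw_T_left]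
  set L := app g (T i a v) - T i a v
  have hL : app g (T i a v) = T i a v + L := (add_sub_cancel _ _).symm
  have h := hi (T i b x) (T i a v)
  rw [hg.app_eq huv hx, hL] at h
  simp only [map_add, LinearMap.add_apply] at h
  rw [S.pw_T_left i L (S.kap i v g x b) u, show ct i (S.f u) L = 0 from hg.perp hi a v, map_zero,
    S.pw_T i (S.kap i v g x b) a u v, huv] at h
  linear_combination h

lemma Rd.mul {d : GL (J k (n + 1)) F} (hg : S.Rd i u g) (hd : S.Rd i u d) : S.Rd i u (g * d) := by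
  refine ⟨fun a => by rw [map_mul, LinearEquiv.mul_apply, hd.1, hg.1], fun x hx a => ?_⟩
  obtain ⟨b, hb⟩ := hd.2 x hx a
  rw [map_mul, LinearEquiv.mul_apply, show app d (T i a x) = T i a x + T i b u from
    eq_add_of_sub_eq' hb.symm, map_add, hg.1, add_sub_right_comm]
  exact Submodule.add_mem _ (hg.2 x hx a) (T_mem_Li _ _ _)

lemma Rd.inv (hg : S.Rd i u g) : S.Rd i u g⁻¹ := by
  have h1 : ∀ a, app g⁻¹ (T i a u) = T i a u := fun a => by
    conv_lhs => rw [← hg.1 a, app_inv_app]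
  refine ⟨h1, fun x hx a => ?_⟩
  obtain ⟨b, hb⟩ := hg.2 x hx a
  have h2 : app g⁻¹ (T i a x) = T i a x - T i b u := (app g).injective (by
    rw [app_app_inv, map_sub, hg.1,
      eq_add_of_sub_eq' (show app g (T i a x) - T i a x = T i b u from hb.symm), add_sub_cancel_right])
  rw [h2, sub_sub_cancel_left]
  exact Submodule.neg_mem _ (T_mem_Li _ _ _)

lemma Rd.kap_mul (hg : S.Rd i u g) {d : GL (J k (n + 1)) F} (hd : S.Rd i u d) (huv : S.f u v = 1)
    {x : Fin k → F} (hx : S.f u x = 0) :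
    S.kap i v (g * d) x = S.kap i v g x + S.kap i v d x := LinearMap.ext fun a => by
  rw [kap_apply, map_mul, LinearEquiv.mul_apply, hd.app_eq huv hx, map_add, hg.1, hg.app_eq huv hx,
    add_assoc, add_sub_cancel_left, map_add, ct_T, ct_T, S.skew, huv, LinearMap.add_apply]
  module

lemma Rd.kap_inv (hg : S.Rd i u g) (huv : S.f u v = 1) {x : Fin k → F} (hx : S.f u x = 0) :
    S.kap i v g⁻¹ x = -S.kap i v g x := by
  have h := hg.inv.kap_mul hg huv hx
  rw [inv_mul_cancel] at h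
  have h1 : S.kap i v (1 : GL (J k (n + 1)) F) x = 0 := LinearMap.ext fun a => by simp [kap_apply]
  exact eq_neg_of_add_eq_zero_left (h.symm.trans h1)

/-- The commutator of two elements of the radical, one with coefficient `f(x₂, ·) S₂`. -/
lemma comm_rd {M : Subgroup (GL (J k (n + 1)) F)} {d : GL (J k (n + 1)) F} (hgM : g ∈ M) (hdM : d ∈ M)
    (hg : S.Rd i u g) (hd : S.Rd i u d) (hig : S.Iso (n + 1) g) (hid : S.Iso (n + 1) d)
    (huv : S.f u v = 1) {x₂ : Fin k → F} (hx₂ : S.f u x₂ = 0) {S₂ S₂' : Module.End F (J k n → F)}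
    (hk : ∀ x, S.f u x = 0 → S.kap i v d x = S.f x₂ x • S₂)
    (hadj : ∀ a b, S.pw n (S₂ b) a = S.pw n b (S₂' a)) :
    InM M (S.bk i u u (S.kap i v g x₂ * S₂' - S₂ * S.Kb i x₂ v (eo g - 1))) := by
  set Z := S.kap i v g x₂ * S₂' - S₂ * S.Kb i x₂ v (eo g - 1)
  have hdy : ∀ y, ct i (S.f u) y = 0 → app d y = y + T i (S₂ (ct i (S.f x₂) y)) u := by
    let φ : (J k (n + 1) → F) →ₗ[F] (J k (n + 1) → F) :=
      LinearMap.id - (T i).flip v ∘ₗ ct i (S.f u)
    have h : ((app d).toLinearMap - LinearMap.id - (T i).flip u ∘ₗ S₂ ∘ₗ ct i (S.f x₂)) ∘ₗ φ = 0 :=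
      lin_ext i fun a q => by
        have hz : φ (T i a q) = T i a (q - S.f u q • v) := by simp [φ]
        simp only [LinearMap.comp_apply, hz, LinearMap.sub_apply, LinearMap.id_apply,
          LinearEquiv.coe_coe, LinearMap.flip_apply, LinearMap.zero_apply]
        have hp : S.f u (q - S.f u q • v) = 0 := by simp [huv]
        rw [hd.app_eq huv hp, hk _ hp, ct_T, LinearMap.smul_apply, map_smul S₂]
        abel
    intro y hy
    have := LinearMap.congr_fun h y
    simp [φ, hy] at this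
    rw [app_apply]
    linear_combination (norm := module) this
  have hLd : ∀ a, app d (T i a v) - T i a v - T i (S₂' a) x₂ ∈ Li i u := fun a =>
    mem_Li_of_ct fun γ hγ => by
      obtain ⟨x, rfl⟩ := S.exists_rep γ
      have hux : S.f u x = 0 := S.zero_comm hγ
      refine S.pw_ext fun b => ?_
      rw [S.pw_comm b, LinearMap.map_zero₂, map_sub, map_sub, ← Kb_sub_one_apply, hd.adj hid huv hux,
        hk x hux, LinearMap.smul_apply, map_smul, LinearMap.smul_apply, hadj, ct_T, map_smul,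
        S.skew x₂ x, smul_eq_mul, smul_eq_mul]
      ring
  have hgd : eo g * eo d = (1 + S.bk i u u Z) * (eo d * eo g) := lin_ext i fun a q => by
    obtain ⟨w, hw, hq⟩ : ∃ w, S.f u w = 0 ∧ q = w + S.f u q • v :=
      ⟨q - S.f u q • v, by simp [huv], by abel⟩
    rw [hq, map_add, map_add, map_add, map_smul, map_smul, map_smul]
    congr 1
    · simp only [Module.End.mul_apply, LinearMap.add_apply, Module.End.one_apply, eo_apply,
        hd.app_eq huv hw, hg.app_eq huv hw, map_add, hg.1, hd.1, S.bk_T, hw, S.alt, zero_smul,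
        add_zero]
      abel
    congr 1
    obtain ⟨r, hr⟩ := hLd a
    simp only [LinearMap.flip_apply] at hr
    have e1 : app d (T i a v) = T i a v + T i (S₂' a) x₂ + T i r u := by
      rw [hr]; abel
    set L := app g (T i a v) - T i a v with hLdef
    have e2 : app g (T i a v) = T i a v + L := (add_sub_cancel _ _).symm
    have hL0 : ct i (S.f u) L = 0 := hg.perp hig a v
    have hdL : app d L = L + T i (S₂ (ct i (S.f x₂) L)) u := hdy L hL0
    simp only [Module.End.mul_apply, LinearMap.add_apply, Module.End.one_apply, eo_apply]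
    rw [e1, e2, map_add, map_add, map_add, e2, hg.app_eq huv hx₂, hg.1, e1, hdL]
    simp only [map_add, S.bk_T, S.alt, huv, hx₂, zero_smul, one_smul, add_zero]
    rw [show S.bk i u u Z L = T i (Z (ct i (S.f u) L)) u from rfl, hL0, map_zero, map_zero]
    simp only [Z, LinearMap.sub_apply, Module.End.mul_apply, Kb_sub_one_apply, ← hLdef, map_sub]
    simp only [LinearMap.sub_apply, LinearMap.zero_apply, add_zero]
    abel
  refine ⟨g * d * g⁻¹ * d⁻¹, mul_mem (mul_mem (mul_mem hgM hdM) (inv_mem hgM)) (inv_mem hdM), ?_⟩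
  calc eo (g * d * g⁻¹ * d⁻¹) = eo g * eo d * (eo g⁻¹ * eo d⁻¹) := by
        simp only [map_mul, mul_assoc]
    _ = _ := by
        rw [hgd, mul_assoc, mul_assoc, ← mul_assoc (eo g) (eo g⁻¹), eo_mul_inv, one_mul, eo_mul_inv,
          mul_one]

lemma kr_rd {B : GL (Fin k) F} (hB : app B u = u)
    (hB' : ∀ x, S.f u x = 0 → app B x - x ∈ F ∙ u) : S.Rd i u (kr i 1 B) := by
  refine ⟨fun a => by rw [app_kr, map_one, hB]; rfl, fun x hx a => ?_⟩
  obtain ⟨r, hr⟩ := Submodule.mem_span_singleton.1 (hB' x hx)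
  rw [app_kr, map_one, show ((1 : (J k n → F) ≃ₗ[F] (J k n → F)) a) = a from rfl, ← map_sub, ← hr,
    map_smul]
  exact Submodule.smul_mem _ _ (T_mem_Li _ _ _)

lemma eA_rd {z : Fin k → F} (hz : S.f u z = 0) : S.Rd i u (kr i 1 (S.eA u z)) :=
  kr_rd (by rw [S.eA_apply hz]; simp [S.alt, S.zero_comm hz]) fun x hx => by
    rw [S.eA_apply hz, hx, zero_smul, add_zero, add_sub_cancel_left]
    exact Submodule.smul_mem _ _ (Submodule.mem_span_singleton_self u)

lemma kap_eA (huv : S.f u v = 1) {z : Fin k → F} (hz : S.f u z = 0) {x : Fin k → F}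
    (hx : S.f u x = 0) : S.kap i v (kr i 1 (S.eA u z)) x = S.f z x • 1 := LinearMap.ext fun a => by
  rw [kap_apply, app_kr, map_one, S.eA_apply hz, hx, zero_smul, add_zero, map_add, map_smul]
  simp only [LinearEquiv.coe_one, id_eq, add_sub_cancel_left, map_smul, ct_T, S.skew v u, huv,
    LinearMap.smul_apply, Module.End.one_apply, neg_smul, one_smul, smul_neg, neg_neg]

/-- An element of the radical without coefficients is a position element. -/
lemma Rd.eq_bk (hg : S.Rd i u g) (hi : S.Iso (n + 1) g) (huv : S.f u v = 1)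
    (h0 : ∀ x, S.f u x = 0 → S.kap i v g x = 0) :
    eo g = 1 + S.bk i u u (S.kap i v g v) := by
  refine lin_ext i fun a q => ?_
  obtain ⟨w, hw, hq⟩ : ∃ w, S.f u w = 0 ∧ q = w + S.f u q • v :=
    ⟨q - S.f u q • v, by simp [huv], by abel⟩
  rw [hq, map_add, map_add, map_add, map_smul, map_smul, map_smul]
  congr 1
  · rw [eo_apply, hg.app_eq huv hw, h0 w hw, LinearMap.add_apply, Module.End.one_apply, S.bk_T, hw]
    simp
  congr 1
  obtain ⟨b, hb⟩ : app g (T i a v) - T i a v ∈ Li i u := mem_Li_of_ct fun γ hγ => by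
    obtain ⟨x, rfl⟩ := S.exists_rep γ
    refine S.pw_ext fun c => ?_
    rw [S.pw_comm c, LinearMap.map_zero₂, ← Kb_sub_one_apply, hg.adj hi huv (S.zero_comm hγ),
      h0 x (S.zero_comm hγ), LinearMap.zero_apply, LinearMap.map_zero₂, neg_zero, mul_zero]
  have hb' : S.kap i v g v a = b := by
    rw [kap_apply, ← hb]
    show -ct i (S.f v) (T i b u) = b
    rw [ct_T, S.skew, huv, neg_smul, one_smul, neg_neg]
  rw [eo_apply, LinearMap.add_apply, Module.End.one_apply, S.bk_T, huv, one_smul, hb']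
  exact eq_add_of_sub_eq' hb.symm

/-- Two `Λ` factors with independent products. -/
lemma exists_ind_lam (hk : 5 ≤ k) {A : Matrix (Fin k) (Fin k) F} (hA : S.IsLam A) :
    ∃ A', S.Cjg A A' ∧ S.Ind A A' := by
  obtain ⟨b, c, hb, hbc, hc, rfl⟩ := hA
  have hb' : b ∉ F ∙ c := fun hm => by
    obtain ⟨r, hr⟩ := Submodule.mem_span_singleton.1 hm
    by_cases hr0 : r = 0
    · exact hb (by rw [← hr, hr0, zero_smul])
    · exact hc (Submodule.mem_span_singleton.2 ⟨r⁻¹, by
        rw [← hr, smul_smul, inv_mul_cancel₀ hr0, one_smul]⟩)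
  obtain ⟨v, hv, hbv⟩ := S.exists_pair hb'
  have hcv := hv c (Submodule.mem_span_singleton_self c)
  have hcs : c ∉ Submodule.span F ({b, v} : Set (Fin k → F)) := fun hm => by
    obtain ⟨α, β, e⟩ := Submodule.mem_span_pair.1 hm
    have : S.f b c = β := by rw [← e]; simp [S.alt, hbv]
    rw [hbc] at this
    rw [← this, zero_smul, add_zero] at e
    exact hc (Submodule.mem_span_singleton.2 ⟨α, e⟩)
  obtain ⟨c', hc', hcc'⟩ := S.exists_pair hcs
  have hbc' := hc' b (Submodule.subset_span (by simp))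
  have hvc' := hc' v (Submodule.subset_span (by simp))
  obtain ⟨z, hz0, hzb, hzv, hzc, hzc'⟩ : ∃ z, z ≠ 0 ∧ S.f b z = 0 ∧ S.f v z = 0 ∧ S.f c z = 0 ∧
      S.f c' z = 0 := by
    let Φ : (Fin k → F) →ₗ[F] (Fin 4 → F) := LinearMap.pi fun j => S.f (![b, v, c, c'] j)
    have : LinearMap.ker Φ ≠ ⊥ := fun h => by
      have := LinearMap.finrank_le_finrank_of_injective (LinearMap.ker_eq_bot.1 h)
      simp at this
      omega
    obtain ⟨z, hz, hz0⟩ := (Submodule.ne_bot_iff _).1 this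
    rw [LinearMap.mem_ker] at hz
    exact ⟨z, hz0, congrFun hz 0, congrFun hz 1, congrFun hz 2, congrFun hz 3⟩
  set B₁ := S.tr v (-1) with hB₁
  set B₂ := S.eA c' z with hB₂
  have hB : B₂ * B₁ ∈ S.spGen := mul_mem (S.eA_mem _ _) (S.tr_mem _ _)
  have e1 : app (B₂ * B₁) b = b + v := by
    rw [map_mul, LinearEquiv.mul_apply, hB₁, S.tr_apply, S.skew v b, hbv, hB₂, S.eA_apply hzc']
    simp [S.skew z b, S.skew z v, hzb, hzv, S.skew c' b, S.skew c' v, hbc', hvc']
  have e2 : app (B₂ * B₁) c = c - z := by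
    rw [map_mul, LinearEquiv.mul_apply, hB₁, S.tr_apply, S.zero_comm hcv, hB₂, S.eA_apply hzc']
    simp [S.skew z c, hzc, S.skew c' c, hcc', sub_eq_add_neg]
  refine ⟨S.mx (b + v) (c - z) - S.mx (c - z) (b + v),
    ⟨_, hB, by rw [mul_sub, sub_mul, S.mx_conj hB, S.mx_conj hB, e1, e2]⟩, c, c - z,
    fun e => hc (e ▸ zero_mem _), fun hm => ?_, -1, 1, by simp, one_ne_zero, ?_, ?_⟩
  · obtain ⟨r, hr⟩ := Submodule.mem_span_singleton.1 hm
    have h1 := congrArg (fun q => S.f c' q) hr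
    simp [hzc', S.skew c' c, hcc'] at h1
    rw [h1, one_smul, eq_comm, sub_eq_self] at hr
    exact hz0 hr
  · simp [sub_mul, mul_sub, S.mx_mul, map_add, map_sub, S.alt, hbc, hbv, hcv, hzb, hzc,
      S.zero_comm hbc]
  · simp [sub_mul, mul_sub, S.mx_mul, map_add, map_sub, S.alt, hbc, S.skew v b, hbv,
      S.zero_comm hbc, S.zero_comm hcv, S.zero_comm hzb, S.zero_comm hzc]

lemma Ovg.kr_mem {M : Subgroup (GL (J k (n + 1)) F)} (h : S.Ovg M) (i : Fin (n + 1))
    {B : GL (Fin k) F} (hB : B ∈ S.spGen) : kr i 1 B ∈ M := h.roots.kr_mem i hB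

variable [Fintype F]

/-- The coefficients are scalar when they are pure in the position factor. -/
theorem Ovg.pure_scalar (hR : Reg F k) {M : Subgroup (GL (J k (n + 1)) F)} (hM : S.Ovg M) {g : GL (J k (n + 1)) F} (hgM : g ∈ M)
    (hg : S.Rd i u g) (huv : S.f u v = 1) {x₁ : Fin k → F} (hx₁ : S.f u x₁ = 0) (hx₁' : x₁ ∉ F ∙ u)
    {K : Module.End F (J k n → F)} (hK : ∀ x, S.f u x = 0 → S.kap i v g x = S.f x₁ x • K) :
    ∃ r : F, K = r • 1 := by
  classical
  by_contra! hns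
  have hk3 : 3 ≤ k := by
    by_contra hk
    have hk2 : k = 2 := by have := hR.two_le; omega
    exact not_isLam_two (S := S) hk2 ⟨u, x₁, fun e => by simp [e] at huv, hx₁, hx₁', rfl⟩
  have hk0 : 0 < k := by omega
  let 𝒯 : (Fin k → F) → AddSubgroup (Module.End F (J k n → F)) := fun w =>
    { carrier := {K | ∃ g ∈ M, S.Rd i u g ∧ ∀ x, S.f u x = 0 → S.kap i v g x = S.f w x • K}
      zero_mem' := ⟨1, one_mem M, ⟨fun a => by simp, fun x _ a => by simp⟩, fun x _ =>
        LinearMap.ext fun a => by simp [kap_apply]⟩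
      add_mem' := by
        rintro K K' ⟨g, hg, h1, h2⟩ ⟨g', hg', h1', h2'⟩
        exact ⟨g * g', mul_mem hg hg', h1.mul h1', fun x hx => by
          rw [h1.kap_mul h1' huv hx, h2 x hx, h2' x hx, smul_add]⟩
      neg_mem' := by
        rintro K ⟨g, hg, h1, h2⟩
        exact ⟨g⁻¹, inv_mem hg, h1.inv, fun x hx => by rw [h1.kap_inv huv hx, h2 x hx, smul_neg]⟩ }
  obtain ⟨d, A, hd, hA, ⟨j₀, hj₀⟩, hAm⟩ := S.exists_pattern hR (𝒯 x₁) (fun m e j B hB K' hK' => by
    cases e
    obtain ⟨h, hhM, h1, h2⟩ := hK'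
    set G := kr (i.succAbove j) (1 : GL (J k (m + 1)) F) B
    have hG : ∀ a q, app G (T i a q) = T i (app (kr j 1 B) a) q := fun a q => kr_nested i j B a q
    have hG' : ∀ a q, app G⁻¹ (T i a q) = T i (app (kr j 1 B)⁻¹ a) q := fun a q => by
      conv_lhs => rw [← app_app_inv (kr j 1 B) a, ← hG, app_inv_app]
    have hGM : G ∈ M := hM.kr_mem _ hB
    have happ : ∀ x, S.f u x = 0 → ∀ a, app (G * h * G⁻¹) (T i a x) =
        T i a x + S.f x₁ x • T i (cj (kr j 1 B) K' a) u := fun x hx a => by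
      rw [map_mul, map_mul, LinearEquiv.mul_apply, LinearEquiv.mul_apply, hG', h1.app_eq huv hx,
        map_add, hG, hG, app_app_inv, h2 x hx, LinearMap.smul_apply, map_smul, map_smul,
        LinearMap.smul_apply, cj_apply]
    have hrd : S.Rd i u (G * h * G⁻¹) := ⟨fun a => by
      rw [map_mul, map_mul, LinearEquiv.mul_apply, LinearEquiv.mul_apply, hG', h1.1, hG, app_app_inv],
      fun x hx a => by rw [happ x hx, add_sub_cancel_left]; exact Submodule.smul_mem _ _ (T_mem_Li _ _ _)⟩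
    refine ⟨_, mul_mem (mul_mem hGM hhM) (inv_mem hGM), hrd, fun x hx => LinearMap.ext fun a => ?_⟩
    rw [kap_apply, happ x hx, add_sub_cancel_left, map_smul, ct_T, S.skew v u, huv,
      LinearMap.smul_apply, neg_smul, one_smul, smul_neg, neg_neg]) K ⟨g, hgM, hg, hK⟩ hns
  have hA0 : ∀ i, A i ≠ 0 := fun i => (hA i).ne_zero hk0
  have hsq : ∀ (B : Fin n → Matrix (Fin k) (Fin k) F) (d : F), d ≠ 0 → B j₀ * B j₀ = 0 →
      (∀ i, B i ≠ 0) → ∀ r : F, d • pur B ≠ r • 1 := fun B d hd hB hB0 r e => by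
    have h1 := patM_sq hB d
    rw [e, smul_mul_smul_comm, one_mul] at h1
    have h2 : r = 0 := by
      by_contra hr
      have h3 := congrArg ((r * r)⁻¹ • ·) h1
      simp only [smul_smul, inv_mul_cancel₀ (mul_ne_zero hr hr), one_smul, smul_zero] at h3
      exact pur_ne_zero hB0 (by rw [← mul_one (pur B), h3, mul_zero])
    rw [h2, zero_smul] at e
    exact (smul_eq_zero.1 e).elim hd (pur_ne_zero hB0)
  -- the factor is skew
  set ε : Fin n → F := fun i => if S.IsSm (A i) then (-1 : F) else 1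
  have hε : ∀ x y, S.pw n (pur A x) y = (∏ i, ε i) * S.pw n x (pur A y) := S.pw_pur fun i u v => by
    simp only [ε]
    split_ifs with h
    · obtain ⟨b, -, hb⟩ := h
      rw [hb]; exact S.sgn_mx b u v
    · rcases hA i with h1 | h1 | ⟨b, c, -, -, -, h1⟩
      · simp [h1]
      · exact absurd h1 h
      · rw [h1]; exact S.sgn_lam b c u v
  obtain ⟨h, hhM, hh1, hh2⟩ := hAm
  obtain ⟨x₂, hx₂u, hx₂⟩ := S.exists_pair hx₁'
  have hx₂0 : S.f u x₂ = 0 := hx₂u u (Submodule.mem_span_singleton_self u)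
  have hKb : S.Kb i x₂ v (eo h - 1) = (-(d * ∏ i, ε i)) • pur A := LinearMap.ext fun a =>
    S.pw_ext fun b => by
      rw [S.pw_comm b, hh1.adj (hM.iso h hhM) huv hx₂0, hh2 x₂ hx₂0, hx₂, one_smul,
        LinearMap.smul_apply, map_smul, LinearMap.smul_apply, hε, LinearMap.smul_apply,
        S.pw_comm b ((-(d * ∏ i, ε i)) • pur A a), map_smul, smul_eq_mul, smul_eq_mul]
      ring
  have hprod : ∏ i, ε i = -1 := by
    have hm := comm_rd (S := S) hhM (hM.kr_mem i (S.eA_mem u x₂)) hh1 (eA_rd hx₂0) (hM.iso h hhM)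
      (hM.iso _ (hM.kr_mem i (S.eA_mem u x₂))) huv hx₂0 (S₂ := 1) (S₂' := 1)
      (fun x hx => kap_eA huv hx₂0 hx) (fun a b => rfl)
    rw [mul_one, one_mul, hh2 x₂ hx₂0, hx₂, one_smul, hKb,
      show d • pur A - (-(d * ∏ i, ε i)) • pur A = (d * (1 + ∏ i, ε i)) • pur A from
        LinearMap.ext fun z => funext fun a => by simp; ring] at hm
    obtain ⟨r, hr⟩ := hM.scal i u _ (fun e => by simp [e] at huv) hm
    by_contra hne
    refine hsq A _ (fun e => ?_) ((hA j₀).sq hj₀) hA0 r hr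
    have : d * (1 + ∏ i, ε i) = 0 := e
    exact hne (eq_neg_of_add_eq_zero_right ((mul_eq_zero.1 this).resolve_left hd))
  -- a conjugate factor
  have key : ∀ p, ∃ A' E E', ∃ r r' : F, S.Cjg (A p) A' ∧ r ≠ 0 ∧ r' ≠ 0 ∧
      A p * A' = r • E ∧ A' * A p = r' • E' ∧ E ≠ 0 ∧
      ((S.IsSm (A p) ∨ ((2 : F) = 0 ∧ A p ≠ 1)) →
        ∃ b w, b ≠ 0 ∧ w ∉ F ∙ b ∧ E = S.mx b w ∧ E' = S.mx w b) := by
    intro p
    have mk : ∀ A', S.Cjg (A p) A' → S.Ind (A p) A' → ∃ A' E E', ∃ r r' : F, S.Cjg (A p) A' ∧ r ≠ 0 ∧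
        r' ≠ 0 ∧ A p * A' = r • E ∧ A' * A p = r' • E' ∧ E ≠ 0 ∧
        ((S.IsSm (A p) ∨ ((2 : F) = 0 ∧ A p ≠ 1)) →
          ∃ b w, b ≠ 0 ∧ w ∉ F ∙ b ∧ E = S.mx b w ∧ E' = S.mx w b) := by
      rintro A' hc ⟨b, w, hb, hw, r, r', hr, hr', e, e'⟩
      exact ⟨A', _, _, r, r', hc, hr, hr', e, e', mx_ne_zero hb (fun h0 => hw (h0 ▸ zero_mem _)),
        fun _ => ⟨b, w, hb, hw, rfl, rfl⟩⟩
    by_cases hs : S.IsSm (A p)
    · obtain ⟨A', hc, hi⟩ := exists_ind (S := S) hs (.inl hs)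
      exact mk A' hc hi
    rcases hA p with h1 | h1 | h1
    · exact ⟨1, 1, 1, 1, 1, h1 ▸ cjg_refl (S := S) 1, one_ne_zero, one_ne_zero, by simp [h1],
        by simp [h1], fun e => hA0 p (h1.trans e),
        fun h => absurd h (by rintro (h | ⟨-, h⟩) <;> contradiction)⟩
    · exact absurd h1 hs
    · by_cases h2 : (2 : F) = 0
      · have h5 : 5 ≤ k := by rcases hR with ⟨h, -⟩ | ⟨-, h⟩ <;> [exact absurd h2 h; omega]
        obtain ⟨A', hc, hi⟩ := exists_ind_lam (S := S) h5 h1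
        exact mk A' hc hi
      · obtain ⟨A', E, hc, hE, ⟨-, r, r', hr, hr', e, e'⟩, -, -⟩ := exists_deg (S := S) h1
        exact ⟨A', E, E, r, r', hc, hr, hr', e, e', IsPat.ne_zero (S := S) hk0 (.inr (.inl hE)),
          fun h => absurd h (by rintro (h | ⟨h, -⟩) <;> contradiction)⟩
  choose A' E E' r r' hcj hr hr' he he' hE0 hind using key
  obtain ⟨j, b, w, hb, hw, hEj, hE'j⟩ : ∃ j b w, b ≠ 0 ∧ w ∉ F ∙ b ∧ E j = S.mx b w ∧
      E' j = S.mx w b := by
    by_cases h2 : (2 : F) = 0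
    · exact ⟨j₀, hind j₀ (.inr ⟨h2, hj₀⟩)⟩
    · obtain ⟨j, hj⟩ : ∃ j, S.IsSm (A j) := by
        by_contra! hall
        simp only [ε, hall, if_false, Finset.prod_const_one] at hprod
        exact h2 (by linear_combination hprod)
      exact ⟨j, hind j (.inl hj)⟩
  -- the conjugate in the radical
  choose B hB heB using hcj
  set Bx := S.tr (x₂ - x₁) (-(S.f x₁ x₂)⁻¹) with hBx
  have hBx₁ : app Bx x₁ = x₂ := by
    rw [hBx, S.tr_apply, map_sub, LinearMap.sub_apply, S.alt, S.skew x₂ x₁, hx₂]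
    simp
  have hBxu : app Bx u = u := by
    rw [hBx, S.tr_apply, map_sub, LinearMap.sub_apply, S.zero_comm hx₁, S.zero_comm hx₂0]
    simp
  have step : ∀ (s : Finset (Fin n)), ∃ h ∈ M, S.Rd i u h ∧
      ∀ x, S.f u x = 0 → S.kap i v h x = S.f x₁ x • d • pur (s.piecewise A' A) := by
    intro s
    induction s using Finset.induction with
    | empty => exact ⟨h, hhM, hh1, by simpa using hh2⟩
    | @insert p s hp ih =>
      obtain ⟨h, hhM, h1, h2⟩ := ih
      cases n with
      | zero => exact p.elim0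
      | succ m =>
        set G := kr (i.succAbove p) (1 : GL (J k (m + 1)) F) (B p)
        have hG : ∀ a q, app G (T i a q) = T i (app (kr p 1 (B p)) a) q :=
          fun a q => kr_nested i p (B p) a q
        have hG' : ∀ a q, app G⁻¹ (T i a q) = T i (app (kr p 1 (B p))⁻¹ a) q := fun a q => by
          conv_lhs => rw [← app_app_inv (kr p 1 (B p)) a, ← hG, app_inv_app]
        have hGM : G ∈ M := hM.kr_mem _ (hB p)
        have happ : ∀ x, S.f u x = 0 → ∀ a, app (G * h * G⁻¹) (T i a x) =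
            T i a x + S.f x₁ x • T i (cj (kr p 1 (B p)) (d • pur (s.piecewise A' A)) a) u :=
          fun x hx a => by
          rw [map_mul, map_mul, LinearEquiv.mul_apply, LinearEquiv.mul_apply, hG', h1.app_eq huv hx,
            map_add, hG, hG, app_app_inv, h2 x hx, LinearMap.smul_apply, map_smul, map_smul,
            LinearMap.smul_apply, cj_apply]
        have hrd : S.Rd i u (G * h * G⁻¹) := ⟨fun a => by
          rw [map_mul, map_mul, LinearEquiv.mul_apply, LinearEquiv.mul_apply, hG', h1.1, hG,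
            app_app_inv],
          fun x hx a => by
            rw [happ x hx, add_sub_cancel_left]; exact Submodule.smul_mem _ _ (T_mem_Li _ _ _)⟩
        refine ⟨_, mul_mem (mul_mem hGM hhM) (inv_mem hGM), hrd, fun x hx =>
          LinearMap.ext fun a => ?_⟩
        rw [kap_apply, happ x hx, add_sub_cancel_left, map_smul, ct_T, S.skew v u, huv,
          LinearMap.smul_apply, neg_smul, one_smul, smul_neg, neg_neg, cj_smul, cj_kr_pur,
          Finset.piecewise_eq_of_notMem _ _ _ hp, ← heB, Finset.piecewise_insert]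
  obtain ⟨h', hh'M, hh'1, hh'2⟩ := step Finset.univ
  rw [Finset.piecewise_univ] at hh'2
  set G := kr i (1 : GL (J k n) F) Bx
  have hGM : G ∈ M := hM.kr_mem _ (S.tr_mem _ _)
  have hG : ∀ a q, app G (T i a q) = T i a (app Bx q) := fun a q => by
    rw [app_kr, map_one]; rfl
  have hG' : ∀ a q, app G⁻¹ (T i a q) = T i a (app Bx⁻¹ q) := fun a q => by
    conv_lhs => rw [← app_app_inv Bx q, ← hG, app_inv_app]
  have hBxu' : app Bx⁻¹ u = u := by conv_lhs => rw [← hBxu, app_inv_app]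
  have hperp : ∀ x, S.f u x = 0 → S.f u (app Bx⁻¹ x) = 0 := fun x hx => by
    rw [← S.spGen_iso (S.tr_mem (x₂ - x₁) (-(S.f x₁ x₂)⁻¹)), hBxu, app_app_inv, hx]
  have happ : ∀ x, S.f u x = 0 → ∀ a, app (G * h' * G⁻¹) (T i a x) =
      T i a x + S.f x₂ x • T i ((d • pur A') a) u := fun x hx a => by
    rw [map_mul, map_mul, LinearEquiv.mul_apply, LinearEquiv.mul_apply, hG',
      hh'1.app_eq huv (hperp x hx), map_add, hG, hG, app_app_inv, hh'2 _ (hperp x hx), hBxu,
      LinearMap.smul_apply, map_smul (T i), LinearMap.smul_apply, ← hBx₁]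
    conv_rhs => rw [← app_app_inv Bx x, S.spGen_iso (S.tr_mem _ _), app_app_inv]
  have hrd : S.Rd i u (G * h' * G⁻¹) := ⟨fun a => by
    rw [map_mul, map_mul, LinearEquiv.mul_apply, LinearEquiv.mul_apply, hG', hBxu', hh'1.1, hG, hBxu],
    fun x hx a => by rw [happ x hx, add_sub_cancel_left]; exact Submodule.smul_mem _ _ (T_mem_Li _ _ _)⟩
  have hA' : ∀ p, ∀ u v, S.f (A' p *ᵥ u) v = ε p * S.f u (A' p *ᵥ v) := fun p u v => by
    simp only [heB p, ← Matrix.mulVec_mulVec, ε]
    show S.f (app (B p) (A p *ᵥ app (B p)⁻¹ u)) v =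
      _ * S.f u (app (B p) (A p *ᵥ app (B p)⁻¹ v))
    conv_lhs => rw [← app_app_inv (B p) v, S.spGen_iso (hB p)]
    conv_rhs => rw [← app_app_inv (B p) u, S.spGen_iso (hB p)]
    split_ifs with h
    · obtain ⟨b, -, hb⟩ := h
      rw [hb]; exact S.sgn_mx b _ _
    · rcases hA p with h1 | h1 | ⟨b, c, -, -, -, h1⟩
      · simp [h1]
      · exact absurd h1 h
      · rw [h1]; exact S.sgn_lam b c _ _
  have hadj : ∀ a b, S.pw n ((d • pur A') b) a = S.pw n b ((-d • pur A') a) := fun a b => by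
    simp only [LinearMap.smul_apply, map_smul, S.pw_pur hA', hprod, smul_eq_mul]
    ring
  have hm := comm_rd (S := S) hhM (mul_mem (mul_mem hGM hh'M) (inv_mem hGM)) hh1 hrd (hM.iso h hhM)
    (hM.iso _ (mul_mem (mul_mem hGM hh'M) (inv_mem hGM))) huv hx₂0 (S₂ := d • pur A')
    (S₂' := -d • pur A') (fun x hx => LinearMap.ext fun a => by
      rw [kap_apply, happ x hx, add_sub_cancel_left, map_smul, ct_T, S.skew v u, huv,
        LinearMap.smul_apply _ (d • pur A'), neg_smul, one_smul, smul_neg, neg_neg]) hadj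
  rw [hh2 x₂ hx₂0, hx₂, one_smul, hKb, hprod, smul_mul_smul_comm, smul_mul_smul_comm, pur_mul,
    pur_mul, show A * A' = fun p => r p • E p from funext he,
    show A' * A = fun p => r' p • E' p from funext he', pur_smul_fun, pur_smul_fun, smul_smul,
    smul_smul, sub_eq_add_neg, ← neg_smul] at hm
  obtain ⟨s, hs⟩ := hM.scal i u _ (fun e => by simp [e] at huv) hm
  -- two vectors in position `j`
  cases n with
  | zero => exact j.elim0
  | succ m =>
    obtain ⟨z, hz, hbz, hwz⟩ : ∃ z, z ≠ 0 ∧ S.f b z = 0 ∧ S.f w z = 0 := by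
      let Φ : (Fin k → F) →ₗ[F] (Fin 2 → F) := LinearMap.pi fun p => S.f (![b, w] p)
      have : LinearMap.ker Φ ≠ ⊥ := fun h => by
        have := LinearMap.finrank_le_finrank_of_injective (LinearMap.ker_eq_bot.1 h)
        simp at this
        omega
      obtain ⟨z, hz, hz0⟩ := (Submodule.ne_bot_iff _).1 this
      rw [LinearMap.mem_ker] at hz
      exact ⟨z, hz0, congrFun hz 0, congrFun hz 1⟩
    obtain ⟨y, hy, hwy⟩ := S.exists_pair hw
    have hby := hy b (Submodule.mem_span_singleton_self b)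
    have : Nonempty (J k m) := ⟨fun _ => ⟨0, hk0⟩⟩
    obtain ⟨a, ha⟩ := exists_ne (0 : J k m → F)
    have e1 := LinearMap.congr_fun hs (T j a z)
    simp [pur_T, hEj, hE'j, S.mx_mulVec, hbz, hwz] at e1
    have hs0 : s = 0 := (smul_eq_zero.1 e1.symm).resolve_right fun e => (C7.T_eq_zero e).elim ha hz
    refine pur_ne_zero (fun p => hE0 (j.succAbove p)) (LinearMap.ext fun a => ?_)
    have e2 := LinearMap.congr_fun hs (T j a y)
    simp [pur_T, hEj, hE'j, S.mx_mulVec, hby, hwy, hs0] at e2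
    refine (C7.T_eq_zero (e2.resolve_left ?_)).resolve_right hb
    exact not_or.2 ⟨hd, Finset.prod_ne_zero_iff.2 fun p _ => hr p⟩

omit [Fintype F] in
/-- The commutator with a transvection fixing `u` has a pure coefficient. -/
lemma Rd.comm_tr (hg : S.Rd i u g) (huv : S.f u v = 1) {y : Fin k → F} (hy : S.f u y = 0) :
    S.Rd i u (kr i 1 (S.tr y 1) * g * (kr i 1 (S.tr y 1))⁻¹ * g⁻¹) ∧
      ∀ x, S.f u x = 0 → S.kap i v (kr i 1 (S.tr y 1) * g * (kr i 1 (S.tr y 1))⁻¹ * g⁻¹) x =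
        S.f y x • (-S.kap i v g y) := by
  set G := kr i (1 : GL (J k n) F) (S.tr y 1)
  have hyu : S.f y u = 0 := S.zero_comm hy
  have hG : ∀ a q, app G (T i a q) = T i a (app (S.tr y 1) q) := fun a q => by
    rw [app_kr, map_one]; rfl
  have hG' : ∀ a q, app G⁻¹ (T i a q) = T i a (app (S.tr y (-1)) q) := fun a q => by
    rw [← S.tr_inv]
    conv_lhs => rw [← app_app_inv (S.tr y 1) q, ← hG, app_inv_app]
  have hGu : app (S.tr y 1) u = u := by rw [S.tr_apply, hyu]; simp
  have hperp : ∀ x, S.f u x = 0 → S.f u (app (S.tr y (-1)) x) = 0 := fun x hx => by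
    rw [S.tr_apply, map_add, map_smul, hx, hy]; simp
  have happ : ∀ x, S.f u x = 0 → ∀ a, app (G * g * G⁻¹) (T i a x) =
      T i a x + T i (S.kap i v g (app (S.tr y (-1)) x) a) u := fun x hx a => by
    rw [map_mul, map_mul, LinearEquiv.mul_apply, LinearEquiv.mul_apply, hG',
      hg.app_eq huv (hperp x hx), map_add, hG, hG, hGu, ← LinearEquiv.mul_apply, ← map_mul,
      ← S.tr_inv, mul_inv_cancel, map_one]
    rfl
  have hrd : S.Rd i u (G * g * G⁻¹) := ⟨fun a => by
    rw [map_mul, map_mul, LinearEquiv.mul_apply, LinearEquiv.mul_apply, hG', S.tr_apply, hyu,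
      mul_zero, zero_smul, add_zero, hg.1, hG, hGu],
    fun x hx a => by rw [happ x hx, add_sub_cancel_left]; exact T_mem_Li _ _ _⟩
  refine ⟨hrd.mul hg.inv, fun x hx => ?_⟩
  rw [hrd.kap_mul hg.inv huv hx, hg.kap_inv huv hx, show S.kap i v (G * g * G⁻¹) x =
    S.kap i v g (app (S.tr y (-1)) x) from LinearMap.ext fun a => by
      rw [kap_apply, happ x hx, add_sub_cancel_left, ct_T, S.skew v u, huv, neg_smul, one_smul,
        neg_neg], S.tr_apply, kap_add, kap_smul]
  module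

omit [Fintype F] in
/-- Scalar coefficients are those of some `eA u z`. -/
lemma Rd.exists_eA (hg : S.Rd i u g) (huv : S.f u v = 1) (hk : 0 < k)
    (hsc : ∀ y, S.f u y = 0 → ∃ r : F, S.kap i v g y = r • 1) :
    ∃ z, S.f u z = 0 ∧ ∀ x, S.f u x = 0 →
      S.kap i v ((kr i (1 : GL (J k n) F) (S.eA u z))⁻¹ * g) x = 0 := by
  let a₀ : J k n := fun _ => ⟨0, hk⟩
  let φ : (Fin k → F) →ₗ[F] F :=
    { toFun := fun q => S.kap i v g (q - S.f u q • v) (Pi.single a₀ 1) a₀
      map_add' := fun q q' => by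
        rw [map_add, add_smul, show q + q' - (S.f u q • v + S.f u q' • v) =
          (q - S.f u q • v) + (q' - S.f u q' • v) by abel, kap_add]
        rfl
      map_smul' := fun r q => by
        rw [map_smul, smul_eq_mul, ← smul_smul, ← smul_sub, kap_smul]
        rfl }
  obtain ⟨z, hz⟩ := S.exists_rep φ
  have hzu : S.f u z = 0 := S.zero_comm (by
    rw [hz]
    show S.kap i v g (u - S.f u u • v) (Pi.single a₀ 1) a₀ = 0
    rw [S.alt, zero_smul, sub_zero, hg.kap_u]; rfl)
  refine ⟨z, hzu, fun x hx => ?_⟩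
  have hA : S.Rd i u (kr i (1 : GL (J k n) F) (S.eA u z)) := eA_rd hzu
  rw [hA.inv.kap_mul hg huv hx, hA.kap_inv huv hx, kap_eA huv hzu hx]
  obtain ⟨r, hr⟩ := hsc x hx
  rw [hr, hz, show φ x = r by
    show S.kap i v g (x - S.f u x • v) (Pi.single a₀ 1) a₀ = r
    simp [hx, hr], neg_add_cancel]

/-- Elements of `M` in the radical are `1 ⊗ B`. -/
theorem Ovg.exists_of_rd (hR : Reg F k) {M : Subgroup (GL (J k (n + 1)) F)} (hM : S.Ovg M)
    {g : GL (J k (n + 1)) F} (hgM : g ∈ M) (hg : S.Rd i u g) (hu : u ≠ 0) :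
    ∃ B ∈ S.spGen, app B u = u ∧ g = kr i 1 B := by
  obtain ⟨v, huv⟩ := S.exists_dual hu
  have hsc : ∀ y, S.f u y = 0 → ∃ r : F, S.kap i v g y = r • 1 := by
    intro y hy
    by_cases hys : y ∈ F ∙ u
    · obtain ⟨r, rfl⟩ := Submodule.mem_span_singleton.1 hys
      exact ⟨0, by rw [kap_smul, hg.kap_u, smul_zero, zero_smul]⟩
    have hGM : kr i (1 : GL (J k n) F) (S.tr y 1) ∈ M := hM.kr_mem i (S.tr_mem y 1)
    obtain ⟨hrd, hk'⟩ := hg.comm_tr huv hy
    obtain ⟨r, hr⟩ := hM.pure_scalar hR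
      (mul_mem (mul_mem (mul_mem hGM hgM) (inv_mem hGM)) (inv_mem hgM)) hrd huv hy hys hk'
    exact ⟨-r, (neg_eq_iff_eq_neg.1 hr).trans (LinearMap.ext fun a => funext fun c => by simp)⟩
  obtain ⟨z, hzu, h0⟩ := hg.exists_eA huv (by have := hR.two_le; omega) hsc
  set A := kr i (1 : GL (J k n) F) (S.eA u z)
  have hAM : A ∈ M := hM.kr_mem i (S.eA_mem u z)
  have hA : S.Rd i u A := eA_rd hzu
  have he := (hA.inv.mul hg).eq_bk (hM.iso _ (mul_mem (inv_mem hAM) hgM)) huv h0
  obtain ⟨c, hc⟩ := hM.scal i u _ hu ⟨_, mul_mem (inv_mem hAM) hgM, he⟩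
  rw [hc, S.bk_smul, ← S.eo_kr_tr] at he
  refine ⟨S.eA u z * S.tr u c, mul_mem (S.eA_mem u z) (S.tr_mem u c), ?_, ?_⟩
  · rw [map_mul, LinearEquiv.mul_apply, S.tr_apply, S.alt, mul_zero, zero_smul, add_zero,
      S.eA_apply hzu]
    simp [S.alt, S.zero_comm hzu]
  · rw [show g = A * (A⁻¹ * g) by group, eo_inj he, C7.kr_mul, one_mul]

end Sf

end Cfsg.Agent.C7S
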