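import Cfsg.Agent.Lib.C7S.Elem
import Cfsg.Agent.Lib.C4.Scal
import Cfsg.Agent.Lib.C4.SympScalar

/-!
# Additive groups of operators stable under position transvections

The second difference by two commuting transvections of position `j` turns `K` into
`b c^ ⊗ f(b, K c) + c b^ ⊗ f(c, K b)`; iterating gives pure operators whose factors are `1`, `b b^`
(`IsSm`) or `b c^ - c b^` with `b ⊥ c` (`IsLam`).
-/

set_option autoImplicit false
set_option linter.unusedSectionVars false

namespace Cfsg.Agent.C7S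

open Matrix Module Cfsg.Agent.Transvect
open Cfsg.Agent.C7 (J T ct lc ins ct_T lc_T lc_ct lin_ext kr app_kr T_inj_left)
open scoped MatrixGroups

variable {F : Type*} [Field F] {k n : ℕ}

lemma cj_sub {ι : Type} [Fintype ι] [DecidableEq ι] (g : GL ι F) (X Y : Module.End F (ι → F)) :
    cj g (X - Y) = cj g X - cj g Y := by simp [cj, mul_sub, sub_mul]

lemma eo_kr (i : Fin (n + 1)) (B : GL (Fin k) F) :
    eo (kr i (1 : GL (J k n) F) B) = pur (Function.update 1 i (B : Matrix (Fin k) (Fin k) F)) :=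
  lin_ext i fun a q => by
    rw [eo_apply, app_kr, pur_T, Function.update_self]
    rw [show (fun j => Function.update (1 : Fin (n + 1) → Matrix (Fin k) (Fin k) F) i ↑B
      (i.succAbove j)) = fun _ => 1 from funext fun j => by
        rw [Function.update_of_ne (i.succAbove_ne j)]; rfl, pur_one]
    simp

lemma update_succAbove (i : Fin (n + 1)) (j : Fin n) (A : Matrix (Fin k) (Fin k) F) :
    (fun p => Function.update (1 : Fin (n + 1) → Matrix (Fin k) (Fin k) F) (i.succAbove j) A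
      (i.succAbove p)) = Function.update (1 : Fin n → Matrix (Fin k) (Fin k) F) j A := by
  funext p
  by_cases h : p = j
  · rw [h, Function.update_self, Function.update_self]
  · rw [Function.update_of_ne h, Function.update_of_ne fun e => h (Fin.succAbove_right_injective e)]
    rfl

lemma kr_nested (i : Fin (n + 2)) (j : Fin (n + 1)) (B : GL (Fin k) F) (a : J k (n + 1) → F)
    (q : Fin k → F) :
    app (kr (i.succAbove j) (1 : GL (J k (n + 1)) F) B) (T i a q) = T i (app (kr j 1 B) a) q := by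
  rw [← eo_apply, eo_kr, pur_T, update_succAbove, Function.update_of_ne (i.succAbove_ne j).symm,
    Pi.one_apply, Matrix.one_mulVec, ← eo_apply, eo_kr]

namespace Sf

variable (S : Sf F k)

/-- `b b^`. -/
def IsSm (A : Matrix (Fin k) (Fin k) F) : Prop := ∃ b, b ≠ 0 ∧ A = S.mx b b

/-- `b c^ - c b^` with `b ⊥ c` independent. -/
def IsLam (A : Matrix (Fin k) (Fin k) F) : Prop :=
  ∃ b c, b ≠ 0 ∧ S.f b c = 0 ∧ c ∉ F ∙ b ∧ A = S.mx b c - S.mx c b

/-- `1`, `b b^` or `b c^ - c b^`. -/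
def IsPat (A : Matrix (Fin k) (Fin k) F) : Prop := A = 1 ∨ S.IsSm A ∨ S.IsLam A

/-- `𝒮` is stable under the transvection group of position `j`. -/
def Stable (𝒮 : AddSubgroup (Module.End F (J k (n + 1) → F))) (j : Fin (n + 1)) : Prop :=
  ∀ B ∈ S.spGen, ∀ K ∈ 𝒮, cj (kr j 1 B) K ∈ 𝒮

variable {S} {𝒮 : AddSubgroup (Module.End F (J k (n + 1) → F))} {j : Fin (n + 1)}

/-- The second difference. -/
lemma Stable.pair (h : S.Stable 𝒮 j) {K : Module.End F (J k (n + 1) → F)} (hK : K ∈ 𝒮)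
    {b c : Fin k → F} (hbc : S.f b c = 0) :
    S.bk j b c (S.Kb j b c K) + S.bk j c b (S.Kb j c b K) ∈ 𝒮 := by
  set g := kr j (1 : GL (J k n) F) (S.tr b 1)
  set g' := kr j (1 : GL (J k n) F) (S.tr c 1)
  set D := S.bk j b b 1
  set D' := S.bk j c c 1
  have eg : eo g = 1 + D := by rw [S.eo_kr_tr, one_smul]
  have eg' : eo g' = 1 + D' := by rw [S.eo_kr_tr, one_smul]
  have hDD : D * D = 0 := by rw [S.bk_mul, S.alt, zero_smul]
  have hDD' : D' * D' = 0 := by rw [S.bk_mul, S.alt, zero_smul]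
  have h1 : D * D' = 0 := by rw [S.bk_mul, hbc, zero_smul]
  have h2 : D' * D = 0 := by rw [S.bk_mul, S.zero_comm hbc, zero_smul]
  have hg : cj g K ∈ 𝒮 := h _ (S.tr_mem _ _) K hK
  have hg' : cj g' K ∈ 𝒮 := h _ (S.tr_mem _ _) K hK
  have hgg : cj g (cj g' K) ∈ 𝒮 := h _ (S.tr_mem _ _) _ hg'
  have hmem := 𝒮.sub_mem (𝒮.add_mem hg hg') (𝒮.add_mem hgg hK)
  have e : cj g K + cj g' K - (cj g (cj g' K) + K) = D * K * D' + D' * K * D := by
    have z1 : D' * (K * 0) = 0 := by simp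
    simp only [cj, eo_inv_of_sq eg hDD, eo_inv_of_sq eg' hDD', eg, eg', mul_add, add_mul, mul_sub,
      sub_mul, one_mul, mul_one, ← mul_assoc, h1, h2, zero_mul, sub_zero, zero_sub, add_zero, zero_add]
    simp only [mul_assoc, h1, h2, mul_zero, sub_zero, zero_sub, add_zero, zero_add]
    abel
  rw [e, S.bk_mul_mul, S.bk_mul_mul] at hmem
  exact hmem

/-- A sum at an orthogonal pair moves to one vector. -/
lemma Stable.collapse (h : S.Stable 𝒮 j) {b c : Fin k → F} (hbc : S.f b c = 0) (hc : c ∉ F ∙ b)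
    {U U' : Module.End F (J k n → F)} (hE : S.bk j b c U + S.bk j c b U' ∈ 𝒮) :
    S.bk j b b (U + U') ∈ 𝒮 := by
  obtain ⟨x, hx, hcx⟩ := S.exists_pair hc
  have hbx : S.f b x = 0 := hx b (Submodule.mem_span_singleton_self b)
  have hz : S.f b (-x) = 0 := by rw [map_neg, hbx, neg_zero]
  have h1 := h _ (S.eA_mem b (-x)) _ hE
  have eb : app (S.eA b (-x)) b = b := by
    rw [S.eA_apply hz]; simp [S.alt, S.zero_comm hbx]
  have ec : app (S.eA b (-x)) c = c + b := by
    rw [S.eA_apply hz, map_neg, LinearMap.neg_apply, S.skew x c, hcx, hbc]; simp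
  rw [cj_add, S.cj_bk_kr j (S.eA_mem b (-x)), S.cj_bk_kr j (S.eA_mem b (-x)), eb, ec,
    S.bk_add_right, S.bk_add_left] at h1
  have := 𝒮.sub_mem h1 hE
  rw [S.bk_add]
  convert this using 1
  abel

lemma Stable.sm (h : S.Stable 𝒮 j) {K : Module.End F (J k (n + 1) → F)} (hK : K ∈ 𝒮)
    {b c : Fin k → F} (hbc : S.f b c = 0) (hc : c = b ∨ c ∉ F ∙ b) :
    S.bk j b b (S.Kb j b c K + S.Kb j c b K) ∈ 𝒮 := by
  rcases hc with rfl | hc
  · rw [S.bk_add]; exact h.pair hK hbc
  · exact h.collapse hbc hc (h.pair hK hbc)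

lemma Stable.lam (h : S.Stable 𝒮 j) {K : Module.End F (J k (n + 1) → F)} (hK : K ∈ 𝒮)
    {b c : Fin k → F} (hbc : S.f b c = 0) (hneg : S.Kb j c b K = -S.Kb j b c K) :
    S.bk j b c (S.Kb j b c K) - S.bk j c b (S.Kb j b c K) ∈ 𝒮 := by
  have := h.pair hK hbc
  rwa [hneg, S.bk_neg, ← sub_eq_add_neg] at this

end Sf

variable [Fintype F]

/-- An orthogonal vector outside the line. -/
lemma Sf.exists_orth (S : Sf F k) (hk : 3 ≤ k) (b : Fin k → F) :
    ∃ c, S.f b c = 0 ∧ c ∉ F ∙ b := by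
  by_contra! hall
  have hle : LinearMap.ker (S.f b) ≤ F ∙ b := fun c hc => hall c hc
  have h1 := Submodule.finrank_mono hle
  have h2 := (S.f b).finrank_range_add_finrank_ker
  have h3 := Submodule.finrank_le (LinearMap.range (S.f b))
  have h4 := finrank_span_le_card (R := F) ({b} : Set (Fin k → F))
  rw [Module.finrank_fin_fun] at h2
  rw [Module.finrank_self] at h3
  simp at h4
  omega

/-- If the symmetrised pairings at orthogonal pairs vanish and so do the plain ones at independent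
orthogonal pairs, they all vanish. -/
lemma Sf.orth_zero (S : Sf F k) (hR : Reg F k) {E : Type*} [AddCommGroup E] [Module F E]
    (Φ : (Fin k → F) → (Fin k → F) → E) (hadd : ∀ x y z, Φ x (y + z) = Φ x y + Φ x z)
    (hsm : ∀ (x y : Fin k → F) (r : F), Φ x (r • y) = r • Φ x y)
    (h1 : ∀ b, Φ b b + Φ b b = 0) (h2 : ∀ b c, S.f b c = 0 → c ∉ F ∙ b → Φ b c = 0)
    (b c : Fin k → F) (hbc : S.f b c = 0) : Φ b c = 0 := by
  by_cases hc : c ∈ F ∙ b
  swap
  · exact h2 b c hbc hc
  obtain ⟨r, rfl⟩ := Submodule.mem_span_singleton.1 hc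
  suffices hb : Φ b b = 0 by rw [hsm, hb, smul_zero]
  by_cases h2' : (2 : F) = 0
  · have hk : 3 ≤ k := by rcases hR with ⟨h, -⟩ | ⟨-, h⟩ <;> [exact absurd h2' h; omega]
    obtain ⟨c', hc', hc''⟩ := S.exists_orth hk b
    have h3 := h2 b c' hc' hc''
    have h4 := h2 b (b + c') (by simp [S.alt, hc']) fun hm => hc'' (by
      simpa using Submodule.sub_mem _ hm (Submodule.mem_span_singleton_self b))
    rwa [hadd, h3, add_zero] at h4
  · have := h1 b
    rw [← two_smul F] at this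
    exact (smul_eq_zero.1 this).resolve_left h2'

/-- An endomorphism preserving the orthogonal pairs is scalar. -/
lemma Sf.scalar_of_orth (S : Sf F k) (B : (Fin k → F) →ₗ[F] (Fin k → F))
    (h : ∀ x y, S.f x y = 0 → S.f x (B y) = 0) : ∃ r : F, B = r • LinearMap.id := by
  refine C4.scalar_of_lines B fun y => ?_
  by_contra hn
  obtain ⟨x, hx, hy⟩ := S.exists_pair hn
  have := h x y (S.zero_comm (hx y (Submodule.mem_span_singleton_self y)))
  rw [S.skew, hy] at this
  exact neg_ne_zero.2 one_ne_zero this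

/-- An operator pairing trivially at orthogonal pairs is `1 ⊗ U`. -/
lemma Sf.eq_id_of_Kb (S : Sf F k) (hk : 0 < k) {j : Fin (n + 1)}
    {K : Module.End F (J k (n + 1) → F)} (h : ∀ x y, S.f x y = 0 → S.Kb j x y K = 0) :
    ∃ U : Module.End F (J k n → F), ∀ a q, K (T j a q) = T j (U a) q := by
  obtain ⟨e, he⟩ : ∃ e : Fin k → F, e ≠ 0 := ⟨Pi.single ⟨0, hk⟩ 1, by simp⟩
  obtain ⟨e', hee⟩ := S.exists_dual he
  refine ⟨S.Kb j e e' K, fun a q => sub_eq_zero.1 (S.eq_zero_of_ct (i := j) fun w => ?_)⟩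
  rw [map_sub, ct_T, sub_eq_zero]
  refine sub_eq_zero.1 ?_
  by_contra hne
  obtain ⟨ψ, hψ⟩ := C7.exists_dual hne
  set B : (Fin k → F) →ₗ[F] (Fin k → F) := lc j ψ ∘ₗ K ∘ₗ T j a with hB
  have hB' : ∀ x y, S.f x (B y) = ψ (S.Kb j x y K a) := fun x y => lc_ct _ _ _ _
  obtain ⟨r, hr⟩ := S.scalar_of_orth B fun x y hxy => by rw [hB', h x y hxy, LinearMap.zero_apply, map_zero]
  have e1 := hB' w q
  have e2 := hB' e e'
  rw [hr, LinearMap.smul_apply, LinearMap.id_apply, map_smul, smul_eq_mul] at e1 e2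
  rw [hee, mul_one] at e2
  rw [map_sub, map_smul, show ct j (S.f w) (K (T j a q)) = S.Kb j w q K a from rfl, ← e1, ← e2,
    smul_eq_mul, mul_comm (S.f w q), sub_self] at hψ
  exact zero_ne_one hψ

namespace Sf

variable {S : Sf F k} {𝒮 : AddSubgroup (Module.End F (J k (n + 1) → F))} {j : Fin (n + 1)}

/-- The three cases for a member. -/
theorem Stable.cases (h : S.Stable 𝒮 j) (hR : Reg F k) {K : Module.End F (J k (n + 1) → F)}
    (hK : K ∈ 𝒮) :
    (∃ b U, b ≠ 0 ∧ U ≠ 0 ∧ S.bk j b b U ∈ 𝒮) ∨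
    (∃ b c U, b ≠ 0 ∧ S.f b c = 0 ∧ c ∉ F ∙ b ∧ U ≠ 0 ∧ S.bk j b c U - S.bk j c b U ∈ 𝒮) ∨
    ∃ U : Module.End F (J k n → F), ∀ a q, K (T j a q) = T j (U a) q := by
  by_cases h1 : ∃ b c, S.f b c = 0 ∧ (c = b ∨ c ∉ F ∙ b) ∧ S.Kb j b c K + S.Kb j c b K ≠ 0
  · obtain ⟨b, c, hbc, hc, hne⟩ := h1
    refine .inl ⟨b, _, fun hb => hne ?_, hne, h.sm hK hbc hc⟩
    subst hb
    simp [Sf.Kb]
    ext a; simp [show (C7.ct j (0 : (Fin k → F) →ₗ[F] F)) = 0 from LinearMap.ext fun x => C7.ct_zero j x]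
  push Not at h1
  by_cases h2 : ∃ b c, S.f b c = 0 ∧ c ∉ F ∙ b ∧ S.Kb j b c K ≠ 0
  · obtain ⟨b, c, hbc, hc, hne⟩ := h2
    refine .inr (.inl ⟨b, c, _, fun hb => hne ?_, hbc, hc, hne,
      h.lam hK hbc (eq_neg_of_add_eq_zero_right (h1 b c hbc (.inr hc)))⟩)
    subst hb
    ext a; simp [Sf.Kb, show (C7.ct j (0 : (Fin k → F) →ₗ[F] F)) = 0 from LinearMap.ext fun x => C7.ct_zero j x]
  push Not at h2
  refine .inr (.inr (S.eq_id_of_Kb (by have := hR.two_le; omega) fun x y hxy => ?_))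
  exact S.orth_zero hR (fun x y => S.Kb j x y K) (fun x y z => LinearMap.ext fun a => by simp [Sf.Kb])
    (fun x y r => LinearMap.ext fun a => by simp [Sf.Kb]) (fun b => h1 b b (S.alt b) (.inl rfl))
    h2 x y hxy

end Sf

/-- Lifting a factor. -/
lemma pur_cons (i : Fin (n + 1)) (A₀ : Matrix (Fin k) (Fin k) F)
    (A : Fin n → Matrix (Fin k) (Fin k) F) (a : J k n → F) (u : Fin k → F) :
    pur (i.insertNth A₀ A) (T i a u) = T i (pur A a) (A₀ *ᵥ u) := by
  rw [pur_T]; simp

lemma Sf.bk_pur_cons (S : Sf F k) (i : Fin (n + 1)) (b c : Fin k → F)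
    (A : Fin n → Matrix (Fin k) (Fin k) F) :
    S.bk i b c (pur A) = pur (i.insertNth (S.mx b c) A) :=
  lin_ext i fun a u => by rw [pur_cons, S.bk_T, S.mx_mulVec, map_smul]

/-- Some multiple of a pattern which is not the identity. -/
theorem Sf.exists_pattern (S : Sf F k) (hR : Reg F k) :
    ∀ {n : ℕ} (𝒮 : AddSubgroup (Module.End F (J k n → F))),
      (∀ m (e : n = m + 1) (j : Fin (m + 1)), ∀ B ∈ S.spGen, ∀ K ∈ 𝒮,
        cj (e ▸ kr j (1 : GL (J k m) F) B) K ∈ 𝒮) →
      ∀ K ∈ 𝒮, (∀ r : F, K ≠ r • 1) →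
        ∃ (d : F) (A : Fin n → Matrix (Fin k) (Fin k) F),
          d ≠ 0 ∧ (∀ i, S.IsPat (A i)) ∧ (∃ i, A i ≠ 1) ∧ d • pur A ∈ 𝒮 := by
  intro n
  induction n with
  | zero =>
    intro 𝒮 _ K _ hns
    refine absurd (LinearMap.ext fun x => funext fun a => ?_) (hns (K (fun _ => 1) finZeroElim))
    have hx : x = x a • (fun _ => (1 : F)) := funext fun b => by simp [Subsingleton.elim b a]
    conv_lhs => rw [hx, map_smul]
    simp [Subsingleton.elim a finZeroElim, mul_comm]
  | succ n ih =>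
    intro 𝒮 hst K hK hns
    have hst0 : S.Stable 𝒮 0 := hst n rfl 0
    have hone : ∀ b c : Fin k → F, (1 : Matrix (Fin k) (Fin k) F) *ᵥ b = b := fun b _ => Matrix.one_mulVec b
    have hne_one : ∀ {B : Matrix (Fin k) (Fin k) F}, S.IsSm B ∨ S.IsLam B → B ≠ 1 := by
      rintro B (⟨b, hb, rfl⟩ | ⟨b, c, hb, hbc, -, rfl⟩) e
      · refine hb ?_
        have := congrArg (fun M : Matrix (Fin k) (Fin k) F => M *ᵥ b) e
        simpa [S.mx_mulVec, S.alt, eq_comm] using this
      · refine hb ?_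
        have := congrArg (fun M : Matrix (Fin k) (Fin k) F => M *ᵥ b) e
        simpa [Matrix.sub_mulVec, S.mx_mulVec, S.alt, S.zero_comm hbc, eq_comm] using this
    have nest : ∀ (Ψ : Module.End F (J k n → F) →+ Module.End F (J k (n + 1) → F)),
        (∀ (g : GL (J k (n + 1)) F) (g' : GL (J k n) F),
          (∀ a q, app g (T 0 a q) = T 0 (app g' a) q) → ∀ U, cj g (Ψ U) = Ψ (cj g' U)) →
        ∀ m (e : n = m + 1) (j : Fin (m + 1)), ∀ B ∈ S.spGen, ∀ U ∈ 𝒮.comap Ψ,
          cj (e ▸ kr j (1 : GL (J k m) F) B) U ∈ 𝒮.comap Ψ := by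
      intro Ψ hΨ m e j B hB U hU
      subst e
      show Ψ _ ∈ 𝒮
      rw [← hΨ (kr ((0 : Fin (m + 2)).succAbove j) 1 B) (kr j 1 B) (fun a q => kr_nested 0 j B a q)]
      exact hst _ rfl _ B hB _ hU
    have hg_id : ∀ (g : GL (J k (n + 1)) F) (g' : GL (J k n) F),
        (∀ a q, app g (T 0 a q) = T 0 (app g' a) q) → ∀ b c (U : Module.End F (J k n → F)),
          cj g (S.bk 0 b c U) = S.bk 0 b c (cj g' U) := fun g g' hg b c U => by
      rw [S.cj_bk (A := g') (B := 1) (fun a q => by rw [hg, map_one]; rfl) (fun x y => by simp)]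
      simp
    rcases hst0.cases hR hK with ⟨b, U, hb, hU, hmem⟩ | ⟨b, c, U, hb, hbc, hc, hU, hmem⟩ | ⟨U, hU⟩
    · let Ψ : Module.End F (J k n → F) →+ Module.End F (J k (n + 1) → F) :=
        AddMonoidHom.mk' (S.bk 0 b b) (S.bk_add 0 b b)
      by_cases hs : ∃ r : F, U = r • 1
      · obtain ⟨r, rfl⟩ := hs
        refine ⟨r, (0 : Fin (n + 1)).insertNth (S.mx b b) fun _ => 1, fun h => hU (by rw [h, zero_smul]),
          fun i => ?_, ⟨0, by simpa using hne_one (.inl ⟨b, hb, rfl⟩)⟩, ?_⟩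
        · cases i using Fin.cases with
          | zero => exact .inr (.inl ⟨b, hb, by simp⟩)
          | succ i => exact .inl (by simp)
        · rwa [← S.bk_pur_cons, pur_one, ← S.bk_smul]
      push Not at hs
      obtain ⟨d, A, hd, hA, -, hAm⟩ := ih (𝒮.comap Ψ) (nest Ψ fun g g' hg U => hg_id g g' hg b b U) U
        hmem hs
      refine ⟨d, (0 : Fin (n + 1)).insertNth (S.mx b b) A, hd, fun i => ?_,
        ⟨0, by simpa using hne_one (.inl ⟨b, hb, rfl⟩)⟩, ?_⟩
      · cases i using Fin.cases with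
        | zero => exact .inr (.inl ⟨b, hb, by simp⟩)
        | succ i => simpa using hA i
      · rw [← S.bk_pur_cons, ← S.bk_smul]; exact hAm
    · let Ψ : Module.End F (J k n → F) →+ Module.End F (J k (n + 1) → F) :=
        AddMonoidHom.mk' (fun U => S.bk 0 b c U - S.bk 0 c b U) fun U U' => by
          simp only [S.bk_add]; abel
      have hlift : ∀ A : Fin n → Matrix (Fin k) (Fin k) F,
          S.bk 0 b c (pur A) - S.bk 0 c b (pur A) =
            pur ((0 : Fin (n + 1)).insertNth (S.mx b c - S.mx c b) A) := fun A =>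
        lin_ext 0 fun a u => by
          rw [LinearMap.sub_apply, pur_cons, S.bk_T, S.bk_T, Matrix.sub_mulVec, S.mx_mulVec, S.mx_mulVec,
            map_sub, map_smul, map_smul]
      have hlam : S.IsLam (S.mx b c - S.mx c b) := ⟨b, c, hb, hbc, hc, rfl⟩
      by_cases hs : ∃ r : F, U = r • 1
      · obtain ⟨r, rfl⟩ := hs
        refine ⟨r, (0 : Fin (n + 1)).insertNth (S.mx b c - S.mx c b) fun _ => 1,
          fun h => hU (by rw [h, zero_smul]), fun i => ?_, ⟨0, by simpa using hne_one (.inr hlam)⟩, ?_⟩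
        · cases i using Fin.cases with
          | zero => exact .inr (.inr (by simpa using hlam))
          | succ i => exact .inl (by simp)
        · rwa [← hlift, pur_one, smul_sub, ← S.bk_smul, ← S.bk_smul]
      push Not at hs
      obtain ⟨d, A, hd, hA, -, hAm⟩ := ih (𝒮.comap Ψ) (nest Ψ fun g g' hg U => by
        show cj g (S.bk 0 b c U - S.bk 0 c b U) = S.bk 0 b c (cj g' U) - S.bk 0 c b (cj g' U)
        rw [cj_sub, hg_id g g' hg, hg_id g g' hg]) U hmem hs
      refine ⟨d, (0 : Fin (n + 1)).insertNth (S.mx b c - S.mx c b) A, hd, fun i => ?_,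
        ⟨0, by simpa using hne_one (.inr hlam)⟩, ?_⟩
      · cases i using Fin.cases with
        | zero => exact .inr (.inr (by simpa using hlam))
        | succ i => simpa using hA i
      · rw [← hlift, smul_sub, ← S.bk_smul, ← S.bk_smul]; exact hAm
    · let L : Module.End F (J k n → F) →+ Module.End F (J k (n + 1) → F) :=
        AddMonoidHom.mk' (fun U => ∑ c, (T 0).flip (Pi.single c 1) ∘ₗ U ∘ₗ ct 0 (LinearMap.proj c))
          fun U U' => by
            rw [← Finset.sum_add_distrib]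
            exact Finset.sum_congr rfl fun c _ => LinearMap.ext fun x => by simp
      have hL : ∀ U a q, L U (T 0 a q) = T 0 (U a) q := fun U a q => by
        show (∑ c, (T 0).flip (Pi.single c 1) ∘ₗ U ∘ₗ ct 0 (LinearMap.proj c)) (T 0 a q) = _
        conv_rhs => rw [pi_eq_sum_univ' q, map_sum]
        simp
      have hKL : K = L U := lin_ext 0 fun a q => by rw [hU, hL]
      have hns' : ∀ r : F, U ≠ r • 1 := fun r hr => hns r (lin_ext 0 fun a q => by
        rw [hU, hr]; simp)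
      obtain ⟨d, A, hd, hA, ⟨i, hi⟩, hAm⟩ := ih (𝒮.comap L) (nest L fun g g' hg U => by
        have e : eo g * L U = L (cj g' U) * eo g := lin_ext 0 fun a q => by
          simp only [Module.End.mul_apply, eo_apply, hL, hg, cj_apply, app_inv_app]
        rw [cj, e, mul_assoc, eo_mul_inv, mul_one]) U (show L U ∈ 𝒮 from hKL ▸ hK) hns'
      refine ⟨d, (0 : Fin (n + 1)).insertNth 1 A, hd, fun p => ?_, ⟨i.succ, by simpa using hi⟩, ?_⟩
      · cases p using Fin.cases with
        | zero => exact .inl (by simp)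
        | succ p => simpa using hA p
      · rw [show d • pur ((0 : Fin (n + 1)).insertNth 1 A) = L (d • pur A) from
          lin_ext 0 fun a q => by rw [LinearMap.smul_apply, pur_cons, hL]; simp]
        exact hAm

end Cfsg.Agent.C7S
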