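import Cfsg.Agent.Lib.C7S.Pattern

/-!
# A pure unipotent element with no identity factor

If an overgroup `M` contains a non-scalar position element, it contains one whose factors are `b b^`
in all positions, or in all but one, where it is `b c^ - c b^` (or `1`, for `k = 2`).
-/

set_option autoImplicit false
set_option linter.unusedSectionVars false

namespace Cfsg.Agent.C7S

open Matrix Module Cfsg.Agent.Transvect
open Cfsg.Agent.C7 (J T ct kr)
open scoped MatrixGroups

variable {F : Type*} [Field F] {k n : ℕ}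

namespace Sf

variable (S : Sf F k)

/-- The standing properties of the overgroup. -/
structure Ctx (M : Subgroup (GL (J k (n + 2)) F)) : Prop where
  roots : S.HasRoots M
  perm : PermM M
  iso : ∀ g ∈ M, S.Iso (n + 2) g
  quad : (2 : F) = 0 → ∀ A : Fin (n + 2) → Matrix (Fin k) (Fin k) F,
    PatM M A → ¬ ∀ i, S.IsSm (A i)

open Classical in
/-- The positions with a non-identity factor. -/
noncomputable def supp {N : ℕ} (A : Fin N → Matrix (Fin k) (Fin k) F) : Finset (Fin N) :=
  Finset.univ.filter fun i => A i ≠ 1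

lemma mem_supp {N : ℕ} {A : Fin N → Matrix (Fin k) (Fin k) F} {i : Fin N} :
    i ∈ supp A ↔ A i ≠ 1 := by simp [supp]

/-- A pattern in `M` with a factor `b b^` and at least two non-identity factors. -/
def Good (M : Subgroup (GL (J k (n + 2)) F)) (A : Fin (n + 2) → Matrix (Fin k) (Fin k) F) : Prop :=
  PatM M A ∧ (∀ i, S.IsPat (A i)) ∧ (∃ i, S.IsSm (A i)) ∧ 2 ≤ (supp A).card

variable {S}

lemma IsPat.nontriv {A : Matrix (Fin k) (Fin k) F} (h : S.IsPat A) (h1 : A ≠ 1) :
    S.IsSm A ∨ S.IsLam A :=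
  h.resolve_left h1

variable {M : Subgroup (GL (J k (n + 2)) F)}

open Classical in
/-- An odd number of factors `b b^`. -/
lemma odd_sm (hk : 0 < k) (hC : S.Ctx M) (h2 : (2 : F) ≠ 0)
    {A : Fin (n + 2) → Matrix (Fin k) (Fin k) F} (hA : PatM M A) (hp : ∀ i, S.IsPat (A i))
    {q : Fin (n + 2)} (hq : A q ≠ 1) :
    Odd (Finset.univ.filter fun i => S.IsSm (A i)).card := by
  obtain ⟨d, hd, g, hg, e⟩ := hA
  have hsq := patM_sq ((hp q).sq hq) d
  have hsk := S.skew_of_iso (hC.iso g hg) e hsq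
  have hε := S.pw_pur (A := A) (ε := fun i => if S.IsSm (A i) then (-1 : F) else 1) fun i u v => by
    split_ifs with h
    · obtain ⟨b, -, hb⟩ := h
      rw [hb]; exact S.sgn_mx b u v
    · rcases hp i with h1 | h1 | ⟨b, c, -, -, -, h1⟩
      · simp [h1]
      · exact absurd h1 h
      · rw [h1]; exact S.sgn_lam b c u v
  rw [Finset.prod_ite, Finset.prod_const_one, mul_one, Finset.prod_const] at hε
  by_contra hne
  rw [(Nat.not_odd_iff_even.1 hne).neg_one_pow] at hε
  refine pur_ne_zero (fun i => (hp i).ne_zero hk) (LinearMap.ext fun y => ?_)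
  refine S.pw_nd fun x => ?_
  rw [S.pw_comm]
  have h := hsk x y
  simp only [LinearMap.smul_apply, map_smul, smul_eq_mul, hε, one_mul] at h
  have h' : (2 * d) * S.pw (n + 2) x (pur A y) = 0 := by linear_combination h
  rw [(mul_eq_zero.1 h').resolve_left (mul_ne_zero h2 hd), mul_zero]

lemma cjg_one {A' : Matrix (Fin k) (Fin k) F} (h : S.Cjg 1 A') : A' = 1 := by
  obtain ⟨B, -, rfl⟩ := h
  simp

variable [Fintype F]

/-- One more position. -/
lemma grow (hR : Reg F k) (hk : k ≠ 2) (hC : S.Ctx M) {A : Fin (n + 2) → Matrix (Fin k) (Fin k) F}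
    (hA : S.Good M A) {y : Fin (n + 2)} (hy : A y = 1) :
    ∃ C, S.Good M C ∧ (supp A).card < (supp C).card := by
  classical
  have hk0 : 0 < k := by have := hR.two_le; omega
  obtain ⟨hM, hp, ⟨x, hx⟩, hcard⟩ := hA
  obtain ⟨p, hpT, hpx⟩ := Finset.exists_mem_ne (by omega : 1 < (supp A).card) x
  rw [mem_supp] at hpT
  have hx1 : A x ≠ 1 := hx.ne_one hk0
  have hxy : x ≠ y := fun h => hx1 (h ▸ hy)
  have hpy : p ≠ y := fun h => hpT (h ▸ hy)
  set σ := Equiv.swap x y * Equiv.swap x p with hσdef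
  have hσ : Equiv.Perm.sign σ = 1 := by
    rw [hσdef, map_mul, Equiv.Perm.sign_swap hxy, Equiv.Perm.sign_swap hpx.symm]; simp
  have σx : σ x = p := by simp [hσdef, Equiv.swap_apply_of_ne_of_ne hpx hpy]
  have σp : σ p = y := by simp [hσdef]
  have σy : σ y = x := by simp [hσdef, Equiv.swap_apply_of_ne_of_ne hxy.symm hpy.symm]
  have σo : ∀ i, i ≠ x → i ≠ p → i ≠ y → σ i = i := fun i h1 h2 h3 => by
    simp [hσdef, Equiv.swap_apply_of_ne_of_ne h1 h2, Equiv.swap_apply_of_ne_of_ne h1 h3]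
  set I := Finset.univ.filter (fun i => i = x ∨ (i ≠ p ∧ S.IsSm (A i))) with hIdef
  have key : ∀ i, ∃ A' C₀, S.Cjg (A (σ i)) A' ∧ (i ∈ I → S.Ind (A i) A') ∧
      (i ∉ I → S.Com (A i) A' C₀) ∧ (i = p → A' = 1) ∧ (i = y → A' = A x) ∧
      (i = y → C₀ = A x) ∧ (i ∉ I → A i ≠ 1 → C₀ ≠ 1) := by
    intro i
    by_cases hix : i = x
    · subst hix
      obtain ⟨A', hcj, hind⟩ := exists_ind (S := S) hx ((hp p).nontriv hpT)
      exact ⟨A', 1, by rw [σx]; exact hcj, fun _ => hind, fun h => absurd (by simp [hIdef]) h,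
        fun h => absurd h hpx.symm, fun h => absurd h hxy, fun h => absurd h hxy,
        fun h => absurd (by simp [hIdef]) h⟩
    by_cases hip : i = p
    · subst hip
      refine ⟨1, A i, by rw [σp, hy]; exact cjg_refl 1, fun h => ?_, fun _ => (com_one (hp i)).1,
        fun _ => rfl, fun h => absurd h hpy, fun h => absurd h hpy, fun _ _ => hpT⟩
      simp [hIdef, hix] at h
    by_cases hiy : i = y
    · subst hiy
      refine ⟨A x, A x, by rw [σy]; exact cjg_refl _, fun h => ?_, fun _ => ?_,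
        fun h => absurd h hip, fun _ => rfl, fun _ => rfl, fun _ _ => hx1⟩
      · simp [hIdef, hix] at h
        rw [hy] at h
        exact absurd rfl (h.2.ne_one hk0)
      · rw [hy]; exact (com_one (hp x)).2
    rw [σo i hix hip hiy]
    rcases hp i with h1 | h1 | h1
    · refine ⟨1, 1, by rw [h1]; exact cjg_refl 1, fun h => ?_, fun _ => ?_, fun h => absurd h hip,
        fun h => absurd h hiy, fun h => absurd h hiy, fun _ h => absurd h1 h⟩
      · simp [hIdef, hix, h1] at h
        exact absurd rfl (h.2.ne_one hk0)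
      · rw [h1]; exact (com_one (.inl rfl)).1
    · obtain ⟨A', hcj, hind⟩ := exists_ind (S := S) h1 (.inl h1)
      exact ⟨A', 1, hcj, fun _ => hind, fun h => absurd (by simp [hIdef, hip, h1]) h,
        fun h => absurd h hip, fun h => absurd h hiy, fun h => absurd h hiy,
        fun h => absurd (by simp [hIdef, hip, h1]) h⟩
    · by_cases hs : S.IsSm (A i)
      · obtain ⟨A', hcj, hind⟩ := exists_ind (S := S) hs (.inl hs)
        exact ⟨A', 1, hcj, fun _ => hind, fun h => absurd (by simp [hIdef, hip, hs]) h,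
          fun h => absurd h hip, fun h => absurd h hiy, fun h => absurd h hiy,
          fun h => absurd (by simp [hIdef, hip, hs]) h⟩
      · obtain ⟨A', E, hcj, hE, hcom, -, -⟩ := exists_deg (S := S) h1
        exact ⟨A', E, hcj, fun h => absurd h (by simp [hIdef, hix, hs]), fun _ => hcom,
          fun h => absurd h hip, fun h => absurd h hiy, fun h => absurd h hiy,
          fun _ _ => hE.ne_one hk0⟩
  choose A' C₀ hcj hind hcom hA'p hA'y hC₀y hne using key
  have hyI : y ∉ I := by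
    simp [hIdef, hxy.symm, hy]
    exact fun _ h => (h.ne_one hk0) rfl
  have hpI : p ∉ I := by simp [hIdef, hpx]
  obtain ⟨C, hCM, hCout, j, hjI, hCI, hCj⟩ := comb (S := S) hR hC.roots hM
    ((hM.perm hC.perm hσ).cjg hC.roots hcj) I hind hcom ⟨x, hx.sq⟩ ⟨y, by rw [hA'y y rfl]; exact hx.sq⟩
    ⟨p, by rw [hA'p p rfl, mul_one]; exact (hp p).sq hpT⟩
    ⟨y, by rw [hy, mul_one, hA'y y rfl]; exact hx.sq⟩ hyI
    (by rw [hC₀y y rfl]; exact hx) ⟨x, by simp [hIdef]⟩
  have hCy : C y = A x := by rw [hCout y hyI, hC₀y y rfl]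
  have hsub : insert y (supp A) ⊆ supp C := fun i hi => by
    rw [mem_supp]
    by_cases hiI : i ∈ I
    · by_cases hij : i = j
      · subst hij
        rcases hCj with h | h | h
        · exact h.ne_one hk0
        · exact h.ne_one hk0
        · exact absurd h.2 hk
      · exact (hCI i hiI hij).ne_one hk0
    · rcases Finset.mem_insert.1 hi with rfl | hi
      · rw [hCy]; exact hx1
      · rw [hCout i hiI]; exact hne i hiI (mem_supp.1 hi)
  have hlt : (supp A).card < (supp C).card := by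
    refine lt_of_lt_of_le ?_ (Finset.card_le_card hsub)
    rw [Finset.card_insert_of_notMem (by simp [mem_supp, hy])]
    omega
  refine ⟨C, ⟨hCM, fun i => ?_, ⟨y, hCy ▸ hx⟩, by omega⟩, hlt⟩
  by_cases hiI : i ∈ I
  · by_cases hij : i = j
    · subst hij; exact hCj.elim (fun h => .inr (.inl h)) fun h =>
        h.elim (fun h => .inr (.inr h)) fun h => .inl h.1
    · exact .inr (.inl (hCI i hiI hij))
  · rw [hCout i hiI]; exact (hcom i hiI).1

/-- Two more positions, for `k = 2`. -/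
lemma grow_two (hR : Reg F k) (hk : k = 2) (hC : S.Ctx M)
    {A : Fin (n + 2) → Matrix (Fin k) (Fin k) F} (hA : S.Good M A) (h3 : 3 ≤ (supp A).card)
    {y z : Fin (n + 2)} (hyz : y ≠ z) (hy : A y = 1) (hz : A z = 1) :
    ∃ C, S.Good M C ∧ (supp A).card < (supp C).card := by
  classical
  have hk0 : 0 < k := by omega
  obtain ⟨hM, hp, ⟨a, ha⟩, -⟩ := hA
  obtain ⟨p, hpT, hpa⟩ := Finset.exists_mem_ne (by omega : 1 < (supp A).card) a
  rw [mem_supp] at hpT
  have hsm : ∀ i, A i ≠ 1 → S.IsSm (A i) := fun i h =>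
    ((hp i).nontriv h).resolve_right (not_isLam_two hk)
  have ha1 : A a ≠ 1 := ha.ne_one hk0
  have hay : a ≠ y := fun h => ha1 (h ▸ hy)
  have haz : a ≠ z := fun h => ha1 (h ▸ hz)
  have hpy : p ≠ y := fun h => hpT (h ▸ hy)
  have hpz : p ≠ z := fun h => hpT (h ▸ hz)
  set σ := Equiv.swap a y * Equiv.swap p z with hσdef
  have hσ : Equiv.Perm.sign σ = 1 := by
    rw [hσdef, map_mul, Equiv.Perm.sign_swap hay, Equiv.Perm.sign_swap hpz]; simp
  have σa : σ a = y := by simp [hσdef, Equiv.swap_apply_of_ne_of_ne hpa.symm haz]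
  have σp : σ p = z := by simp [hσdef, Equiv.swap_apply_of_ne_of_ne haz.symm hyz.symm]
  have σy : σ y = a := by simp [hσdef, Equiv.swap_apply_of_ne_of_ne hpy.symm hyz]
  have σz : σ z = p := by simp [hσdef, Equiv.swap_apply_of_ne_of_ne hpa hpy]
  have σo : ∀ i, i ≠ a → i ≠ p → i ≠ y → i ≠ z → σ i = i := fun i h1 h2 h3 h4 => by
    simp [hσdef, Equiv.swap_apply_of_ne_of_ne h1 h3, Equiv.swap_apply_of_ne_of_ne h2 h4]
  set I := Finset.univ.filter (fun i => i ≠ a ∧ i ≠ p ∧ A i ≠ 1) with hIdef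
  have key : ∀ i, ∃ A' C₀, S.Cjg (A (σ i)) A' ∧ (i ∈ I → S.Ind (A i) A') ∧
      (i ∉ I → S.Com (A i) A' C₀) ∧ (i = a → A' = 1) ∧ (i = y → A' = A a) ∧
      (i = y → C₀ = A a) ∧ (i = z → C₀ = A p) ∧ (i ∉ I → A i ≠ 1 → C₀ ≠ 1) := by
    intro i
    by_cases hia : i = a
    · subst hia
      exact ⟨1, A i, by rw [σa, hy]; exact cjg_refl 1, fun h => absurd h (by simp [hIdef]),
        fun _ => (com_one (hp i)).1, fun _ => rfl, fun h => absurd h hay, fun h => absurd h hay,
        fun h => absurd h haz, fun _ h => h⟩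
    by_cases hip : i = p
    · subst hip
      exact ⟨1, A i, by rw [σp, hz]; exact cjg_refl 1, fun h => absurd h (by simp [hIdef]),
        fun _ => (com_one (hp i)).1, fun h => absurd h hia, fun h => absurd h hpy,
        fun h => absurd h hpy, fun h => absurd h hpz, fun _ h => h⟩
    by_cases hiy : i = y
    · subst hiy
      exact ⟨A a, A a, by rw [σy]; exact cjg_refl _, fun h => absurd h (by simp [hIdef, hy]),
        fun _ => by rw [hy]; exact (com_one (hp a)).2, fun h => absurd h hia, fun _ => rfl,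
        fun _ => rfl, fun h => absurd h hyz, fun _ h => absurd hy h⟩
    by_cases hiz : i = z
    · subst hiz
      exact ⟨A p, A p, by rw [σz]; exact cjg_refl _, fun h => absurd h (by simp [hIdef, hz]),
        fun _ => by rw [hz]; exact (com_one (hp p)).2, fun h => absurd h hia, fun h => absurd h hiy,
        fun h => absurd h hiy, fun _ => rfl, fun _ h => absurd hz h⟩
    rw [σo i hia hip hiy hiz]
    by_cases h1 : A i = 1
    · exact ⟨1, 1, by rw [h1]; exact cjg_refl 1, fun h => absurd h (by simp [hIdef, h1]),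
        fun _ => by rw [h1]; exact (com_one (.inl rfl)).1, fun h => absurd h hia,
        fun h => absurd h hiy, fun h => absurd h hiy, fun h => absurd h hiz, fun _ h => absurd h1 h⟩
    · obtain ⟨A', hcj, hind⟩ := exists_ind (S := S) (hsm i h1) (.inl (hsm i h1))
      exact ⟨A', 1, hcj, fun _ => hind, fun h => absurd (by simp [hIdef, hia, hip, h1]) h,
        fun h => absurd h hia, fun h => absurd h hiy, fun h => absurd h hiy, fun h => absurd h hiz,
        fun h => absurd (by simp [hIdef, hia, hip, h1]) h⟩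
  choose A' C₀ hcj hind hcom hA'a hA'y hC₀y hC₀z hne using key
  have hyI : y ∉ I := by simp [hIdef, hy]
  have hzI : z ∉ I := by simp [hIdef, hz]
  have hIne : I.Nonempty := by
    obtain ⟨i, hi, hia, hip⟩ : ∃ i ∈ supp A, i ≠ a ∧ i ≠ p := by
      by_contra! h
      have : supp A ⊆ {a, p} := fun i hi => by
        by_cases hia : i = a
        · simp [hia]
        · simp [h i hi hia]
      have := Finset.card_le_card this
      have := Finset.card_le_two (a := a) (b := p)
      omega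
    exact ⟨i, by simp [hIdef, hia, hip, mem_supp.1 hi]⟩
  obtain ⟨C, hCM, hCout, j, hjI, hCI, hCj⟩ := comb (S := S) hR hC.roots hM
    ((hM.perm hC.perm hσ).cjg hC.roots hcj) I hind hcom ⟨a, ha.sq⟩ ⟨y, by rw [hA'y y rfl]; exact ha.sq⟩
    ⟨a, by rw [hA'a a rfl, mul_one]; exact ha.sq⟩ ⟨y, by rw [hy, mul_one, hA'y y rfl]; exact ha.sq⟩ hyI
    (by rw [hC₀y y rfl]; exact ha) hIne
  have hCy : C y = A a := by rw [hCout y hyI, hC₀y y rfl]
  have hsub : insert y (insert z ((supp A).erase j)) ⊆ supp C := fun i hi => by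
    rw [mem_supp]
    by_cases hiI : i ∈ I
    · refine (hCI i hiI fun hij => ?_).ne_one hk0
      subst hij
      simp at hi
      rcases hi with rfl | rfl
      · exact hyI hiI
      · exact hzI hiI
    · rcases Finset.mem_insert.1 hi with rfl | hi
      · rw [hCy]; exact ha1
      rcases Finset.mem_insert.1 hi with rfl | hi
      · rw [hCout i hiI, hC₀z i rfl]; exact hpT
      · rw [hCout i hiI]; exact hne i hiI (mem_supp.1 (Finset.mem_of_mem_erase hi))
  have hlt : (supp A).card < (supp C).card := by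
    refine lt_of_lt_of_le ?_ (Finset.card_le_card hsub)
    rw [Finset.card_insert_of_notMem (by simp [hyz, mem_supp, hy]),
      Finset.card_insert_of_notMem (by simp [mem_supp, hz]),
      Finset.card_erase_of_mem (mem_supp.2 (by
        simp only [hIdef, Finset.mem_filter] at hjI
        exact hjI.2.2.2))]
    omega
  refine ⟨C, ⟨hCM, fun i => ?_, ⟨y, hCy ▸ ha⟩, by omega⟩, hlt⟩
  by_cases hiI : i ∈ I
  · by_cases hij : i = j
    · subst hij; exact hCj.elim (fun h => .inr (.inl h)) fun h =>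
        h.elim (fun h => .inr (.inr h)) fun h => .inl h.1
    · exact .inr (.inl (hCI i hiI hij))
  · rw [hCout i hiI]; exact (hcom i hiI).1

/-- All factors `b b^` but one. -/
lemma conv (hR : Reg F k) (hk : k ≠ 2) (hC : S.Ctx M) {A : Fin (n + 2) → Matrix (Fin k) (Fin k) F}
    (hA : S.Good M A) (hfull : ∀ i, A i ≠ 1) :
    ∃ C, PatM M C ∧ ∃ j, (∀ i, i ≠ j → S.IsSm (C i)) ∧ (S.IsSm (C j) ∨ S.IsLam (C j)) := by
  classical
  obtain ⟨hM, hp, ⟨x, hx⟩, -⟩ := hA
  by_cases hall : ∀ i, S.IsSm (A i)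
  · exact ⟨A, hM, x, fun i _ => hall i, .inl hx⟩
  push Not at hall
  obtain ⟨q, hq⟩ := hall
  have hlam : S.IsLam (A q) := ((hp q).nontriv (hfull q)).resolve_left hq
  set I := Finset.univ.filter (fun i => S.IsSm (A i)) with hIdef
  have key : ∀ i, ∃ A' C₀, S.Cjg (A i) A' ∧ (i ∈ I → S.Ind (A i) A') ∧
      (i ∉ I → S.Com (A i) A' C₀ ∧ S.IsSm C₀ ∧ A i * A' * A i = 0 ∧ A' * A i * A' = 0) ∧
      A' * A' = 0 := by
    intro i
    have hsq : ∀ A', S.Cjg (A i) A' → A' * A' = 0 := by
      rintro _ ⟨B, -, rfl⟩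
      rw [show (B : Matrix (Fin k) (Fin k) F) * A i * ((B⁻¹ : GL (Fin k) F) : Matrix (Fin k) (Fin k) F) *
          ((B : Matrix (Fin k) (Fin k) F) * A i * ((B⁻¹ : GL (Fin k) F) : Matrix (Fin k) (Fin k) F)) =
        (B : Matrix (Fin k) (Fin k) F) * (A i * A i) *
          ((B⁻¹ : GL (Fin k) F) : Matrix (Fin k) (Fin k) F) by simp [mul_assoc]]
      rw [(hp i).sq (hfull i)]; simp
    by_cases hs : S.IsSm (A i)
    · obtain ⟨A', hcj, hind⟩ := exists_ind (S := S) hs (.inl hs)
      exact ⟨A', 1, hcj, fun _ => hind, fun h => absurd (by simp [hIdef, hs]) h, hsq _ hcj⟩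
    · obtain ⟨A', E, hcj, hE, hcom, h1, h2⟩ :=
        exists_deg (S := S) (((hp i).nontriv (hfull i)).resolve_left hs)
      exact ⟨A', E, hcj, fun h => absurd h (by simp [hIdef, hs]), fun _ => ⟨hcom, hE, h1, h2⟩,
        hsq _ hcj⟩
  choose A' C₀ hcj hind hcom hsq using key
  have hqI : q ∉ I := by simp [hIdef, hq]
  obtain ⟨C, hCM, hCout, j, hjI, hCI, hCj⟩ := comb (S := S) hR hC.roots hM (hM.cjg hC.roots hcj) I
    hind (fun i hi => (hcom i hi).1) ⟨x, hx.sq⟩ ⟨x, hsq x⟩ ⟨q, (hcom q hqI).2.2.1⟩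
    ⟨q, (hcom q hqI).2.2.2⟩ hqI (hcom q hqI).2.1 ⟨x, by simp [hIdef, hx]⟩
  refine ⟨C, hCM, j, fun i hij => ?_, hCj.imp id fun h => h.resolve_right fun e => hk e.2⟩
  by_cases hiI : i ∈ I
  · exact hCI i hiI hij
  · rw [hCout i hiI]; exact (hcom i hiI).2.1

/-- The target elements. -/
theorem exists_target (hR : Reg F k) (hC : S.Ctx M)
    (hX : ∃ (q : Fin (n + 2)) (u : Fin k → F) (K : Module.End F (J k (n + 1) → F)),
      u ≠ 0 ∧ (∀ r : F, K ≠ r • 1) ∧ InM M (S.bk q u u K)) :
    ∃ A, PatM M A ∧ (((2 : F) ≠ 0 ∧ Odd (n + 2) ∧ ∀ i, S.IsSm (A i)) ∨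
      ∃ j, (∀ i, i ≠ j → S.IsSm (A i)) ∧ (S.IsLam (A j) ∨ (A j = 1 ∧ k = 2)) ∧
        ((2 : F) = 0 ∨ Even (n + 2))) := by
  classical
  have hk0 : 0 < k := by have := hR.two_le; omega
  obtain ⟨q, u, K, hu, hK, hmem⟩ := hX
  let 𝒮 : AddSubgroup (Module.End F (J k (n + 1) → F)) :=
    { carrier := {K | InM M (S.bk q u u K)}
      zero_mem' := by
        show InM M (S.bk q u u 0)
        rw [S.bk_zero]; exact InM.zero M
      add_mem' := fun {K K'} h h' => by
        show InM M (S.bk q u u (K + K'))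
        rw [S.bk_add]; exact h.add h' (by rw [S.bk_mul, S.alt, zero_smul])
      neg_mem' := fun {K} h => by
        show InM M (S.bk q u u (-K))
        rw [S.bk_neg]; exact h.neg (by rw [S.bk_mul, S.alt, zero_smul]) }
  obtain ⟨d, A, hd, hA, ⟨i, hi⟩, hAm⟩ := S.exists_pattern hR 𝒮 (fun m e j B hB K hK' => by
    cases e
    show InM M (S.bk q u u (cj (kr j 1 B) K))
    have h := InM.conj (hK' : InM M (S.bk q u u K)) (hC.roots.kr_mem (q.succAbove j) hB)
    rwa [S.cj_bk (A := kr j 1 B) (B := 1) (fun a v => by rw [kr_nested, map_one]; rfl)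
      (fun x y => by simp), map_one] at h) K hmem hK
  set A₀ : Fin (n + 2) → Matrix (Fin k) (Fin k) F := q.insertNth (S.mx u u) A with hA₀
  have hA₀M : PatM M A₀ := ⟨d, hd, by rw [hA₀, ← S.bk_pur_cons, ← S.bk_smul]; exact hAm⟩
  have hgood : S.Good M A₀ := by
    refine ⟨hA₀M, fun p => ?_, ⟨q, u, hu, by simp [hA₀]⟩, Finset.one_lt_card.2
      ⟨q, ?_, q.succAbove i, ?_, (q.succAbove_ne i).symm⟩⟩
    · obtain hp | ⟨p', rfl⟩ := q.eq_self_or_eq_succAbove p
      · exact .inr (.inl ⟨u, hu, by simp [hA₀, hp]⟩)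
      · simpa [hA₀] using hA p'
    · rw [mem_supp]; exact IsSm.ne_one (S := S) hk0 ⟨u, hu, by simp [hA₀]⟩
    · rw [mem_supp]; simpa [hA₀] using hi
  have : Finite (Matrix (Fin k) (Fin k) F) := inferInstanceAs (Finite (Fin k → Fin k → F))
  obtain ⟨B, hB, hmax⟩ := Set.exists_max_image {A | S.Good M A}
    (fun A => (supp A).card) (Set.toFinite _) ⟨A₀, hgood⟩
  by_cases hk : k = 2
  · have h2 : (2 : F) ≠ 0 := hR.elim (fun h => h.1) fun h => by omega
    obtain ⟨hBM, hBp, ⟨x, hx⟩, hc⟩ := id hB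
    have hfil : (Finset.univ.filter fun i => S.IsSm (B i)) = supp B := by
      ext i
      simp only [Finset.mem_filter, Finset.mem_univ, true_and, mem_supp]
      exact ⟨fun h => h.ne_one hk0, fun h => ((hBp i).nontriv h).resolve_right (not_isLam_two hk)⟩
    have hodd := odd_sm (S := S) hk0 hC h2 hBM hBp (hx.ne_one hk0)
    rw [hfil] at hodd
    have hsm : ∀ i, B i ≠ 1 → S.IsSm (B i) := fun i h =>
      ((hBp i).nontriv h).resolve_right (not_isLam_two hk)
    by_cases hfull : ∀ i, B i ≠ 1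
    · refine ⟨B, hBM, .inl ⟨h2, ?_, fun i => hsm i (hfull i)⟩⟩
      rwa [show supp B = Finset.univ by ext i; simp [mem_supp, hfull i], Finset.card_univ,
        Fintype.card_fin] at hodd
    push Not at hfull
    obtain ⟨j, hj⟩ := hfull
    have hone : ∀ i, i ≠ j → B i ≠ 1 := fun i hij hi1 => by
      obtain ⟨C, hC', hlt⟩ := grow_two hR hk hC hB (by obtain ⟨r, hr⟩ := hodd; omega) hij hi1 hj
      exact absurd (hmax C hC') (not_le.2 hlt)
    refine ⟨B, hBM, .inr ⟨j, fun i hij => hsm i (hone i hij), .inr ⟨hj, hk⟩, .inr ?_⟩⟩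
    rw [show supp B = Finset.univ.erase j by
      ext i
      rw [mem_supp, Finset.mem_erase]
      exact ⟨fun h => ⟨fun e => h (e ▸ hj), Finset.mem_univ i⟩, fun h => hone i h.1⟩,
      Finset.card_erase_of_mem (Finset.mem_univ j), Finset.card_univ, Fintype.card_fin] at hodd
    obtain ⟨r, hr⟩ := hodd
    exact ⟨r + 1, by omega⟩
  · have hfull : ∀ i, B i ≠ 1 := fun i hi1 => by
      obtain ⟨C, hC', hlt⟩ := grow hR hk hC hB hi1
      exact absurd (hmax C hC') (not_le.2 hlt)
    obtain ⟨C, hCM, j, hCo, hCj⟩ := conv hR hk hC hB hfull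
    have hCp : ∀ i, S.IsPat (C i) := fun i => by
      by_cases hij : i = j
      · exact hij ▸ .inr hCj
      · exact .inr (.inl (hCo i hij))
    by_cases hs : S.IsSm (C j)
    · have hall : ∀ i, S.IsSm (C i) := fun i => if h : i = j then h ▸ hs else hCo i h
      refine ⟨C, hCM, .inl ?_⟩
      have h2 : (2 : F) ≠ 0 := fun h => hC.quad h C hCM hall
      refine ⟨h2, ?_, hall⟩
      have := odd_sm (S := S) hk0 hC h2 hCM hCp (hs.ne_one hk0)
      rwa [Finset.filter_true_of_mem (fun i _ => hall i), Finset.card_univ, Fintype.card_fin] at this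
    · refine ⟨C, hCM, .inr ⟨j, hCo, .inl (hCj.resolve_left hs), ?_⟩⟩
      by_cases h2 : (2 : F) = 0
      · exact .inl h2
      right
      have := odd_sm (S := S) hk0 hC h2 hCM hCp ((hCj.resolve_left hs).ne_one hk0)
      rw [show (Finset.univ.filter fun i => S.IsSm (C i)) = Finset.univ.erase j by
        ext i
        simp only [Finset.mem_filter, Finset.mem_univ, true_and, Finset.mem_erase, and_true]
        exact ⟨fun h e => hs (e ▸ h), hCo i⟩,
        Finset.card_erase_of_mem (Finset.mem_univ j), Finset.card_univ, Fintype.card_fin] at this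
      obtain ⟨r, hr⟩ := this
      exact ⟨r + 1, by omega⟩

end Sf

end Cfsg.Agent.C7S
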