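import Cfsg.Agent.Lib.C7S.Main
import Cfsg.Agent.Lib.C5.Transfer

/-!
# Change of coordinates for the orthogonal tensor-wreath stabiliser

* `Sf.ofSymp` : the structure `Sf` of a symplectic form
* `exists_qd` : the quadratic form in tensor coordinates
* `isMaximalIn_transfer` : maximality in the given coordinates
-/

set_option autoImplicit false
set_option linter.unusedSectionVars false

namespace Cfsg.Agent.C7S

open Matrix Module
open Cfsg.Agent.Transvect hiding pr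
open Cfsg.Agent.C7 (J)
open Cfsg.Agent.C7F (pr)
open QuadraticMap (polar)
open scoped MatrixGroups

variable {F : Type*} [Field F] {k t : ℕ}

/-- The structure of a symplectic form. -/
noncomputable def Sf.ofSymp {f : (Fin k → F) → (Fin k → F) → F}
    (hf : Cfsg.Geo.IsSymplecticForm f) : Sf F k where
  f := LinearMap.mk₂ F f hf.bilinear.add_left
    (fun c x v => by rw [hf.bilinear.smul_left, smul_eq_mul]) hf.bilinear.add_right
    (fun c v x => by rw [hf.bilinear.smul_right, smul_eq_mul])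
  alt := hf.alternating
  nd := fun u h => by
    by_contra hu
    obtain ⟨-, x, hx⟩ := hf.nondegenerate u hu
    exact hx (h x)

lemma Sf.pw_ofSymp {f : (Fin k → F) → (Fin k → F) → F} (hf : Cfsg.Geo.IsSymplecticForm f)
    (x y : J k t → F) : (Sf.ofSymp hf).pw t x y =
      ∑ a, ∑ b, x a * (∏ i, Cfsg.Geo.gramMatrix f (a i) (b i)) * id (y b) := by
  show x ⬝ᵥ (Aschbacher.pureMat (fun _ : Fin t => (Sf.ofSymp hf).gram) *ᵥ y) = _
  simp only [dotProduct, Matrix.mulVec, Finset.mul_sum, id]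
  refine Finset.sum_congr rfl fun a _ => Finset.sum_congr rfl fun b _ => ?_
  rw [Aschbacher.pureMat_apply, mul_assoc]
  rfl

/-- `Ω` is the commutator of the isometry group inside `GL`. -/
lemma omegaGL_eq {ι : Type} [Fintype ι] [DecidableEq ι] (Q : (ι → F) → F) :
    Cfsg.Geo.omegaGL Q = ⁅Cfsg.isometryGroup F Q, Cfsg.isometryGroup F Q⁆ := by
  rw [Cfsg.Geo.omegaGL, Omega, commutator_def, Subgroup.map_commutator, ← MonoidHom.range_eq_map,
    Subgroup.range_subtype]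

variable {ι : Type} [Fintype ι] [DecidableEq ι]

/-- The form in tensor coordinates. -/
lemma exists_qd {Q : (ι → F) → F} (hQ : Cfsg.Geo.IsNondegenerateQuadraticForm Q)
    {f : (Fin k → F) → (Fin k → F) → F} (hf : Cfsg.Geo.IsSymplecticForm f) {n : ℕ}
    (e : ι ≃ J k (n + 1)) (P : GL ι F)
    (hT : Cfsg.Geo.IsTensorPowerFormStructure id (polar Q) f e P)
    (hpure : ∀ xs : Fin (n + 1) → Fin k → F,
      Q (Matrix.mulVec (P : Matrix ι ι F) ((fun a : J k (n + 1) => ∏ i, xs i (a i)) ∘ e)) = 0) :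
    ∃ Q₀ : QuadraticForm F (J k (n + 1) → F), (Sf.ofSymp hf).Qd Q₀ ∧
      (Cfsg.isometryGroup F ⇑Q₀).map (C7F.carry e P).toMonoidHom = Cfsg.isometryGroup F Q := by
  obtain ⟨c, hc, hpol⟩ := hT
  let L : (J k (n + 1) → F) →ₗ[F] (ι → F) :=
    Matrix.mulVecLin (P : Matrix ι ι F) ∘ₗ LinearMap.funLeft F F e
  let Q₀ : QuadraticForm F (J k (n + 1) → F) := c⁻¹ • (Orth.ofND hQ).comp L
  have hQ₀ : ∀ x, Q₀ x = c⁻¹ * Q ((P : Matrix ι ι F) *ᵥ (x ∘ e)) := fun x => rfl
  refine ⟨Q₀, ⟨fun x y => ?_, fun p => ?_⟩, ?_⟩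
  · rw [Sf.pw_ofSymp hf, ← mul_right_inj' hc, ← hpol x y]
    simp only [polar, hQ₀]
    have e1 : ((P : Matrix ι ι F) *ᵥ ((x + y) ∘ e)) =
        (P : Matrix ι ι F) *ᵥ (x ∘ e) + (P : Matrix ι ι F) *ᵥ (y ∘ e) := by
      rw [← Matrix.mulVec_add]; rfl
    rw [e1]
    field_simp
  · rw [hQ₀, show Q ((P : Matrix ι ι F) *ᵥ (pr p ∘ e)) = 0 from hpure p, mul_zero]
  · ext g
    obtain ⟨g, rfl⟩ := (C7F.carry e P).surjective g
    rw [Subgroup.mem_map_equiv, MulEquiv.symm_apply_apply]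
    constructor
    · intro h v _
      obtain ⟨x, rfl⟩ := C7F.exists_coord e P v
      show Q (app (C7F.carry e P g) _) = Q _
      rw [C7F.app_carry]
      exact mul_left_cancel₀ (inv_ne_zero hc) (h x x)
    · intro h x _
      have h1 : Q (app (C7F.carry e P g) ((P : Matrix ι ι F) *ᵥ (x ∘ e))) =
          Q ((P : Matrix ι ι F) *ᵥ (x ∘ e)) := h _ ((P : Matrix ι ι F) *ᵥ (x ∘ e))
      rw [C7F.app_carry] at h1
      show Q₀ (app g x) = Q₀ x
      rw [hQ₀, hQ₀, h1]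

/-- Maximality in the given coordinates. -/
theorem isMaximalIn_transfer [Fintype F] {Q : (ι → F) → F}
    (hQ : Cfsg.Geo.IsNondegenerateQuadraticForm Q) {f : (Fin k → F) → (Fin k → F) → F}
    (hf : Cfsg.Geo.IsSymplecticForm f) (hR : Reg F k) {n : ℕ} (hcard : 5 ≤ Fintype.card ι)
    (e : ι ≃ J k (n + 2)) (P : GL ι F)
    (hT : Cfsg.Geo.IsTensorPowerFormStructure id (polar Q) f e P)
    (hpure : ∀ xs : Fin (n + 2) → Fin k → F,
      Q (Matrix.mulVec (P : Matrix ι ι F) ((fun a : J k (n + 2) => ∏ i, xs i (a i)) ∘ e)) = 0) :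
    Cfsg.Geo.IsMaximalIn (Cfsg.Geo.omegaGL Q)
      (Cfsg.Geo.tensorWreathSubgroup k (n + 2) e P ⊓ Cfsg.Geo.omegaGL Q) := by
  obtain ⟨Q₀, hS, hmap⟩ := exists_qd hQ hf e P hT hpure
  have h := C5.isMaximalIn_map (C7F.carry e P)
    (Sf.isMaximalIn_omega hR hS (Fintype.card_congr e ▸ hcard))
  have hΩ : (Cfsg.Geo.omegaGL ⇑Q₀).map (C7F.carry e P).toMonoidHom = Cfsg.Geo.omegaGL Q := by
    rw [omegaGL_eq, omegaGL_eq, Subgroup.map_commutator, hmap]
  rwa [Subgroup.map_inf _ _ (C7F.carry e P).toMonoidHom (C7F.carry e P).injective, hΩ,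
    C7F.map_carry] at h

end Cfsg.Agent.C7S
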